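import Groth.Agent.Devissage.PowSub
import Groth.Agent.QC.Coherent
import Groth.Agent.QC.Closure
import Groth.Agent.ClSubLib.EssSurj

/-!
The quotient `M / K^m M`.
-/

set_option autoImplicit false
set_option backward.isDefEq.respectTransparency false
set_option backward.isDefEq.respectTransparency.types false
set_option linter.style.haveILetI false

universe u

open CategoryTheory CategoryTheory.Limits AlgebraicGeometry TopologicalSpace Opposite
open Groth.Agent.QC (res res_res res_smul app_res appₗ)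

noncomputable section

namespace Groth.Agent.W7Exist

variable {X : Scheme.{u}} (K : X.IdealSheafData) (m : ℕ)

/-- Vanishing on affine opens gives vanishing. -/
lemma hom_eq_zero_of_affine {M N : X.Modules} (φ : M ⟶ N)
    (h : ∀ (U : X.affineOpens) (s : Γ(M, U.1)), φ.app U.1 s = 0) : φ = 0 := by
  refine Scheme.Modules.hom_ext _ _ fun W => ?_
  ext s
  refine QC.section_eq_of_locally fun x hx => ?_
  obtain ⟨U, hxU, hUW⟩ := ClSubLib.exists_affine_le hx
  exact ⟨U.1, hUW, hxU, by rw [app_res, h]; exact (map_zero _).symm⟩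

variable {M : X.Modules} (hM : Coh.IsQCoh M)

/-- `M / K^m M`. -/
def quotK : X.Modules := cokernel (Devissage.powSub K m M hM).ι

/-- The projection to `M / K^m M`. -/
def quotKπ : M ⟶ quotK K m hM := cokernel.π _

instance : Epi (quotKπ K m hM) := inferInstanceAs (Epi (cokernel.π _))

include hM in
lemma isQCoh_quotK : Coh.IsQCoh (quotK K m hM) := QC.isQCoh_cokernel (Devissage.isQCoh_powSub K m hM) hM _

/-- The kernel of the projection on affine sections. -/
lemma quotKπ_app_eq_zero_iff (U : X.affineOpens) (s : Γ(M, U.1)) :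
    (quotKπ K m hM).app U.1 s = 0 ↔ s ∈ (K.ideal U ^ m) • (⊤ : Submodule Γ(X, U.1) Γ(M, U.1)) := by
  let S := Devissage.powSub K m M hM
  have hk := QC.mem_range_kernel_app (cokernel.π S.ι) U.1 s
  rw [← Devissage.mem_powSub_affine K m hM U s, ← S.range_ι_app]
  constructor
  · intro h
    obtain ⟨z, hz⟩ := hk.2 h
    let e : S.toModules ⟶ kernel (cokernel.π S.ι) := kernel.lift _ S.ι (cokernel.condition _)
    haveI : IsIso e := inferInstanceAs (IsIso (Abelian.factorThruImage S.ι))
    obtain ⟨z', rfl⟩ := (ConcreteCategory.bijective_of_isIso (e.app U.1)).2 z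
    exact ⟨z', (congr(($(kernel.lift_ι (cokernel.π S.ι) S.ι (cokernel.condition _))).app U.1 z')).symm.trans hz⟩
  · rintro ⟨z, rfl⟩
    exact congr(($(cokernel.condition S.ι)).app U.1 z)

lemma killedBy_quotK : ClSub.KilledByIdeal (K ^ m) (quotK K m hM) := fun U a ha x => by
  obtain ⟨s, rfl⟩ := QC.app_surjective_of_epi U.2 hM (isQCoh_quotK K m hM) (quotKπ K m hM) x
  refine (Scheme.Modules.Hom.app_smul (quotKπ K m hM) a s).symm.trans ?_
  refine (quotKπ_app_eq_zero_iff K m hM U (a • s)).2 (Submodule.smul_mem_smul ?_ trivial)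
  simpa only [Scheme.IdealSheafData.ideal_pow, Pi.pow_apply] using ha

lemma isCoh_quotK [IsLocallyNoetherian X] (hc : Coh.IsCoh M) : Coh.IsCoh (quotK K m hc.1) :=
  QC.isCoh_of_epi hc (isQCoh_quotK K m hc.1) (quotKπ K m hc.1)

/-- Maps to modules killed by `K^m` descend. -/
lemma exists_desc_quotK {P : X.Modules} (φ : M ⟶ P) (hP : ClSub.KilledByIdeal (K ^ m) P) :
    ∃ ψ, quotKπ K m hM ≫ ψ = φ := by
  refine ⟨cokernel.desc _ φ (hom_eq_zero_of_affine _ fun U s => ?_), cokernel.π_desc _ _ _⟩
  let S := Devissage.powSub K m M hM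
  have hs : S.ι.app U.1 s ∈ S.obj U.1 := (S.range_ι_app _ _).1 ⟨s, rfl⟩
  rw [Devissage.mem_powSub_affine K m hM U] at hs
  change φ.app U.1 (S.ι.app U.1 s) = 0
  refine Submodule.smul_induction_on (p := fun x => φ.app U.1 x = 0) hs (fun a ha x _ => ?_) fun a b ha hb => ?_
  · rw [Scheme.Modules.Hom.app_smul]
    exact hP U a (by simpa only [Scheme.IdealSheafData.ideal_pow, Pi.pow_apply] using ha) _
  · rw [map_add, ha, hb, add_zero]

lemma killedBy_of_mono {A B : X.Modules} (i : A ⟶ B) [Mono i] (hB : ClSub.KilledByIdeal (K ^ m) B) :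
    ClSub.KilledByIdeal (K ^ m) A := fun U a ha x =>
  QC.app_injective_of_mono i U.1 (by
    rw [map_zero]
    exact (Scheme.Modules.Hom.app_smul i a x).trans (hB U a ha _))

lemma killedBy_of_epi {A B : X.Modules} (hA : Coh.IsQCoh A) (hB : Coh.IsQCoh B) (p : A ⟶ B) [Epi p]
    (h : ClSub.KilledByIdeal (K ^ m) A) : ClSub.KilledByIdeal (K ^ m) B := fun U a ha x => by
  obtain ⟨y, rfl⟩ := QC.app_surjective_of_epi U.2 hA hB p x
  exact (Scheme.Modules.Hom.app_smul p a y).symm.trans ((congrArg (p.app U.1) (h U a ha y)).trans (map_zero _))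

end Groth.Agent.W7Exist
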