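import Groth.Agent.W7Exist.Algebraize
import Groth.Agent.W7Exist.QuotK
import Groth.Agent.W7Rees.HomLoc

/-!
Elementary operations on coherent formal modules: descents, cokernels, quotients by powers of an ideal sheaf.
-/

set_option autoImplicit false
set_option backward.isDefEq.respectTransparency false
set_option backward.isDefEq.respectTransparency.types false
set_option linter.style.haveILetI false
set_option maxHeartbeats 1000000

universe u

open CategoryTheory CategoryTheory.Limits AlgebraicGeometry TopologicalSpace Opposite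
open Groth.Agent.QC (res res_res res_smul app_res appₗ)

noncomputable section

namespace Groth.Agent.W7Exist

section Cover

variable {X : Scheme.{u}}

/-- Vanishing on the affines of a cover gives vanishing. -/
lemma hom_eq_zero_of_cover {κ : Type u} (V : κ → X.Opens) (hV : ∀ i, IsAffineOpen (V i))
    (hcov : ∀ x : X, ∃ i, x ∈ V i) {M N : X.Modules} (hM : Coh.IsQCoh M) (φ : M ⟶ N)
    (h : ∀ i (s : Γ(M, V i)), φ.app (V i) s = 0) : φ = 0 := by
  refine Scheme.Modules.hom_ext _ _ fun W => ?_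
  ext t
  refine QC.section_eq_of_locally fun x hx => ?_
  obtain ⟨i, hi⟩ := hcov x
  obtain ⟨g, hg, hxg⟩ := (hV i).exists_basicOpen_le (V := W) ⟨x, hx⟩ hi
  refine ⟨X.basicOpen g, hg, hxg, ?_⟩
  obtain ⟨n, s, hs⟩ := (QC.isLoc_of_isQCoh (hV i) (hM := hM)).exists_extend g (res _ hg t)
  have hs' := congrArg (φ.app (X.basicOpen g)) hs
  rw [← app_res, h i s, map_zero, Scheme.Modules.Hom.app_smul, ← app_res] at hs'
  have hu : IsUnit (QC.resO X (X.basicOpen_le g) g ^ n : Γ(X, X.basicOpen g)) :=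
    (RingedSpace.isUnit_res_basicOpen X.toRingedSpace g).pow n
  exact (hu.smul_eq_zero.mp hs'.symm).trans (map_zero _).symm

end Cover

variable {A : Type u} [CommRing A] {X : Scheme.{u}} [X.Over (Spec (CommRingCat.of A))] (I : Ideal A)

/-- The map induced on quotients by `I^n`. -/
def modMap (n : ℕ) {M N : X.Modules} (f : M ⟶ N) : Formal.modPow I n M ⟶ Formal.modPow I n N :=
  (exists_desc_modPow I n (f ≫ Formal.modPowπ I n N) fun a ha => by
    rw [← Category.assoc, W7Cech.smulMod_natural, Category.assoc, smulMod_π I n N a ha, comp_zero]).choose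

@[reassoc]
lemma π_modMap (n : ℕ) {M N : X.Modules} (f : M ⟶ N) :
    Formal.modPowπ I n M ≫ modMap I n f = f ≫ Formal.modPowπ I n N :=
  (exists_desc_modPow I n (f ≫ Formal.modPowπ I n N) fun a ha => by
    rw [← Category.assoc, W7Cech.smulMod_natural, Category.assoc, smulMod_π I n N a ha, comp_zero]).choose_spec

@[reassoc]
lemma modMap_trans (n : ℕ) {M N : X.Modules} (f : M ⟶ N) :
    modMap I (n + 1) f ≫ Formal.modPowTrans I n N = Formal.modPowTrans I n M ≫ modMap I n f := by
  rw [← cancel_epi (Formal.modPowπ I (n + 1) M), π_modMap_assoc, Formal.modPowπ_trans, ← Category.assoc,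
    Formal.modPowπ_trans, π_modMap]

/-- The induced map of completions. -/
def cMap {M N : X.Modules} (f : M ⟶ N) : Formal.completion I M ⟶ Formal.completion I N :=
  NatTrans.ofOpSequence (fun n => modMap I (n + 1) f) fun n => by
    rw [completion_map_succ, completion_map_succ]
    exact (modMap_trans I (n + 1) f).symm

lemma cMap_app {M N : X.Modules} (f : M ⟶ N) (n : ℕ) : (cMap I f).app (op n) = modMap I (n + 1) f := rfl

/-- The map from level `N` to level `n`. -/
abbrev trG (G : ℕᵒᵖ ⥤ X.Modules) {n N : ℕ} (h : n ≤ N) : G.obj (op N) ⟶ G.obj (op n) := G.map (homOfLE h).op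

lemma trG_comp (G : ℕᵒᵖ ⥤ X.Modules) {l n N : ℕ} (h : n ≤ N) (h' : l ≤ n) :
    trG G h ≫ trG G h' = trG G (h'.trans h) := by
  rw [trG, trG, trG, ← G.map_comp, ← op_comp, homOfLE_comp]

lemma trG_self (G : ℕᵒᵖ ⥤ X.Modules) (n : ℕ) : trG G (le_refl n) = 𝟙 _ := by
  rw [trG, Subsingleton.elim (homOfLE (le_refl n)) (𝟙 n), op_id, G.map_id]

/-- A compatible family of maps commutes with all the maps to lower levels. -/
lemma fam_trG (G : ℕᵒᵖ ⥤ X.Modules) {T : X.Modules} (g : ∀ n, T ⟶ G.obj (op n)) (hg : ∀ n, g (n + 1) ≫ tn G n = g n)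
    {n N : ℕ} (h : n ≤ N) : g N ≫ trG G h = g n := by
  induction N, h using Nat.le_induction with
  | base => rw [trG_self, Category.comp_id]
  | succ N h ih => rw [← trG_comp G (Nat.le_succ N) h, ← Category.assoc]; exact (congrArg (· ≫ _) (hg N)).trans ih

lemma π_succ (M : X.Modules) (n : ℕ) :
    Formal.modPowπ I (n + 1 + 1) M ≫ tn (Formal.completion I M) n = Formal.modPowπ I (n + 1) M :=
  (congrArg (_ ≫ ·) (completion_map_succ I M n)).trans (Formal.modPowπ_trans I (n + 1) M)

lemma π_trG (M : X.Modules) {n N : ℕ} (h : n ≤ N) :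
    Formal.modPowπ I (N + 1) M ≫ trG (Formal.completion I M) h = Formal.modPowπ I (n + 1) M :=
  fam_trG (Formal.completion I M) (fun n => Formal.modPowπ I (n + 1) M) (π_succ I M) h

lemma killedBy_le {n N : ℕ} (h : n ≤ N) {M : X.Modules} (hM : Formal.KilledBy (I ^ n) M) :
    Formal.KilledBy (I ^ N) M := fun a ha => hM a (Ideal.pow_le_pow_right h ha)

variable {I} {G : ℕᵒᵖ ⥤ X.Modules} (hG : Formal.IsCohFormal I G)

include hG in
lemma epi_trG {n N : ℕ} (h : n ≤ N) : Epi (trG G h) := by
  induction N, h using Nat.le_induction with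
  | base => rw [trG_self]; infer_instance
  | succ N h ih =>
    rw [← trG_comp G (Nat.le_succ N) h]
    haveI := epi_tn hG N
    haveI := ih
    exact epi_comp _ _

include hG in
/-- Maps to modules killed by `I^(n+1)` descend to level `n`. -/
lemma exists_desc_trG {n N : ℕ} (h : n ≤ N) {P : X.Modules} (hP : Formal.KilledBy (I ^ (n + 1)) P)
    (f : G.obj (op N) ⟶ P) : ∃ g, trG G h ≫ g = f := by
  induction N, h using Nat.le_induction with
  | base => exact ⟨f, by rw [trG_self, Category.id_comp]⟩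
  | succ N h ih =>
    obtain ⟨f', hf'⟩ := exists_desc hG N f fun a ha => by
      rw [W7Cech.smulMod_natural, hP a (Ideal.pow_le_pow_right (by omega) ha), comp_zero]
    obtain ⟨g, hg⟩ := ih f'
    exact ⟨g, by rw [← trG_comp G (Nat.le_succ N) h, Category.assoc, hg]; exact hf'⟩

include hG in
lemma app_trG_surjective {n N : ℕ} (h : n ≤ N) {V : X.Opens} (hV : IsAffineOpen V) :
    Function.Surjective ((trG G h).app V) := by
  haveI := epi_trG hG h
  exact QC.app_surjective_of_epi hV (hG.1 N).1 (hG.1 n).1 _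

include hG in
/-- The kernel of a transition map on affine sections. -/
lemma tn_app_eq_zero_iff (n : ℕ) {V : X.Opens} (hV : IsAffineOpen V) (s : Γ(G.obj (op (n + 1)), V)) :
    (tn G n).app V s = 0 ↔
      s ∈ ((I.map (W7Cech.secRing A V)) ^ (n + 1) • ⊤ : Submodule Γ(X, V) Γ(G.obj (op (n + 1)), V)) := by
  rw [← W7Rees.π_app_eq_zero_iff I (hG.1 (n + 1)).1 hV]
  obtain ⟨g, hg⟩ := exists_desc_modPow I (n + 1) (tn G n) fun a ha => by
    rw [W7Cech.smulMod_natural, hG.2.1 n a ha, comp_zero]
  obtain ⟨w, hw⟩ := exists_desc hG n (Formal.modPowπ I (n + 1) (G.obj (op (n + 1)))) fun a ha =>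
    smulMod_π I (n + 1) _ a ha
  constructor
  · intro h
    refine (congr(($hw).app V s)).symm.trans ?_
    change w.app V ((tn G n).app V s) = 0
    rw [h, map_zero]
  · intro h
    refine (congr(($hg).app V s)).symm.trans ?_
    change g.app V ((Formal.modPowπ I (n + 1) (G.obj (op (n + 1)))).app V s) = 0
    rw [h, map_zero]

/-- A module killed by an ideal of the base, on sections. -/
lemma smul_eq_zero_of_killedBy {J : Ideal A} {M : X.Modules} (hM : Formal.KilledBy J M) (V : X.Opens)
    (a : Γ(X, V)) (ha : a ∈ J.map (W7Cech.secRing A V)) (x : Γ(M, V)) : a • x = 0 := by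
  refine Submodule.span_induction (p := fun a _ => a • x = 0) ?_ (zero_smul _ _) ?_ ?_ ha
  · rintro _ ⟨b, hb, rfl⟩
    exact congr(($(hM b hb)).app V x)
  · intro a b _ _ ha hb
    rw [add_smul, ha, hb, add_zero]
  · intro c a _ ha
    rw [smul_eq_mul, mul_smul, ha, smul_zero]

variable (I) in
/-- A criterion for a system to be a coherent formal module. -/
lemma isCohFormal_of (Q : ℕ → X.Modules) (t : ∀ n, Q (n + 1) ⟶ Q n) (hc : ∀ n, Coh.IsCoh (Q n))
    (hk : ∀ n, Formal.KilledBy (I ^ (n + 1)) (Q n)) (he : ∀ n, Epi (t n))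
    (hu : ∀ n, ∃ w, t n ≫ w = cokernel.π (Formal.smulFamily (I ^ (n + 1)) (Q (n + 1)))) :
    Formal.IsCohFormal I (Functor.ofOpSequence t) := by
  refine ⟨hc, hk, fun n => ?_⟩
  rw [Functor.ofOpSequence_map_homOfLE_succ]
  change ∃ h : Formal.smulFamily (I ^ (n + 1)) (Q (n + 1)) ≫ t n = 0, IsIso (cokernel.desc _ _ h)
  have h : Formal.smulFamily (I ^ (n + 1)) (Q (n + 1)) ≫ t n = 0 := Sigma.hom_ext _ _ fun a => by
    rw [comp_zero, ← Category.assoc, show Sigma.ι (fun _ : ↥(I ^ (n + 1)) => Q (n + 1)) a ≫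
      Formal.smulFamily (I ^ (n + 1)) (Q (n + 1)) = Formal.smulMod A _ (a : A) from Sigma.ι_desc _ a,
      W7Cech.smulMod_natural, hk n a a.2, comp_zero]
  obtain ⟨w, hw⟩ := hu n
  haveI := he n
  refine ⟨h, ⟨w, ?_, ?_⟩⟩
  · rw [← cancel_epi (cokernel.π (Formal.smulFamily (I ^ (n + 1)) (Q (n + 1)))), ← Category.assoc,
      cokernel.π_desc, hw, Category.comp_id]
  · rw [← cancel_epi (t n), ← Category.assoc, hw, cokernel.π_desc, Category.comp_id]

section Coker

variable {F : ℕᵒᵖ ⥤ X.Modules} (hF : Formal.IsCohFormal I F) (j : F ⟶ G)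

/-- The levelwise cokernel. -/
def cokF : ℕᵒᵖ ⥤ X.Modules :=
  Functor.ofOpSequence (X := fun n => cokernel (j.app (op n))) fun n =>
    cokernel.map _ _ (tn F n) (tn G n) (j.naturality _).symm

/-- The projection to the levelwise cokernel. -/
def cokFπ (n : ℕ) : G.obj (op n) ⟶ (cokF j).obj (op n) := cokernel.π (j.app (op n))

lemma cokFπ_tn (n : ℕ) : cokFπ j (n + 1) ≫ tn (cokF j) n = tn G n ≫ cokFπ j n := by
  refine (congrArg (cokFπ j (n + 1) ≫ ·) (Functor.ofOpSequence_map_homOfLE_succ _ n)).trans ?_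
  exact cokernel.π_desc _ _ _

include hG hF in
lemma isCohFormal_cokF : Formal.IsCohFormal I (cokF j) := by
  refine isCohFormal_of I _ _ (fun n => QC.isCoh_cokernel (hF.1 n).1 (hG.1 n) _) (fun n a ha => ?_) (fun n => ?_)
    fun n => ?_
  · rw [← cancel_epi (cokernel.π (j.app (op n))), comp_zero, ← W7Cech.smulMod_natural, hG.2.1 n a ha, zero_comp]
  · haveI := epi_tn hG n
    haveI : Epi (cokernel.π (j.app (op (n + 1))) ≫ cokernel.map _ _ (tn F n) (tn G n) (j.naturality _).symm) := by
      rw [cokernel.π_desc]; exact epi_comp _ _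
    exact epi_of_epi (cokernel.π (j.app (op (n + 1)))) _
  · let z := cokernel.π (Formal.smulFamily (I ^ (n + 1)) (cokernel (j.app (op (n + 1)))))
    obtain ⟨w, hw⟩ := exists_desc hG n (cokernel.π (j.app (op (n + 1))) ≫ z) fun a ha => by
      rw [← Category.assoc, W7Cech.smulMod_natural, Category.assoc]
      refine (congrArg (cokernel.π _ ≫ ·) ?_).trans comp_zero
      exact smulMod_π I (n + 1) _ a ha
    haveI := epi_tn hF n
    refine ⟨cokernel.desc _ w ?_, ?_⟩
    · rw [← cancel_epi (tn F n), comp_zero, ← Category.assoc, j.naturality, Category.assoc]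
      refine (congrArg (j.app (op (n + 1)) ≫ ·) hw).trans ?_
      rw [← Category.assoc, cokernel.condition, zero_comp]
    · rw [← cancel_epi (cokernel.π (j.app (op (n + 1)))), ← Category.assoc, cokernel.π_desc, Category.assoc,
        cokernel.π_desc]
      exact hw

end Coker

section QuotKSys

variable (K : X.IdealSheafData) (m : ℕ)

/-- The system `F_n / K^m F_n`. -/
def quotKF : ℕᵒᵖ ⥤ X.Modules :=
  Functor.ofOpSequence (X := fun n => quotK K m (hG.1 n).1) fun n =>
    (exists_desc_quotK K m (hG.1 (n + 1)).1 (tn G n ≫ quotKπ K m (hG.1 n).1) (killedBy_quotK K m _)).choose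

/-- The projection to `F_n / K^m F_n`. -/
def quotKFπ (n : ℕ) : G.obj (op n) ⟶ (quotKF hG K m).obj (op n) := quotKπ K m (hG.1 n).1

lemma quotKFπ_tn (n : ℕ) : quotKFπ hG K m (n + 1) ≫ tn (quotKF hG K m) n = tn G n ≫ quotKFπ hG K m n := by
  refine (congrArg (quotKFπ hG K m (n + 1) ≫ ·) (Functor.ofOpSequence_map_homOfLE_succ _ n)).trans ?_
  exact (exists_desc_quotK K m (hG.1 (n + 1)).1 (tn G n ≫ quotKπ K m (hG.1 n).1) (killedBy_quotK K m _)).choose_spec

/-- The projection as a map of systems. -/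
def quotKFhom : G ⟶ quotKF hG K m := NatTrans.ofOpSequence (quotKFπ hG K m) fun n => (quotKFπ_tn hG K m n).symm

lemma isCohFormal_quotKF [IsLocallyNoetherian X] : Formal.IsCohFormal I (quotKF hG K m) := by
  have hs := fun n => (exists_desc_quotK K m (hG.1 (n + 1)).1 (tn G n ≫ quotKπ K m (hG.1 n).1)
    (killedBy_quotK K m _)).choose_spec
  refine isCohFormal_of I _ _ (fun n => isCoh_quotK K m (hG.1 n)) (fun n a ha => ?_) (fun n => ?_) fun n => ?_
  · rw [← cancel_epi (quotKπ K m (hG.1 n).1), comp_zero, ← W7Cech.smulMod_natural, hG.2.1 n a ha, zero_comp]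
  · haveI := epi_tn hG n
    haveI : Epi (tn G n ≫ quotKπ K m (hG.1 n).1) := epi_comp _ _
    exact epi_of_epi_fac (hs n)
  · let z := cokernel.π (Formal.smulFamily (I ^ (n + 1)) (quotK K m (hG.1 (n + 1)).1))
    obtain ⟨w, hw⟩ := exists_desc hG n (quotKπ K m (hG.1 (n + 1)).1 ≫ z) fun a ha => by
      rw [← Category.assoc, W7Cech.smulMod_natural, Category.assoc]
      refine (congrArg (quotKπ K m (hG.1 (n + 1)).1 ≫ ·) ?_).trans comp_zero
      exact smulMod_π I (n + 1) _ a ha
    have hq := isQCoh_quotK K m (hG.1 (n + 1)).1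
    obtain ⟨v, hv⟩ := exists_desc_quotK K m (hG.1 n).1 w (killedBy_of_epi K m hq
      (W7Rees.isQCoh_modQuot _ _ hq) z (killedBy_quotK K m (hG.1 (n + 1)).1))
    refine ⟨v, ?_⟩
    rw [← cancel_epi (quotKπ K m (hG.1 (n + 1)).1), ← Category.assoc, hs, Category.assoc, hv]
    exact hw

end QuotKSys

end Groth.Agent.W7Exist
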