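import Groth.Agent.W7Exist.System
import Groth.Agent.W7Rees.Sections

/-!
Completions of coherent modules are coherent formal modules; morphisms of systems indexed by `ℕ`.
-/

set_option autoImplicit false
set_option backward.isDefEq.respectTransparency false
set_option backward.isDefEq.respectTransparency.types false
set_option linter.style.haveILetI false

universe u

open CategoryTheory CategoryTheory.Limits AlgebraicGeometry TopologicalSpace Opposite

noncomputable section

namespace Groth.Agent.W7Exist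

variable {A : Type u} [CommRing A] {X : Scheme.{u}} [X.Over (Spec (CommRingCat.of A))] (I : Ideal A)

lemma smulMod_π (n : ℕ) (M : X.Modules) (a : A) (ha : a ∈ I ^ n) :
    Formal.smulMod A M a ≫ Formal.modPowπ I n M = 0 := by
  have h := congrArg (Sigma.ι (fun _ : ↥(I ^ n) => M) ⟨a, ha⟩ ≫ ·) (cokernel.condition (Formal.smulFamily (I ^ n) M))
  simp only [comp_zero] at h
  rw [← Category.assoc, show Sigma.ι (fun _ : ↥(I ^ n) => M) ⟨a, ha⟩ ≫ Formal.smulFamily (I ^ n) M =
    Formal.smulMod A M a from Sigma.ι_desc _ _] at h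
  exact h

lemma exists_desc_modPow (n : ℕ) {M P : X.Modules} (f : M ⟶ P)
    (hf : ∀ a ∈ I ^ n, Formal.smulMod A M a ≫ f = 0) : ∃ g : Formal.modPow I n M ⟶ P, Formal.modPowπ I n M ≫ g = f :=
  ⟨cokernel.desc _ f (Sigma.hom_ext _ _ fun a => by
    rw [comp_zero, ← Category.assoc, show Sigma.ι (fun _ : ↥(I ^ n) => M) a ≫ Formal.smulFamily (I ^ n) M =
      Formal.smulMod A M (a : A) from Sigma.ι_desc _ a]
    exact hf a a.2), cokernel.π_desc _ _ _⟩

instance epi_modPowπ (n : ℕ) (M : X.Modules) : Epi (Formal.modPowπ I n M) :=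
  inferInstanceAs (Epi (cokernel.π _))

lemma π_smulMod (n : ℕ) (M : X.Modules) (a : A) (ha : a ∈ I ^ n) :
    Formal.smulMod A (Formal.modPow I n M) a = 0 := by
  rw [← cancel_epi (Formal.modPowπ I n M), comp_zero, ← W7Cech.smulMod_natural, smulMod_π I n M a ha]

lemma completion_map_succ (M : X.Modules) (n : ℕ) :
    (Formal.completion I M).map (homOfLE (Nat.le_succ n)).op = Formal.modPowTrans I (n + 1) M :=
  Functor.ofOpSequence_map_homOfLE_succ _ n

/-- Completions are coherent formal modules. -/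
theorem isCohFormal_completion {M : X.Modules} (hM : Coh.IsCoh M) :
    Formal.IsCohFormal I (Formal.completion I M) := by
  refine ⟨fun n => QC.isCoh_of_epi hM (W7Rees.isQCoh_modQuot M _ hM.1) (Formal.modPowπ I (n + 1) M),
    fun n a ha => π_smulMod I (n + 1) M a ha, fun n => ?_⟩
  rw [completion_map_succ]
  have h : Formal.smulFamily (I ^ (n + 1)) (Formal.modPow I (n + 1 + 1) M) ≫ Formal.modPowTrans I (n + 1) M = 0 :=
    Sigma.hom_ext _ _ fun a => by
      rw [comp_zero, ← Category.assoc, show Sigma.ι (fun _ : ↥(I ^ (n + 1)) => Formal.modPow I (n + 1 + 1) M) a ≫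
        Formal.smulFamily (I ^ (n + 1)) _ = Formal.smulMod A _ (a : A) from Sigma.ι_desc _ a,
        W7Cech.smulMod_natural, π_smulMod I (n + 1) M a a.2, comp_zero]
  refine ⟨h, ?_⟩
  suffices hiso : IsIso (cokernel.desc (Formal.smulFamily (I ^ (n + 1)) (Formal.modPow I (n + 1 + 1) M))
      (Formal.modPowTrans I (n + 1) M) h) from hiso
  obtain ⟨g, hg⟩ := exists_desc_modPow I (n + 1)
    (Formal.modPowπ I (n + 1 + 1) M ≫ cokernel.π (Formal.smulFamily (I ^ (n + 1)) (Formal.modPow I (n + 1 + 1) M)))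
    (fun a ha => by
      rw [← Category.assoc, W7Cech.smulMod_natural, Category.assoc]
      have h' := congrArg (Sigma.ι (fun _ : ↥(I ^ (n + 1)) => Formal.modPow I (n + 1 + 1) M) ⟨a, ha⟩ ≫ ·)
        (cokernel.condition (Formal.smulFamily (I ^ (n + 1)) (Formal.modPow I (n + 1 + 1) M)))
      simp only [comp_zero] at h'
      rw [← Category.assoc, show Sigma.ι (fun _ : ↥(I ^ (n + 1)) => Formal.modPow I (n + 1 + 1) M) ⟨a, ha⟩ ≫
        Formal.smulFamily (I ^ (n + 1)) _ = Formal.smulMod A _ a from Sigma.ι_desc _ _] at h'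
      exact (congrArg (Formal.modPowπ I (n + 1 + 1) M ≫ ·) h').trans comp_zero)
  refine ⟨g, ?_, ?_⟩
  · rw [← cancel_epi (cokernel.π (Formal.smulFamily (I ^ (n + 1)) (Formal.modPow I (n + 1 + 1) M))),
      ← Category.assoc, cokernel.π_desc, ← cancel_epi (Formal.modPowπ I (n + 1 + 1) M), ← Category.assoc]
    refine Eq.trans ?_ (hg.trans (congrArg (_ ≫ ·) (Category.comp_id _).symm))
    exact congrArg (· ≫ g) (Formal.modPowπ_trans I (n + 1) M)
  · rw [← cancel_epi (Formal.modPowπ I (n + 1) M), ← Category.assoc, hg, Category.assoc, cokernel.π_desc]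
    exact (Formal.modPowπ_trans I (n + 1) M).trans (Category.comp_id _).symm

/-- An isomorphism of systems from compatible isomorphisms. -/
theorem nonempty_iso_of_levels {F G : ℕᵒᵖ ⥤ X.Modules} (e : ∀ n, F.obj (op n) ≅ G.obj (op n))
    (he : ∀ n, F.map (homOfLE (Nat.le_succ n)).op ≫ (e n).hom = (e (n + 1)).hom ≫ G.map (homOfLE (Nat.le_succ n)).op) :
    Nonempty (F ≅ G) := by
  let α : F ⟶ G := NatTrans.ofOpSequence (fun n => (e n).hom) he
  haveI : ∀ n, IsIso (α.app n) := fun ⟨n⟩ => (show IsIso (e n).hom from inferInstance)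
  haveI := NatIso.isIso_of_isIso_app α
  exact ⟨asIso α⟩

end Groth.Agent.W7Exist
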