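import Groth.Agent.W7Exist.Good
import Groth.Agent.W7Cech.ModPow
import Groth.Prelude.Def_Formal

/-!
Coherent formal modules: multiplication operators and the family of kernels of the transition maps.
-/

set_option autoImplicit false
set_option backward.isDefEq.respectTransparency false
set_option backward.isDefEq.respectTransparency.types false
set_option linter.style.haveILetI false
set_option maxHeartbeats 1000000

universe u

open CategoryTheory CategoryTheory.Limits AlgebraicGeometry TopologicalSpace Opposite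

attribute [local instance] Abelian.hasFiniteBiproducts

noncomputable section

namespace Groth.Agent.W7Exist

variable {A : Type u} [CommRing A] {X : Scheme.{u}} [X.Over (Spec (CommRingCat.of A))] {I : Ideal A}
  {G : ℕᵒᵖ ⥤ X.Modules}

/-- The transition map. -/
abbrev tn (G : ℕᵒᵖ ⥤ X.Modules) (n : ℕ) : G.obj (op (n + 1)) ⟶ G.obj (op n) := G.map (homOfLE (Nat.le_succ n)).op

variable (hG : Formal.IsCohFormal I G)

include hG in
lemma epi_tn (n : ℕ) : Epi (tn G n) := by
  obtain ⟨h, hiso⟩ := hG.2.2 n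
  haveI := hiso
  rw [show tn G n = cokernel.π _ ≫ cokernel.desc _ _ h from (cokernel.π_desc _ _ h).symm]
  haveI := @IsIso.epi_of_iso _ _ _ _ (cokernel.desc _ _ h) hiso
  exact epi_comp _ _

include hG in
/-- A map killing `I^{n+1}` descends along the transition map. -/
lemma exists_desc (n : ℕ) {P : X.Modules} (f : G.obj (op (n + 1)) ⟶ P)
    (hf : ∀ a ∈ I ^ (n + 1), Formal.smulMod A (G.obj (op (n + 1))) a ≫ f = 0) :
    ∃ g : G.obj (op n) ⟶ P, tn G n ≫ g = f := by
  obtain ⟨h, hiso⟩ := hG.2.2 n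
  haveI := hiso
  have hw : Formal.smulFamily (I ^ (n + 1)) (G.obj (op (n + 1))) ≫ f = 0 := Sigma.hom_ext _ _ fun a => by
    rw [comp_zero, ← Category.assoc, show Sigma.ι (fun _ : ↥(I ^ (n + 1)) => G.obj (op (n + 1))) a ≫
      Formal.smulFamily (I ^ (n + 1)) (G.obj (op (n + 1))) = Formal.smulMod A _ (a : A) from Sigma.ι_desc _ a]
    exact hf a a.2
  refine ⟨inv (cokernel.desc _ _ h) ≫ cokernel.desc _ f hw, ?_⟩
  conv_lhs => rw [show tn G n = cokernel.π _ ≫ cokernel.desc _ _ h from (cokernel.π_desc _ _ h).symm]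
  rw [Category.assoc, IsIso.hom_inv_id_assoc, cokernel.π_desc]

lemma smulMod_add (M : X.Modules) (a b : A) :
    Formal.smulMod A M (a + b) = Formal.smulMod A M a + Formal.smulMod A M b := by
  refine Scheme.Modules.hom_ext _ _ fun W => ?_
  ext z
  change (W7Cech.secRing A W (a + b)) • (show Γ(M, W) from z) =
    W7Cech.secRing A W a • (show Γ(M, W) from z) + W7Cech.secRing A W b • (show Γ(M, W) from z)
  rw [map_add, add_smul]

lemma smulMod_zero (M : X.Modules) : Formal.smulMod A M (0 : A) = 0 := by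
  refine Scheme.Modules.hom_ext _ _ fun W => ?_
  ext z
  change (W7Cech.secRing A W (0 : A)) • (show Γ(M, W) from z) = _
  rw [map_zero, zero_smul]
  rfl

lemma smulMod_comp (M : X.Modules) (a b : A) :
    Formal.smulMod A M a ≫ Formal.smulMod A M b = Formal.smulMod A M (b * a) := by
  refine Scheme.Modules.hom_ext _ _ fun W => ?_
  ext z
  change W7Cech.secRing A W b • (W7Cech.secRing A W a • (show Γ(M, W) from z)) =
    W7Cech.secRing A W (b * a) • (show Γ(M, W) from z)
  rw [map_mul, mul_smul]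

include hG in
lemma exists_mul (a : A) (ha : a ∈ I) (n : ℕ) :
    ∃ g : G.obj (op n) ⟶ G.obj (op (n + 1)), tn G n ≫ g = Formal.smulMod A (G.obj (op (n + 1))) a :=
  exists_desc hG n _ fun b hb => by
    rw [smulMod_comp]
    exact hG.2.1 (n + 1) _ (by rw [pow_succ']; exact Ideal.mul_mem_mul ha hb)

variable {r : ℕ} (a : Fin r → A) (ha : ∀ j, a j ∈ I)

/-- Multiplication by `a j` one level up. -/
def mul (j : Fin r) (n : ℕ) : G.obj (op n) ⟶ G.obj (op (n + 1)) := (exists_mul hG (a j) (ha j) n).choose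

lemma tn_mul (j : Fin r) (n : ℕ) : tn G n ≫ mul hG a ha j n = Formal.smulMod A _ (a j) :=
  (exists_mul hG (a j) (ha j) n).choose_spec

lemma mul_tn (j : Fin r) (n : ℕ) : mul hG a ha j n ≫ tn G n = Formal.smulMod A _ (a j) := by
  haveI := epi_tn hG n
  rw [← cancel_epi (tn G n), ← Category.assoc, tn_mul, W7Cech.smulMod_natural]

lemma mul_comm' (i j : Fin r) (n : ℕ) :
    mul hG a ha i n ≫ mul hG a ha j (n + 1) = mul hG a ha j n ≫ mul hG a ha i (n + 1) := by
  haveI := epi_tn hG n
  haveI := epi_tn hG (n + 1)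
  have key : ∀ i j : Fin r, tn G (n + 1) ≫ tn G n ≫ mul hG a ha i n ≫ mul hG a ha j (n + 1) =
      Formal.smulMod A _ (a j * a i) := fun i j => by
    rw [← Category.assoc (tn G n), tn_mul, ← Category.assoc, ← W7Cech.smulMod_natural, Category.assoc, tn_mul,
      smulMod_comp]
  rw [← cancel_epi (tn G n), ← cancel_epi (tn G (n + 1)), key, key, mul_comm (a i)]

/-- The kernels of the transition maps. -/
def kerFam : Fam X r where
  obj n := kernel (tn G n)
  τ j n := kernel.lift _ (kernel.ι (tn G n) ≫ mul hG a ha j (n + 1)) (by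
    rw [Category.assoc, mul_tn, ← tn_mul hG a ha j n, ← Category.assoc, kernel.condition, zero_comp])
  comm i j n := (cancel_mono (kernel.ι _)).1 (by
    simp only [Category.assoc, kernel.lift_ι, kernel.lift_ι_assoc]
    exact congrArg (_ ≫ ·) (mul_comm' hG a ha i j (n + 1)))

include hG in
lemma epi_smul_ker (n : ℕ) : ∃ k : (∐ fun _ : ↥(I ^ (n + 1)) => G.obj (op (n + 1))) ⟶ kernel (tn G n),
    Epi k ∧ k ≫ kernel.ι _ = Formal.smulFamily (I ^ (n + 1)) _ := by
  obtain ⟨h, hiso⟩ := hG.2.2 n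
  haveI := hiso
  let f := Formal.smulFamily (I ^ (n + 1)) (G.obj (op (n + 1)))
  let e : kernel (cokernel.π f) ≅ kernel (tn G n) :=
    (kernelCompMono (cokernel.π f) (cokernel.desc _ _ h)).symm ≪≫ kernelIsoOfEq (cokernel.π_desc _ _ h)
  refine ⟨Abelian.factorThruImage f ≫ e.hom, epi_comp _ _, ?_⟩
  rw [Category.assoc]
  refine Eq.trans (congrArg (Abelian.factorThruImage f ≫ ·) ?_) (Abelian.image.fac f)
  simp [e]

/-- The kernels form a good family. -/
theorem good_kerFam [IsLocallyNoetherian X] (hI : Ideal.span (Set.range a) = I) : (kerFam hG a ha).Good := by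
  classical
  refine ⟨fun n => QC.isCoh_kernel (hG.1 (n + 1)) (hG.1 n).1 _, 0, fun n _ => ?_⟩
  refine Preadditive.epi_of_cancel_zero _ fun {Z} g hg => ?_
  obtain ⟨k, hk, hkι⟩ := epi_smul_ker hG (n + 1)
  rw [← cancel_epi k, comp_zero]
  refine Sigma.hom_ext _ _ fun b => ?_
  rw [comp_zero]
  let K := kernel (tn G (n + 1))
  haveI := hk
  have hτ : ∀ j, (kerFam hG a ha).τ j n ≫ g = 0 := fun j => by
    have h := congrArg (biproduct.ι (fun _ : Fin r => (kerFam hG a ha).obj n) j ≫ ·) hg
    simpa using h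
  have hlift : ∀ (x : A) (_ : x ∈ I ^ (n + 1 + 1)),
      ∃ s : G.obj (op (n + 1 + 1)) ⟶ K, s ≫ kernel.ι _ = Formal.smulMod A _ x ∧ s ≫ g = 0 := by
    intro x hx
    rw [pow_succ', ← hI] at hx
    refine Submodule.mul_induction_on hx (fun u hu v hv => ?_) fun u v hu hv => ?_
    · rw [hI] at hv
      refine Submodule.span_induction
        (p := fun u _ => ∃ s : G.obj (op (n + 1 + 1)) ⟶ K, s ≫ kernel.ι _ = Formal.smulMod A _ (u * v) ∧ s ≫ g = 0)
        ?_ ?_ ?_ ?_ hu
      · rintro _ ⟨j, rfl⟩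
        have hv0 : Formal.smulMod A (G.obj (op (n + 1))) v ≫ tn G n = 0 := by
          rw [W7Cech.smulMod_natural, hG.2.1 n v hv, comp_zero]
        refine ⟨tn G (n + 1) ≫ kernel.lift _ _ hv0 ≫ (kerFam hG a ha).τ j n, ?_, ?_⟩
        · change (_ ≫ _ ≫ kernel.lift _ _ _) ≫ _ = _
          rw [Category.assoc, Category.assoc, kernel.lift_ι, kernel.lift_ι_assoc, ← Category.assoc,
            ← W7Cech.smulMod_natural, Category.assoc, tn_mul, smulMod_comp]
        · rw [Category.assoc, Category.assoc, hτ, comp_zero, comp_zero]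
      · exact ⟨0, by rw [zero_comp, zero_mul, smulMod_zero], zero_comp⟩
      · rintro u u' _ _ ⟨s, hs, hs0⟩ ⟨s', hs', hs0'⟩
        exact ⟨s + s', by rw [Preadditive.add_comp, hs, hs', add_mul, smulMod_add],
          by rw [Preadditive.add_comp, hs0, hs0', add_zero]⟩
      · rintro c u _ ⟨s, hs, hs0⟩
        refine ⟨Formal.smulMod A _ c ≫ s, ?_, by rw [Category.assoc, hs0, comp_zero]⟩
        rw [Category.assoc, hs, smulMod_comp, smul_eq_mul]
        ring_nf
    · obtain ⟨s, hs, hs0⟩ := hu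
      obtain ⟨s', hs', hs0'⟩ := hv
      exact ⟨s + s', by rw [Preadditive.add_comp, hs, hs', smulMod_add],
        by rw [Preadditive.add_comp, hs0, hs0', add_zero]⟩
  obtain ⟨s, hs, hs0⟩ := hlift b.1 b.2
  have : Sigma.ι (fun _ : ↥(I ^ (n + 1 + 1)) => G.obj (op (n + 1 + 1))) b ≫ k = s := by
    rw [← cancel_mono (kernel.ι (tn G (n + 1))), Category.assoc, hkι, hs]
    exact Sigma.ι_desc _ b
  rw [← Category.assoc, this, hs0]

end Groth.Agent.W7Exist
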