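import Groth.Agent.W7Exist.Lift
import Groth.Agent.W7Exist.Completion
import Mathlib.CategoryTheory.Abelian.Refinements

/-!
Grothendieck's existence theorem in the projective case.
-/

set_option autoImplicit false
set_option backward.isDefEq.respectTransparency false
set_option backward.isDefEq.respectTransparency.types false
set_option linter.style.haveILetI false
set_option maxHeartbeats 1000000

universe u

open CategoryTheory CategoryTheory.Limits AlgebraicGeometry TopologicalSpace Opposite

attribute [local instance] Abelian.hasFiniteBiproducts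

noncomputable section

namespace Groth.Agent.W7Exist

variable {X : Scheme.{u}}

lemma exists_desc_of_epi {M N Z : X.Modules} (t : M ⟶ N) [Epi t] (z : M ⟶ Z) (hz : kernel.ι t ≫ z = 0) :
    ∃ w, t ≫ w = z :=
  ⟨(Abelian.epiIsCokernelOfKernel (KernelFork.ofι _ (kernel.condition t)) (kernelIsKernel t)).desc
      (CokernelCofork.ofπ z hz),
    (Abelian.epiIsCokernelOfKernel (KernelFork.ofι _ (kernel.condition t)) (kernelIsKernel t)).fac
      (CokernelCofork.ofπ z hz) WalkingParallelPair.one⟩

variable (A : Type u) [CommRing A] [IsNoetherianRing A] (I : Ideal A) [IsAdicComplete I A]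
  [X.Over (Spec (CommRingCat.of A))] [IsProper (X ↘ Spec (CommRingCat.of A))]

/-- Coherent formal modules on a scheme with an ample module, proper over a complete ring, are algebraizable. -/
theorem exists_algebraization {L : X.Modules} (hL : CohB1.IsAmple L) (G : ℕᵒᵖ ⥤ X.Modules)
    (hG : Formal.IsCohFormal I G) : ∃ M : X.Modules, Coh.IsCoh M ∧ Nonempty (Formal.completion I M ≅ G) := by
  classical
  haveI : IsLocallyNoetherian X := LocallyOfFiniteType.isLocallyNoetherian (X ↘ Spec (CommRingCat.of A))
  haveI : CompactSpace X := QuasiCompact.compactSpace_of_compactSpace (X ↘ Spec (CommRingCat.of A))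
  obtain ⟨r, a, hIa⟩ := Submodule.fg_iff_exists_fin_generating_family.1 ((IsNoetherian.noetherian I : I.FG))
  have ha : ∀ j, a j ∈ I := fun j => hIa.le (Submodule.subset_span ⟨j, rfl⟩)
  -- generators of the formal module
  obtain ⟨P, g, hP, hg, hge⟩ := exists_compatible_epi A hL a (fun n => G.obj (op n)) hG.1 (tn G)
    (epi_tn hG) (mul hG a ha) (tn_mul hG a ha) (kerFam hG a ha) (good_kerFam hG a ha hIa)
    (fun n => kernel.ι (tn G n)) (fun n {Z} z hz => by haveI := epi_tn hG n; exact exists_desc_of_epi _ z hz)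
    (fun n => inferInstance) (fun n => kernel.condition _) (fun j n => kernel.lift_ι _ _ _)
  have hF := isCohFormal_completion I hP
  choose α hα using fun n => exists_desc_modPow I (n + 1) (g n) fun c hc => by
    rw [W7Cech.smulMod_natural, hG.2.1 n c hc, comp_zero]
  let F := Formal.completion I P
  have hαe : ∀ n, Epi (α n) := fun n => by
    haveI := hge n
    exact epi_of_epi_fac (hα n)
  have hαt : ∀ n, tn F n ≫ α n = α (n + 1) ≫ tn G n := fun n => by
    rw [← cancel_epi (Formal.modPowπ I (n + 1 + 1) P), ← Category.assoc, ← Category.assoc, hα, hg]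
    refine (congrArg (fun φ => φ ≫ α n) ?_).trans (hα n)
    exact (congrArg (_ ≫ ·) (completion_map_succ I P n)).trans (Formal.modPowπ_trans I (n + 1) P)
  have hαμ : ∀ j n, mul hF a ha j n ≫ α (n + 1) = α n ≫ mul hG a ha j n := fun j n => by
    haveI := epi_tn hF n
    rw [← cancel_epi (tn F n), ← Category.assoc, ← Category.assoc, tn_mul, hαt, Category.assoc, tn_mul,
      W7Cech.smulMod_natural]
  -- the system of relations
  let Kn : ℕ → X.Modules := fun n => kernel (α n)
  let tk : ∀ n, Kn (n + 1) ⟶ Kn n := fun n => kernel.lift _ (kernel.ι (α (n + 1)) ≫ tn F n) (by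
    rw [Category.assoc, hαt, ← Category.assoc, kernel.condition, zero_comp])
  let μk : Fin r → ∀ n, Kn n ⟶ Kn (n + 1) := fun j n => kernel.lift _ (kernel.ι (α n) ≫ mul hF a ha j n) (by
    rw [Category.assoc, hαμ, ← Category.assoc, kernel.condition, zero_comp])
  have htk : ∀ n, Epi (tk n) := fun n => by
    haveI := hαe (n + 1)
    haveI := epi_tn hF n
    let β : kernel (tn F n) ⟶ kernel (tn G n) := kernel.lift _ (kernel.ι (tn F n) ≫ α (n + 1)) (by
      rw [Category.assoc, ← hαt, ← Category.assoc, kernel.condition, zero_comp])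
    haveI : Epi β := by
      refine Preadditive.epi_of_cancel_zero _ fun {Z} z hz => ?_
      obtain ⟨k, hk, hkι⟩ := epi_smul_ker hG n
      rw [← cancel_epi k, comp_zero]
      refine Sigma.hom_ext _ _ fun b => ?_
      rw [comp_zero, ← cancel_epi (α (n + 1)), comp_zero]
      have hb : Formal.smulMod A (F.obj (op (n + 1))) (b : A) ≫ tn F n = 0 := by
        rw [W7Cech.smulMod_natural, hF.2.1 n _ b.2, comp_zero]
      have e : α (n + 1) ≫ Sigma.ι (fun _ : ↥(I ^ (n + 1)) => G.obj (op (n + 1))) b ≫ k =
          kernel.lift _ _ hb ≫ β := by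
        rw [← cancel_mono (kernel.ι (tn G n)), Category.assoc, Category.assoc, Category.assoc, hkι, kernel.lift_ι,
          kernel.lift_ι_assoc, show Sigma.ι (fun _ : ↥(I ^ (n + 1)) => G.obj (op (n + 1))) b ≫
            Formal.smulFamily (I ^ (n + 1)) (G.obj (op (n + 1))) = Formal.smulMod A _ (b : A) from Sigma.ι_desc _ b]
        exact (W7Cech.smulMod_natural A (α (n + 1)) (b : A)).symm
      calc α (n + 1) ≫ Sigma.ι (fun _ : ↥(I ^ (n + 1)) => G.obj (op (n + 1))) b ≫ k ≫ z =
          (α (n + 1) ≫ Sigma.ι (fun _ : ↥(I ^ (n + 1)) => G.obj (op (n + 1))) b ≫ k) ≫ z := by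
            simp only [Category.assoc]
        _ = 0 := by rw [e, Category.assoc, hz, comp_zero]
    refine (epi_iff_surjective_up_to_refinements _).2 fun {T} x => ?_
    obtain ⟨T₁, π₁, hπ₁, y₁, hy₁⟩ := surjective_up_to_refinements_of_epi (tn F n) (x ≫ kernel.ι (α n))
    obtain ⟨T₂, π₂, hπ₂, y₂, hy₂⟩ := surjective_up_to_refinements_of_epi β (kernel.lift (tn G n) (y₁ ≫ α (n + 1)) (by
      rw [Category.assoc, ← hαt, ← Category.assoc, ← hy₁, Category.assoc, Category.assoc, kernel.condition,
        comp_zero, comp_zero]))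
    have h2 := congrArg (· ≫ kernel.ι (tn G n)) hy₂
    simp only [Category.assoc, kernel.lift_ι, β] at h2
    refine ⟨T₂, π₂ ≫ π₁, epi_comp _ _, kernel.lift _ (π₂ ≫ y₁ - y₂ ≫ kernel.ι (tn F n)) (by
      rw [Preadditive.sub_comp, Category.assoc, Category.assoc, h2, sub_self]), ?_⟩
    rw [← cancel_mono (kernel.ι (α n)), Category.assoc, Category.assoc, Category.assoc, kernel.lift_ι,
      kernel.lift_ι_assoc, Preadditive.sub_comp, Category.assoc, Category.assoc, kernel.condition, comp_zero,
      sub_zero, hy₁]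
  have hμk : ∀ j n, tk n ≫ μk j n = Formal.smulMod A (Kn (n + 1)) (a j) := fun j n => by
    rw [← cancel_mono (kernel.ι (α (n + 1))), Category.assoc, kernel.lift_ι, kernel.lift_ι_assoc, Category.assoc,
      tn_mul, W7Cech.smulMod_natural]
    rfl
  let ν : ∀ n, kernel (tk n) ⟶ kernel (tn F n) := fun n => kernel.lift _ (kernel.ι (tk n) ≫ kernel.ι (α (n + 1))) (by
    rw [Category.assoc, ← kernel.lift_ι (α n) (kernel.ι (α (n + 1)) ≫ tn F n) (by
      rw [Category.assoc, hαt, ← Category.assoc, kernel.condition, zero_comp]), ← Category.assoc, kernel.condition,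
      zero_comp])
  haveI : ∀ n, Mono (ν n) := fun n => mono_of_mono_fac (kernel.lift_ι _ _ _)
  let K : Fam X r := ⟨fun n => kernel (tk n), fun j n => kernel.lift _ (kernel.ι (tk n) ≫ μk j (n + 1)) (by
    rw [Category.assoc, show μk j (n + 1) ≫ tk (n + 1) = tk n ≫ μk j n from by
      haveI := htk (n + 1)
      rw [← cancel_epi (tk (n + 1)), ← Category.assoc, ← Category.assoc, hμk, Category.assoc, hμk,
        W7Cech.smulMod_natural], ← Category.assoc, kernel.condition, zero_comp]), fun i j n => by
    rw [← cancel_mono (kernel.ι (tk (n + 1 + 1))), ← cancel_mono (kernel.ι (α (n + 1 + 1 + 1)))]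
    simp only [μk, Category.assoc, kernel.lift_ι, kernel.lift_ι_assoc]
    exact congrArg (fun φ => kernel.ι (tk n) ≫ kernel.ι (α (n + 1)) ≫ φ) (mul_comm' hF a ha i j (n + 1))⟩
  have hKc : ∀ n, Coh.IsCoh (Kn n) := fun n => QC.isCoh_kernel (hF.1 n) (hG.1 n).1 _
  have hK : K.Good := (good_kerFam hF a ha hIa).sub K ν (fun j n => by
    rw [← cancel_mono (kernel.ι (tn F (n + 1)))]
    simp only [K, μk, ν, kerFam, Category.assoc, kernel.lift_ι, kernel.lift_ι_assoc]
    exact ((congrArg (ν n ≫ ·) (kernel.lift_ι _ _ _)).trans (kernel.lift_ι_assoc _ _ _ _)).symm) fun n =>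
      QC.isQCoh_kernel (hKc (n + 1)).1 (hKc n).1 _
  obtain ⟨P', g', hP', hg', hge'⟩ := exists_compatible_epi A hL a Kn hKc tk htk μk hμk K hK
    (fun n => kernel.ι (tk n)) (fun n {Z} z hz => by haveI := htk n; exact exists_desc_of_epi _ z hz)
    (fun n => inferInstance) (fun n => kernel.condition _) (fun j n => kernel.lift_ι _ _ _)
  -- the morphism of presentations
  let h : ∀ n, P' ⟶ Formal.modPow I n P := fun n => match n with
    | 0 => (g' 0 ≫ kernel.ι (α 0)) ≫ Formal.modPowTrans I 0 P
    | k + 1 => g' k ≫ kernel.ι (α k)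
  have hh : ∀ n, h (n + 1) ≫ Formal.modPowTrans I n P = h n := by
    intro n
    cases n with
    | zero => rfl
    | succ k =>
      change (g' (k + 1) ≫ kernel.ι (α (k + 1))) ≫ _ = g' k ≫ kernel.ι (α k)
      rw [← hg' k, Category.assoc, Category.assoc, kernel.lift_ι]
      exact congrArg (fun φ => g' (k + 1) ≫ kernel.ι (α (k + 1)) ≫ φ) (completion_map_succ I P k).symm
  have hs : ClSub.IsProperOver (X ↘ Spec (CommRingCat.of A)) (CohB1.support P' ∩ CohB1.support P) := by
    haveI : IsProper (𝟙 X ≫ (X ↘ Spec (CommRingCat.of A))) := by rw [Category.id_comp]; infer_instance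
    exact ClSubLib.isProperOver_of_subset _ (𝟙 X) _
      ((QC.isClosed_support hP'.2).inter (QC.isClosed_support hP.2)) fun x _ => ⟨x, rfl⟩
  obtain ⟨φ, hφ, -⟩ := W7Rees.exists_unique_hom I hP' hP hs h hh
  let M := cokernel φ
  have hM : Coh.IsCoh M := QC.isCoh_cokernel hP'.1 hP φ
  have hφg : ∀ n, φ ≫ g n = 0 := fun n => by
    rw [← hα n, ← Category.assoc, hφ (n + 1)]
    change (g' n ≫ kernel.ι (α n)) ≫ α n = 0
    rw [Category.assoc, kernel.condition, comp_zero]
  choose e he using fun n => exists_desc_modPow I (n + 1) (cokernel.desc φ (g n) (hφg n)) fun c hc => by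
    rw [W7Cech.smulMod_natural, hG.2.1 n c hc, comp_zero]
  have hi : ∀ n, IsIso (e n) := fun n => by
    obtain ⟨z, hz⟩ := exists_desc_modPow I (n + 1) (cokernel.π φ ≫ Formal.modPowπ I (n + 1) M) fun c hc => by
      rw [← Category.assoc, W7Cech.smulMod_natural, Category.assoc, smulMod_π I _ M c hc, comp_zero]
    haveI := hαe n
    obtain ⟨w, hw⟩ := exists_desc_of_epi (α n) z (by
      haveI := hge' n
      rw [← cancel_epi (g' n), comp_zero, ← Category.assoc, show g' n ≫ kernel.ι (α n) = φ ≫ Formal.modPowπ I (n + 1) P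
        from (hφ (n + 1)).symm, Category.assoc, hz, ← Category.assoc, cokernel.condition, zero_comp])
    refine ⟨w, ?_, ?_⟩
    · rw [← cancel_epi (Formal.modPowπ I (n + 1) M), ← cancel_epi (cokernel.π φ), Category.comp_id,
        ← Category.assoc (Formal.modPowπ I (n + 1) M), he, ← Category.assoc, cokernel.π_desc, ← hα n,
        Category.assoc, hw, hz]
    · haveI := hge n
      rw [← cancel_epi (g n), Category.comp_id, ← Category.assoc]
      conv_lhs => rw [← hα n, Category.assoc (Formal.modPowπ I (n + 1) P), hw, hz, Category.assoc, he]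
      exact cokernel.π_desc _ _ _
  refine ⟨M, hM, nonempty_iso_of_levels (fun n => @asIso _ _ _ _ (e n) (hi n)) fun n => ?_⟩
  change (Formal.completion I M).map _ ≫ e n = e (n + 1) ≫ tn G n
  rw [completion_map_succ, ← cancel_epi (Formal.modPowπ I (n + 1 + 1) M), ← Category.assoc, ← Category.assoc, he]
  refine (congrArg (· ≫ e n) (Formal.modPowπ_trans I (n + 1) M)).trans ((he n).trans ?_)
  rw [← cancel_epi (cokernel.π φ), ← Category.assoc, cokernel.π_desc, cokernel.π_desc, hg]

end Groth.Agent.W7Exist
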