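import Groth.Agent.W7Exist.Formal
import Groth.Agent.QC.Pullback

/-!
Pulling back coherent formal modules and completions along a morphism over a map of base rings.
-/

set_option autoImplicit false
set_option backward.isDefEq.respectTransparency false
set_option backward.isDefEq.respectTransparency.types false
set_option linter.style.haveILetI false
set_option maxHeartbeats 1000000

universe u

open CategoryTheory CategoryTheory.Limits AlgebraicGeometry TopologicalSpace Opposite

noncomputable section

namespace Groth.Agent.W7Exist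

variable {A B : Type u} [CommRing A] [CommRing B] {X Y : Scheme.{u}}
  [X.Over (Spec (CommRingCat.of A))] [Y.Over (Spec (CommRingCat.of B))] {φ : A →+* B} {q : Y ⟶ X}
  (hq : q ≫ (X ↘ Spec (CommRingCat.of A)) = (Y ↘ Spec (CommRingCat.of B)) ≫ Spec.map (CommRingCat.ofHom φ))

include hq in
lemma appTop_toGlobal (a : A) : q.appTop (Coh.toGlobal (X ↘ Spec (CommRingCat.of A)) a) =
    Coh.toGlobal (Y ↘ Spec (CommRingCat.of B)) (φ a) := by
  have h := congrArg (fun k => k.hom a) ((Scheme.ΓSpecIso_inv_naturality (CommRingCat.ofHom φ)).symm)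
  change q.appTop.hom ((X ↘ Spec (CommRingCat.of A)).appTop.hom
      ((Scheme.ΓSpecIso (CommRingCat.of A)).inv.hom a)) =
    (Y ↘ Spec (CommRingCat.of B)).appTop.hom ((Scheme.ΓSpecIso (CommRingCat.of B)).inv.hom (φ a))
  rw [show (Scheme.ΓSpecIso (CommRingCat.of B)).inv.hom (φ a) =
    (Spec.map (CommRingCat.ofHom φ)).appTop.hom ((Scheme.ΓSpecIso (CommRingCat.of A)).inv.hom a) from h.symm]
  exact congr(($(congrArg Scheme.Hom.appTop hq)).hom ((Scheme.ΓSpecIso (CommRingCat.of A)).inv.hom a))

include hq in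
lemma secRing_pull (W : X.Opens) (a : A) :
    q.app W (W7Cech.secRing A W a) = W7Cech.secRing B (q ⁻¹ᵁ W) (φ a) := by
  change q.app W (X.presheaf.map (homOfLE (le_top : W ≤ ⊤)).op (Coh.toGlobal (X ↘ Spec (CommRingCat.of A)) a)) =
    Y.presheaf.map (homOfLE (le_top : q ⁻¹ᵁ W ≤ ⊤)).op (Coh.toGlobal (Y ↘ Spec (CommRingCat.of B)) (φ a))
  rw [← appTop_toGlobal hq]
  exact ConcreteCategory.congr_hom (q.naturality (homOfLE (le_top : W ≤ ⊤)).op)
    (Coh.toGlobal (X ↘ Spec (CommRingCat.of A)) a)

include hq in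
lemma push_smulMod (N : Y.Modules) (a : A) :
    (Scheme.Modules.pushforward q).map (Formal.smulMod B N (φ a)) =
      Formal.smulMod A ((Scheme.Modules.pushforward q).obj N) a := by
  refine Scheme.Modules.hom_ext _ _ fun W => ?_
  ext z
  change (W7Cech.secRing B (q ⁻¹ᵁ W) (φ a)) • (show Γ(N, q ⁻¹ᵁ W) from z) =
    (q.app W (W7Cech.secRing A W a)) • (show Γ(N, q ⁻¹ᵁ W) from z)
  rw [secRing_pull hq]

include hq in
lemma pull_smulMod (M : X.Modules) (a : A) :
    (Scheme.Modules.pullback q).map (Formal.smulMod A M a) =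
      Formal.smulMod B ((Scheme.Modules.pullback q).obj M) (φ a) := by
  let adj := Scheme.Modules.pullbackPushforwardAdjunction q
  apply (adj.homEquiv _ _).injective
  rw [adj.homEquiv_unit, adj.homEquiv_unit, push_smulMod hq]
  refine (adj.unit.naturality (Formal.smulMod A M a)).symm.trans ?_
  exact W7Cech.smulMod_natural A (adj.unit.app M) a

/-- A map killed by the generators of an extended ideal is killed by all of it. -/
lemma smul_comp_of_map {J : Ideal A} {M N : Y.Modules} (f : M ⟶ N)
    (h : ∀ a ∈ J, Formal.smulMod B M (φ a) ≫ f = 0) (b : B) (hb : b ∈ J.map φ) : Formal.smulMod B M b ≫ f = 0 := by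
  refine Submodule.span_induction (p := fun b _ => Formal.smulMod B M b ≫ f = 0) ?_ ?_ ?_ ?_ hb
  · rintro _ ⟨a, ha, rfl⟩
    exact h a ha
  · rw [smulMod_zero, zero_comp]
  · intro b c _ _ hb hc
    rw [smulMod_add, Preadditive.add_comp, hb, hc, add_zero]
  · intro c b _ hb
    rw [smul_eq_mul, mul_comm, ← smulMod_comp, Category.assoc, hb, comp_zero]

include hq in
lemma killedBy_pull {J : Ideal A} {M : X.Modules} (hM : Formal.KilledBy J M) :
    Formal.KilledBy (J.map φ) ((Scheme.Modules.pullback q).obj M) := fun b hb => by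
  have h := smul_comp_of_map (φ := φ) (𝟙 ((Scheme.Modules.pullback q).obj M)) (fun a ha => by
    rw [Category.comp_id, ← pull_smulMod hq, hM a ha]
    exact (Scheme.Modules.pullback q).map_zero _ _) b hb
  rwa [Category.comp_id] at h

include hq in
lemma killedBy_push {J : Ideal A} {N : Y.Modules} (hN : Formal.KilledBy (J.map φ) N) :
    Formal.KilledBy J ((Scheme.Modules.pushforward q).obj N) := fun a ha => by
  rw [← push_smulMod hq, hN _ (Ideal.mem_map_of_mem φ ha)]
  exact (Scheme.Modules.pushforward q).map_zero _ _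

variable (I : Ideal A)

include hq in
/-- Pullback of a coherent formal module. -/
theorem isCohFormal_pull [IsLocallyNoetherian Y] {G : ℕᵒᵖ ⥤ X.Modules} (hG : Formal.IsCohFormal I G) :
    Formal.IsCohFormal (I.map φ) (G ⋙ Scheme.Modules.pullback q) := by
  let P := Scheme.Modules.pullback q
  let adj := Scheme.Modules.pullbackPushforwardAdjunction q
  have hk : ∀ n, Formal.KilledBy ((I.map φ) ^ (n + 1)) (P.obj (G.obj (op n))) := fun n => by
    rw [← Ideal.map_pow]; exact killedBy_pull hq (hG.2.1 n)
  refine ⟨fun n => QC.isCoh_pullback q (hG.1 n), hk, fun n => ?_⟩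
  let t := P.map (tn G n)
  have h : Formal.smulFamily ((I.map φ) ^ (n + 1)) (P.obj (G.obj (op (n + 1)))) ≫ t = 0 :=
    Sigma.hom_ext _ _ fun a => by
      rw [comp_zero, ← Category.assoc, show Sigma.ι (fun _ : ↥((I.map φ) ^ (n + 1)) => P.obj (G.obj (op (n + 1)))) a ≫
        Formal.smulFamily ((I.map φ) ^ (n + 1)) _ = Formal.smulMod B _ (a : B) from Sigma.ι_desc _ a,
        W7Cech.smulMod_natural, hk n a a.2, comp_zero]
  refine ⟨h, ?_⟩
  let z := cokernel.π (Formal.smulFamily ((I.map φ) ^ (n + 1)) (P.obj (G.obj (op (n + 1)))))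
  let Q := cokernel (Formal.smulFamily ((I.map φ) ^ (n + 1)) (P.obj (G.obj (op (n + 1)))))
  obtain ⟨w, hw⟩ := exists_desc hG n (adj.homEquiv _ _ z) fun a ha => by
    rw [← adj.homEquiv_naturality_left, pull_smulMod hq]
    refine (congrArg (adj.homEquiv _ _) ?_).trans (adj.homAddEquiv_zero _ _)
    exact smulMod_π (I.map φ) (n + 1) _ _ (by rw [← Ideal.map_pow]; exact Ideal.mem_map_of_mem φ ha)
  have hw' : t ≫ (adj.homEquiv _ _).symm w = z := by
    rw [← adj.homEquiv_naturality_left_symm, hw, Equiv.symm_apply_apply]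
  haveI := epi_tn hG n
  haveI : P.IsLeftAdjoint := adj.isLeftAdjoint
  haveI : Epi t := inferInstance
  refine ⟨(adj.homEquiv _ _).symm w, ?_, ?_⟩
  · refine (cancel_epi z).1 ?_
    refine (Category.assoc _ _ _).symm.trans ?_
    exact ((congrArg (· ≫ (adj.homEquiv _ _).symm w) (cokernel.π_desc _ _ _)).trans hw').trans (Category.comp_id _).symm
  · refine (cancel_epi t).1 ?_
    refine (Category.assoc _ _ _).symm.trans ?_
    exact ((congrArg (· ≫ cokernel.desc _ _ h) hw').trans (cokernel.π_desc _ _ _)).trans (Category.comp_id _).symm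

include hq in
/-- Completion commutes with pullback. -/
theorem exists_pullCompletion (M : X.Modules) :
    ∃ e : Formal.completion (I.map φ) ((Scheme.Modules.pullback q).obj M) ≅
        Formal.completion I M ⋙ Scheme.Modules.pullback q,
      ∀ n : ℕ, Formal.modPowπ (I.map φ) (n + 1) ((Scheme.Modules.pullback q).obj M) ≫ e.hom.app (op n) =
        (Scheme.Modules.pullback q).map (Formal.modPowπ I (n + 1) M) := by
  let P := Scheme.Modules.pullback q
  let adj := Scheme.Modules.pullbackPushforwardAdjunction q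
  haveI : P.IsLeftAdjoint := adj.isLeftAdjoint
  choose θ hθ using fun n : ℕ => exists_desc_modPow (I.map φ) (n + 1) (P.map (Formal.modPowπ I (n + 1) M))
    fun b hb => smul_comp_of_map (φ := φ) (J := I ^ (n + 1)) (P.map (Formal.modPowπ I (n + 1) M)) (fun a ha => by
      rw [← pull_smulMod hq, ← P.map_comp, smulMod_π I _ M a ha]; exact P.map_zero _ _)
      b (by rwa [Ideal.map_pow])
  choose w hw using fun n : ℕ => exists_desc_modPow I (n + 1)
    (adj.homEquiv _ _ (Formal.modPowπ (I.map φ) (n + 1) (P.obj M))) fun a ha => by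
      rw [← adj.homEquiv_naturality_left, pull_smulMod hq]
      refine (congrArg (adj.homEquiv _ _) ?_).trans (adj.homAddEquiv_zero _ _)
      exact smulMod_π (I.map φ) (n + 1) _ _ (by rw [← Ideal.map_pow]; exact Ideal.mem_map_of_mem φ ha)
  have hi : ∀ n, IsIso (θ n) := fun n => by
    have hw' : P.map (Formal.modPowπ I (n + 1) M) ≫ (adj.homEquiv _ _).symm (w n) =
        Formal.modPowπ (I.map φ) (n + 1) (P.obj M) := by
      rw [← adj.homEquiv_naturality_left_symm, hw, Equiv.symm_apply_apply]
    refine ⟨(adj.homEquiv _ _).symm (w n), ?_, ?_⟩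
    · rw [← cancel_epi (Formal.modPowπ (I.map φ) (n + 1) (P.obj M)), ← Category.assoc, hθ, hw', Category.comp_id]
    · rw [← cancel_epi (P.map (Formal.modPowπ I (n + 1) M)), ← Category.assoc, hw', hθ, Category.comp_id]
  let α : Formal.completion (I.map φ) (P.obj M) ⟶ Formal.completion I M ⋙ P :=
    NatTrans.ofOpSequence θ fun n => by
      rw [completion_map_succ, ← cancel_epi (Formal.modPowπ (I.map φ) (n + 1 + 1) (P.obj M)), ← Category.assoc,
        ← Category.assoc, hθ]
      refine (congrArg (· ≫ θ n) (Formal.modPowπ_trans (I.map φ) (n + 1) (P.obj M))).trans ((hθ n).trans ?_)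
      change _ = P.map _ ≫ P.map _
      rw [completion_map_succ, ← P.map_comp]
      exact congrArg P.map (Formal.modPowπ_trans I (n + 1) M).symm
  haveI : ∀ n, IsIso (α.app n) := fun ⟨n⟩ => hi n
  haveI := NatIso.isIso_of_isIso_app α
  exact ⟨asIso α, hθ⟩

end Groth.Agent.W7Exist
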