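import Groth.Agent.W7Exist.LimAlg
import Groth.Agent.W7Exist.Pull
import Groth.Agent.W7Cech.BCSec

/-!
Modules killed by a power of an ideal do not change under completing the base ring.
-/

set_option autoImplicit false
set_option backward.isDefEq.respectTransparency false
set_option backward.isDefEq.respectTransparency.types false
set_option linter.style.haveILetI false
set_option maxHeartbeats 1000000

universe u

open CategoryTheory CategoryTheory.Limits AlgebraicGeometry TopologicalSpace Opposite
open scoped TensorProduct

noncomputable section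

namespace Groth.Agent.W7Exist

/-- A base change to the completion of a killed module is bijective. -/
theorem bijective_of_isBaseChange {R : Type u} [CommRing R] [IsNoetherianRing R] (J : Ideal R) (n : ℕ)
    {M N : Type u} [AddCommGroup M] [Module R M] [AddCommGroup N] [Module R N] [Module (AdicCompletion J R) N]
    [IsScalarTower R (AdicCompletion J R) N] (h : ∀ a ∈ J ^ n, ∀ x : M, a • x = 0) {p : M →ₗ[R] N}
    (hp : IsBaseChange (AdicCompletion J R) p) : Function.Bijective p := by
  obtain ⟨mS, hmS⟩ := exists_completion_module J n M h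
  letI := mS
  haveI : IsScalarTower R (AdicCompletion J R) M := IsScalarTower.of_algebraMap_smul fun a x => by
    rw [show algebraMap R (AdicCompletion J R) a = AdicCompletion.mk J R ⟨fun _ => a, fun _ => rfl⟩ from rfl, hmS]
  have hl : ∀ x, hp.lift (LinearMap.id : M →ₗ[R] M) (p x) = x := fun x => hp.lift_eq _ x
  refine ⟨fun x y h => by rw [← hl x, ← hl y, h], fun y => ?_⟩
  have hk : ∀ s : AdicCompletion J R, s ∈ (J ^ n • ⊤ : Submodule R (AdicCompletion J R)) → ∀ x : M, s • p x = 0 := by
    intro s hs x
    refine Submodule.smul_induction_on (p := fun s => s • p x = 0) hs (fun a ha t _ => ?_) fun a b ha hb => ?_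
    · rw [smul_assoc, smul_comm, ← map_smul, h a ha, map_zero, smul_zero]
    · rw [add_smul, ha, hb, add_zero]
  have hy : y ∈ Submodule.span (AdicCompletion J R) (Set.range p) := by
    induction y using hp.inductionOn with
    | zero => exact zero_mem _
    | tmul m => exact Submodule.subset_span ⟨m, rfl⟩
    | smul s m hm => exact Submodule.smul_mem _ _ hm
    | add a b ha hb => exact add_mem ha hb
  refine Submodule.span_induction (p := fun y _ => ∃ x, p x = y) (fun y hy => hy) ⟨0, map_zero p⟩
    (fun a b _ _ ⟨x, hx⟩ ⟨x', hx'⟩ => ⟨x + x', by rw [map_add, hx, hx']⟩) (fun s y _ ⟨x, hx⟩ => ?_) hy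
  obtain ⟨r, hr⟩ := AdicCompletion.mk_surjective J R s
  refine ⟨r.val n • x, ?_⟩
  subst hx
  rw [map_smul, ← algebraMap_smul (AdicCompletion J R), eq_comm, ← sub_eq_zero, ← sub_smul]
  refine hk _ ?_ x
  rw [AdicCompletion.pow_smul_top_eq_ker_eval (IsNoetherian.noetherian J : J.FG), LinearMap.mem_ker, map_sub, ← hr]
  change Submodule.Quotient.mk (r.val n) - Submodule.Quotient.mk (r.val n) = _
  exact sub_self _

variable {R : Type u} [CommRing R] [IsNoetherianRing R] (J : Ideal R) {X T : Scheme.{u}}
  [X.Over (Spec (CommRingCat.of R))] [T.Over (Spec (CommRingCat.of (AdicCompletion J R)))] {g : T ⟶ X}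
  (sq : IsPullback g (T ↘ Spec (CommRingCat.of (AdicCompletion J R))) (X ↘ Spec (CommRingCat.of R))
    (Spec.map (CommRingCat.ofHom (algebraMap R (AdicCompletion J R)))))

include sq in
/-- The unit is an isomorphism on killed modules. -/
theorem isIso_unit_of_killedBy (n : ℕ) {N : X.Modules} (hN : Coh.IsQCoh N) (hk : Formal.KilledBy (J ^ n) N) :
    IsIso ((Scheme.Modules.pullbackPushforwardAdjunction g).unit.app N) := by
  haveI := W7Cech.isAffineHom_bc R (AdicCompletion J R) g sq
  let η := (Scheme.Modules.pullbackPushforwardAdjunction g).unit.app N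
  haveI : ((Scheme.Modules.pullback g).obj N).IsQuasicoherent := QC.isQCoh_pullback g hN
  have hPq : Coh.IsQCoh ((Scheme.Modules.pushforward g).obj ((Scheme.Modules.pullback g).obj N)) :=
    QC.isQCoh_pushforward g
  refine QC.isIso_of_restrict_cover (fun U : X.affineOpens => U.2.fromSpec) (fun x => ?_) η fun U => ?_
  · obtain ⟨U, hU, hxU, -⟩ := exists_isAffineOpen_mem_and_subset (x := x) (U := ⊤) trivial
    exact ⟨⟨U, hU⟩, by rwa [IsAffineOpen.range_fromSpec]⟩
  refine QC.isIso_restrict_of_bijective U.2 hN hPq η ?_
  let S := AdicCompletion J R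
  let N' := ((W7Cech.secA S (g ⁻¹ᵁ U.1)).obj ((Scheme.Modules.pullback g).obj N) : ModuleCat.{u} S)
  letI : Module R (N' : Type u) := Module.compHom (N' : Type u) (algebraMap R S)
  haveI : IsScalarTower R S (N' : Type u) := IsScalarTower.of_algebraMap_smul fun _ _ => rfl
  exact bijective_of_isBaseChange J n (M := ((W7Cech.secA R U.1).obj N : Type u)) (N := (N' : Type u))
    (fun a ha x => smul_eq_zero_of_killedBy hk U.1 (W7Cech.secRing R U.1 a) (Ideal.mem_map_of_mem _ ha)
      (show Γ(N, U.1) from x))
    (W7Cech.isBaseChange_pullSec R S g sq hN U.2)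

include sq in
/-- Pulling back sections is bijective for killed modules. -/
theorem bijective_pullSect (n : ℕ) {N : X.Modules} (hN : Coh.IsQCoh N) (hk : Formal.KilledBy (J ^ n) N)
    (W : X.Opens) : Function.Bijective (OmegaSh.pullSect g N W) := by
  haveI := isIso_unit_of_killedBy J sq n hN hk
  exact ConcreteCategory.bijective_of_isIso (((Scheme.Modules.pullbackPushforwardAdjunction g).unit.app N).app W)

end Groth.Agent.W7Exist
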