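import Groth.Agent.W7Exist.Tors

/-!
Existence from a map out of a completion with kernels and cokernels killed by a power of the ideal.
-/

set_option autoImplicit false
set_option backward.isDefEq.respectTransparency false
set_option backward.isDefEq.respectTransparency.types false
set_option linter.style.haveILetI false
set_option maxHeartbeats 2000000

universe u

open CategoryTheory CategoryTheory.Limits AlgebraicGeometry TopologicalSpace Opposite
open Groth.Agent.QC (res res_res res_smul app_res appₗ)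

attribute [local instance] Abelian.hasFiniteBiproducts

noncomputable section

namespace Groth.Agent.W7Exist

variable {A : Type u} [CommRing A] {X : Scheme.{u}} [X.Over (Spec (CommRingCat.of A))] (I : Ideal A)

/-- Existence from a map out of a completion. -/
theorem exists_of_kerCoker_right [IsNoetherian X] {G : X.Modules} (hG : Coh.IsCoh G) {F : ℕᵒᵖ ⥤ X.Modules}
    (hF : Formal.IsCohFormal I F) (α : Formal.completion I G ⟶ F) (c : ℕ)
    (hk : ∀ n : ℕ, Formal.KilledBy (I ^ c) (kernel (α.app (op n))))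
    (hc : ∀ n : ℕ, Formal.KilledBy (I ^ c) (cokernel (α.app (op n)))) :
    ∃ (M : X.Modules) (a : G ⟶ M) (e : Formal.completion I M ≅ F), Coh.IsCoh M ∧
      Formal2.KerCokerKilledByIPowHom I a ∧
      ∀ n : ℕ, Formal.modPowπ I (n + 1) G ≫ α.app (op n) = a ≫ Formal.modPowπ I (n + 1) M ≫ e.hom.app (op n) := by
  classical
  obtain ⟨r, b, hb, hdet⟩ := exists_detect (X := X) (I ^ c)
  have hGc := isCohFormal_completion I hG
  have hkill : ∀ n {T : X.Modules} (y : T ⟶ (Formal.completion I G).obj (op n)), y ≫ α.app (op n) = 0 → ∀ d ∈ I ^ c,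
      y ≫ Formal.smulMod A ((Formal.completion I G).obj (op n)) d = 0 := fun n T y hy d hd => by
    rw [← kernel.lift_ι _ y hy, Category.assoc]
    refine (congrArg (kernel.lift _ y hy ≫ ·) (W7Cech.smulMod_natural A (kernel.ι (α.app (op n))) d).symm).trans ?_
    rw [hk n d hd, zero_comp, comp_zero]
  -- the partial inverses
  have hθ : ∀ (n : ℕ) (k l : Fin r), ∃ θ : F.obj (op n) ⟶ (Formal.completion I G).obj (op n), ∀ (T : X.Modules) (x : T ⟶ F.obj (op n)) (y : T ⟶ (Formal.completion I G).obj (op n)),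
      x ≫ Formal.smulMod A (F.obj (op n)) (b k) = y ≫ α.app (op n) → x ≫ θ = y ≫ Formal.smulMod A ((Formal.completion I G).obj (op n)) (b l) := by
    intro n k l
    obtain ⟨T₀, p, hp, y₀, hy₀⟩ := exists_refine (α.app (op n)) (Formal.smulMod A (F.obj (op n)) (b k)) (by
      rw [W7Cech.smulMod_natural, hc n _ (hb k), comp_zero])
    obtain ⟨θ, hθ⟩ := exists_desc_of_epi p (y₀ ≫ Formal.smulMod A ((Formal.completion I G).obj (op n)) (b l)) (by
      rw [← Category.assoc]
      refine hkill n _ ?_ _ (hb l)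
      rw [Category.assoc, ← hy₀, ← Category.assoc, kernel.condition, zero_comp])
    refine ⟨θ, fun T x y h => ?_⟩
    obtain ⟨T', q, hq, x', hx'⟩ := surjective_up_to_refinements_of_epi p x
    rw [← cancel_epi q, ← Category.assoc, hx', Category.assoc, hθ, ← Category.assoc, ← Category.assoc,
      ← sub_eq_zero, ← Preadditive.sub_comp]
    refine hkill n _ ?_ _ (hb l)
    rw [Preadditive.sub_comp, sub_eq_zero, Category.assoc, ← hy₀, ← Category.assoc, ← hx', Category.assoc,
      Category.assoc, h]
  choose θ hθc using hθ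
  have hθα : ∀ n k l, α.app (op n) ≫ θ n k l = Formal.smulMod A ((Formal.completion I G).obj (op n)) (b l * b k) := fun n k l => by
    rw [hθc n k l _ (α.app (op n)) (Formal.smulMod A ((Formal.completion I G).obj (op n)) (b k)) (W7Cech.smulMod_natural A (α.app (op n)) _).symm,
      smulMod_comp]
  have hθt : ∀ n k l, tn F n ≫ θ n k l = θ (n + 1) k l ≫ tn (Formal.completion I G) n := fun n k l => by
    obtain ⟨T₀, p, hp, y₀, hy₀⟩ := exists_refine (α.app (op (n + 1))) (Formal.smulMod A (F.obj (op (n + 1))) (b k)) (by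
      rw [W7Cech.smulMod_natural, hc (n + 1) _ (hb k), comp_zero])
    have h1 : (p ≫ tn F n) ≫ Formal.smulMod A (F.obj (op n)) (b k) =
        (y₀ ≫ tn (Formal.completion I G) n) ≫ α.app (op n) := by
      rw [Category.assoc, ← W7Cech.smulMod_natural, ← Category.assoc, hy₀, Category.assoc, Category.assoc]
      exact congrArg (y₀ ≫ ·) (α.naturality _).symm
    rw [← cancel_epi p, ← Category.assoc, hθc n k l _ (p ≫ tn F n) (y₀ ≫ tn (Formal.completion I G) n) h1,
      ← Category.assoc p, hθc (n + 1) k l _ p y₀ hy₀, Category.assoc, Category.assoc]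
    exact congrArg (y₀ ≫ ·) (W7Cech.smulMod_natural A (tn (Formal.completion I G) n) (b l)).symm
  let G2 : X.Modules := ⨁ fun _ : Fin r × Fin r => G
  have hG2 : Coh.IsCoh G2 := Devissage.isCoh_biproduct _ fun _ => hG
  let β₀ : ∀ n, F.obj (op n) ⟶ Formal.modPow I (n + 1) G2 := fun n =>
    ∑ kl : Fin r × Fin r, θ n kl.1 kl.2 ≫ modMap I (n + 1) (biproduct.ι (fun _ : Fin r × Fin r => G) kl)
  let β : F ⟶ Formal.completion I G2 := NatTrans.ofOpSequence β₀ fun n => by
    rw [completion_map_succ]
    simp only [β₀, Preadditive.comp_sum, Preadditive.sum_comp]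
    refine Finset.sum_congr rfl fun kl _ => ?_
    rw [Category.assoc, modMap_trans, ← Category.assoc, ← Category.assoc]
    exact congrArg (· ≫ _) ((hθt n kl.1 kl.2).trans (congrArg (_ ≫ ·) (completion_map_succ I G n)))
  let δ : G ⟶ G2 := biproduct.lift fun kl : Fin r × Fin r => Formal.smulMod A G (b kl.2 * b kl.1)
  have hαβ : ∀ n, Formal.modPowπ I (n + 1) G ≫ α.app (op n) ≫ β.app (op n) = δ ≫ Formal.modPowπ I (n + 1) G2 := fun n => by
    change _ ≫ _ ≫ ∑ kl : Fin r × Fin r, _ = _
    rw [show δ = ∑ kl : Fin r × Fin r, Formal.smulMod A G (b kl.2 * b kl.1) ≫ biproduct.ι (fun _ : Fin r × Fin r => G) kl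
      from biproduct.lift_eq, Preadditive.sum_comp, Preadditive.comp_sum, Preadditive.comp_sum]
    refine Finset.sum_congr rfl fun kl _ => ?_
    rw [← Category.assoc (α.app (op n)), hθα, ← Category.assoc (Formal.modPowπ I (n + 1) G),
      show Formal.modPowπ I (n + 1) G ≫ Formal.smulMod A ((Formal.completion I G).obj (op n)) (b kl.2 * b kl.1) =
        Formal.smulMod A G (b kl.2 * b kl.1) ≫ Formal.modPowπ I (n + 1) G from (W7Cech.smulMod_natural A _ _).symm,
      Category.assoc, Category.assoc]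
    exact congrArg (_ ≫ ·) (π_modMap I _ _)
  have hβθ : ∀ n k l, β.app (op n) ≫ modMap I (n + 1) (biproduct.π (fun _ : Fin r × Fin r => G) (k, l)) = θ n k l :=
    fun n k l => by
      change (∑ kl : Fin r × Fin r, _) ≫ _ = _
      rw [Preadditive.sum_comp, Finset.sum_eq_single (k, l)]
      · rw [Category.assoc, modMap_comp, biproduct.ι_π_self, modMap_id]
        exact Category.comp_id _
      · intro kl _ h
        rw [Category.assoc, modMap_comp, biproduct.ι_π_ne _ h, modMap_zero, comp_zero]
      · intro h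
        exact absurd (Finset.mem_univ _) h
  have hβk : ∀ n, ClSub.KilledByIdeal ((iSheaf I) ^ (c + c)) (kernel (β.app (op n))) := fun n => by
    rw [killedByIdeal_iSheaf]
    intro d hd
    rw [pow_add] at hd
    rw [← cancel_mono (kernel.ι (β.app (op n))), zero_comp, W7Cech.smulMod_natural]
    let x := kernel.ι (β.app (op n))
    refine Submodule.mul_induction_on hd (fun u hu v hv => ?_) fun u v hu hv => by
      rw [smulMod_add, Preadditive.comp_add, hu, hv, add_zero]
    rw [← smulMod_comp, ← Category.assoc]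
    refine hdet _ _ (hF.1 n).1 _ (fun k => ?_) u hu
    have hu' : (x ≫ Formal.smulMod A (F.obj (op n)) (b k)) ≫ Formal.smulMod A (F.obj (op n)) v = 0 := by
      obtain ⟨T', p, hp, y, hy⟩ := exists_refine (α.app (op n)) (x ≫ Formal.smulMod A (F.obj (op n)) (b k)) (by
        rw [Category.assoc, W7Cech.smulMod_natural, hc n _ (hb k), comp_zero, comp_zero])
      have hy0 : y ≫ Formal.smulMod A ((Formal.completion I G).obj (op n)) v = 0 := by
        refine hdet _ _ (hGc.1 n).1 y (fun l => ?_) v hv
        rw [← hθc n k l _ (p ≫ x) y ((Category.assoc _ _ _).trans hy), ← hβθ, Category.assoc,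
          ← Category.assoc x, kernel.condition, zero_comp, comp_zero]
      rw [← cancel_epi p, comp_zero, ← Category.assoc, hy, Category.assoc, ← W7Cech.smulMod_natural, ← Category.assoc,
        hy0, zero_comp]
    rw [Category.assoc, smulMod_comp, mul_comm, ← smulMod_comp, ← Category.assoc]
    exact hu'
  -- separation
  have hG2c := isCohFormal_completion I hG2
  let K : X.IdealSheafData := iSheaf I
  obtain ⟨m, hm⟩ := exists_sep K hF hG2c β (c + c) hβk
  have hsep := hm m le_rfl
  obtain ⟨C, hC, hCk, ⟨eC⟩⟩ := (kAlg_iSheaf I m).2 (quotKF hF K m) (isCohFormal_quotKF hF K m)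
    fun n => killedBy_quotK K m (hF.1 n).1
  let P : X.Modules := C ⊞ G2
  have hP : Coh.IsCoh P := isCoh_biprod hC hG2
  have hPc := isCohFormal_completion I hP
  let j : F ⟶ Formal.completion I P :=
    quotKFhom hF K m ≫ eC.inv ≫ cMap I biprod.inl + β ≫ cMap I biprod.inr
  have hj : ∀ n, j.app (op n) = (quotKFπ hF K m n ≫ eC.inv.app (op n)) ≫ modMap I (n + 1) biprod.inl +
      β.app (op n) ≫ modMap I (n + 1) biprod.inr := fun n => by
    change quotKFπ hF K m n ≫ eC.inv.app (op n) ≫ _ + _ = _
    rw [Category.assoc]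
    rfl
  have hjf : ∀ n, j.app (op n) ≫ modMap I (n + 1) (biprod.fst : P ⟶ C) = quotKFπ hF K m n ≫ eC.inv.app (op n) :=
    fun n => by
      rw [hj, Preadditive.add_comp, Category.assoc, Category.assoc (β.app (op n)), modMap_comp, modMap_comp,
        biprod.inl_fst, biprod.inr_fst, modMap_id, modMap_zero, comp_zero, add_zero]
      exact Category.comp_id _
  have hjs : ∀ n, j.app (op n) ≫ modMap I (n + 1) (biprod.snd : P ⟶ G2) = β.app (op n) := fun n => by
    rw [hj, Preadditive.add_comp, Category.assoc, Category.assoc (β.app (op n)), modMap_comp, modMap_comp,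
      biprod.inl_snd, biprod.inr_snd, modMap_id, modMap_zero, comp_zero, zero_add]
    exact Category.comp_id _
  have hsepj : ∀ n, ∃ (N : ℕ) (h : n ≤ N), kernel.ι (j.app (op N)) ≫ trG F h = 0 := fun n => by
    obtain ⟨N, h, hN⟩ := hsep n
    refine ⟨N, h, hN _ _ ?_ ?_⟩
    · rw [← hjs, ← Category.assoc, kernel.condition, zero_comp]
    · rw [← cancel_mono (eC.inv.app (op N)), Category.assoc, ← hjf, ← Category.assoc, kernel.condition, zero_comp,
        zero_comp]
  -- the map from `G`
  let Gq := quotK K m hG.1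
  choose g₀ hg₀ using fun n => exists_desc_quotK K m hG.1
    (Formal.modPowπ I (n + 1) G ≫ α.app (op n) ≫ quotKFπ hF K m n) (killedBy_quotK K m (hF.1 n).1)
  choose g₁ hg₁ using fun n => exists_desc_modPow I (n + 1) (g₀ n) fun d hd => by
    rw [W7Cech.smulMod_natural, (isCohFormal_quotKF hF K m).2.1 n d hd, comp_zero]
  have hnat : ∀ n, tn (Formal.completion I Gq) n ≫ g₁ n = g₁ (n + 1) ≫ tn (quotKF hF K m) n := fun n => by
    rw [← cancel_epi (Formal.modPowπ I (n + 1 + 1) Gq), ← Category.assoc, π_succ, hg₁, ← Category.assoc, hg₁,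
      ← cancel_epi (quotKπ K m hG.1), hg₀, ← Category.assoc (quotKπ K m hG.1), hg₀, Category.assoc, Category.assoc, quotKFπ_tn,
      ← Category.assoc (α.app (op (n + 1))), ← α.naturality, Category.assoc, ← Category.assoc (Formal.modPowπ I (n + 1 + 1) G),
      π_succ]
  obtain ⟨φ, hφ, -⟩ := (kAlg_iSheaf I m).1 Gq C (isCoh_quotK K m hG) hC (killedBy_quotK K m hG.1) hCk
    (NatTrans.ofOpSequence g₁ hnat ≫ eC.inv)
  obtain ⟨γ, hγdef⟩ : ∃ γ : G ⟶ P, γ = biprod.lift (quotKπ K m hG.1 ≫ φ) δ := ⟨_, rfl⟩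
  have hγ : ∀ n, γ ≫ Formal.modPowπ I (n + 1) P = Formal.modPowπ I (n + 1) G ≫ α.app (op n) ≫ j.app (op n) := fun n => by
    have h1 : (quotKπ K m hG.1 ≫ φ) ≫ Formal.modPowπ I (n + 1) C =
        (Formal.modPowπ I (n + 1) G ≫ α.app (op n) ≫ quotKFπ hF K m n) ≫ eC.inv.app (op n) := by
      rw [Category.assoc, ← hφ n, ← hg₀ n, ← hg₁ n, Category.assoc, Category.assoc]
      rfl
    rw [hγdef, biprod.lift_eq, Preadditive.add_comp, Category.assoc (quotKπ K m hG.1 ≫ φ), Category.assoc δ,
      ← π_modMap, ← π_modMap, ← Category.assoc (quotKπ K m hG.1 ≫ φ), h1, ← Category.assoc δ, ← hαβ, hj,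
      Preadditive.comp_add, Preadditive.comp_add]
    simp only [Category.assoc]
  -- the cokernel of `γ`
  let R := cokernel γ
  have hR : Coh.IsCoh R := QC.isCoh_cokernel hG.1 hP γ
  let ρ : P ⟶ R := cokernel.π γ
  have hD := isCohFormal_cokF hF hGc α
  obtain ⟨D, hDc, hDk, ⟨eD⟩⟩ := (kAlg_iSheaf I c).2 (cokF α) hD fun n => (killedByIdeal_iSheaf I).2 (hc n)
  have hz : ∀ n, α.app (op n) ≫ j.app (op n) ≫ modMap I (n + 1) ρ = 0 := fun n => by
    rw [← cancel_epi (Formal.modPowπ I (n + 1) G), comp_zero, ← Category.assoc (α.app (op n)),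
      ← Category.assoc (Formal.modPowπ I (n + 1) G), ← hγ, Category.assoc, π_modMap, ← Category.assoc,
      show γ ≫ ρ = 0 from cokernel.condition γ, zero_comp]
  let χ₀ : ∀ n, (cokF α).obj (op n) ⟶ Formal.modPow I (n + 1) R := fun n =>
    cokernel.desc _ (j.app (op n) ≫ modMap I (n + 1) ρ) (hz n)
  have hχ₀ : ∀ n, tn (cokF α) n ≫ χ₀ n = χ₀ (n + 1) ≫ tn (Formal.completion I R) n := fun n => by
    haveI : Epi (cokFπ α (n + 1)) := inferInstanceAs (Epi (cokernel.π _))
    have e1 : ∀ l, cokFπ α l ≫ χ₀ l = j.app (op l) ≫ modMap I (l + 1) ρ := fun l => cokernel.π_desc _ _ _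
    rw [← cancel_epi (cokFπ α (n + 1)), ← Category.assoc, cokFπ_tn, Category.assoc, e1, ← Category.assoc,
      ← Category.assoc, e1, j.naturality, Category.assoc, Category.assoc]
    exact congrArg (j.app (op (n + 1)) ≫ ·) (((cMap I ρ).naturality _).trans rfl)
  obtain ⟨χ, hχ⟩ := exists_hom_of_tors I hR c ((killedByIdeal_iSheaf I).1 hDk)
    (eD.hom ≫ NatTrans.ofOpSequence χ₀ hχ₀)
  have hDk' := (killedByIdeal_iSheaf I).1 hDk
  obtain ⟨f, hfdef⟩ : ∃ f : P ⟶ cokernel χ, f = ρ ≫ cokernel.π χ := ⟨_, rfl⟩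
  haveI : Epi f := by rw [hfdef]; exact epi_comp _ _
  let E := cokernel χ
  have hE : Coh.IsCoh E := QC.isCoh_cokernel hDc.1 hR χ
  let M := kernel f
  have hM : Coh.IsCoh M := QC.isCoh_kernel hP hE.1 f
  let i : M ⟶ P := kernel.ι f
  have hdesc : ∀ n {Z : X.Modules} (z : Formal.modPow I (n + 1) P ⟶ Z) (v : R ⟶ Z),
      Formal.modPowπ I (n + 1) P ≫ z = ρ ≫ v → ∃ v', Formal.modPowπ I (n + 1) R ≫ v' = v ∧ z = modMap I (n + 1) ρ ≫ v' := by
    intro n Z z v h
    obtain ⟨v', hv'⟩ := exists_desc_modPow I (n + 1) v fun d hd => by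
      rw [← cancel_epi ρ, comp_zero, ← Category.assoc, ← W7Cech.smulMod_natural, Category.assoc, ← h,
        ← Category.assoc, smulMod_π I _ _ d hd, zero_comp]
    refine ⟨v', hv', ?_⟩
    rw [← cancel_epi (Formal.modPowπ I (n + 1) P), h, π_modMap_assoc, hv']
  obtain ⟨g, e, he, hgj, hchar⟩ := exists_iso_of_proIso I hM hP i hF j
    (fun n => by
      let z := cokernel.π (j.app (op n))
      have h1 : γ ≫ Formal.modPowπ I (n + 1) P ≫ z = 0 := by
        rw [← Category.assoc, hγ, Category.assoc, Category.assoc, cokernel.condition, comp_zero, comp_zero]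
      obtain ⟨v', hv', hzv⟩ := hdesc n z (cokernel.desc γ _ h1) (cokernel.π_desc γ _ h1).symm
      have h2 : χ ≫ cokernel.desc γ _ h1 = 0 := by
        rw [← hv', ← Category.assoc, ← hχ n, Category.assoc]
        refine (congrArg (_ ≫ ·) ?_).trans comp_zero
        have h3 : χ₀ n ≫ v' = 0 := by
          haveI : Epi (cokFπ α n) := inferInstanceAs (Epi (cokernel.π _))
          rw [← cancel_epi (cokFπ α n), comp_zero, ← Category.assoc]
          refine (congrArg (· ≫ v') (cokernel.π_desc _ _ _)).trans ?_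
          rw [Category.assoc, ← hzv]
          exact cokernel.condition _
        change (eD.hom.app (op n) ≫ χ₀ n) ≫ v' = 0
        rw [Category.assoc, h3, comp_zero]
      change (i ≫ Formal.modPowπ I (n + 1) P) ≫ z = 0
      rw [Category.assoc, ← cokernel.π_desc γ _ h1, ← cokernel.π_desc χ _ h2, ← Category.assoc (cokernel.π γ),
        show cokernel.π γ ≫ cokernel.π χ = f from hfdef.symm, ← Category.assoc, kernel.condition, zero_comp])
    (fun n => by
      let z := cokernel.π (i ≫ Formal.modPowπ I (n + 1) P)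
      obtain ⟨w, hw⟩ := exists_desc_of_epi f (Formal.modPowπ I (n + 1) P ≫ z) (by
        rw [← Category.assoc]; exact cokernel.condition _)
      obtain ⟨v', hv', hzv⟩ := hdesc n z (cokernel.π χ ≫ w) (by rw [← hw, hfdef, Category.assoc])
      haveI : Epi (Formal.modPowπ I (n + 1) D ≫ eD.hom.app (op n)) := epi_comp _ _
      have h3 : χ₀ n ≫ v' = 0 := by
        rw [← cancel_epi (Formal.modPowπ I (n + 1) D ≫ eD.hom.app (op n)), comp_zero, ← Category.assoc]
        refine (congrArg (· ≫ v') ((Category.assoc _ _ _).trans (hχ n))).trans ?_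
        rw [Category.assoc, hv', ← Category.assoc, cokernel.condition, zero_comp]
      change j.app (op n) ≫ z = 0
      rw [hzv, ← Category.assoc]
      refine (congrArg (· ≫ v') (cokernel.π_desc _ _ (hz n)).symm).trans ?_
      rw [Category.assoc]
      exact (congrArg (_ ≫ ·) h3).trans comp_zero)
    hsepj
  let a : G ⟶ M := kernel.lift f γ (by
    rw [hfdef, ← Category.assoc, show γ ≫ ρ = 0 from cokernel.condition γ, zero_comp])
  have hai : a ≫ i = γ := kernel.lift_ι _ _ _
  refine ⟨M, a, e, hM, ⟨c + c, ?_, ?_⟩, fun n => ?_⟩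
  · refine killedBy_le I (Nat.le_succ _) ?_
    intro d hd
    rw [pow_add] at hd
    rw [← cancel_mono (kernel.ι a), zero_comp, W7Cech.smulMod_natural]
    refine Submodule.mul_induction_on hd (fun u hu v hv => ?_) fun u v hu hv => by
      rw [smulMod_add, Preadditive.comp_add, hu, hv, add_zero]
    rw [← smulMod_comp, ← Category.assoc]
    refine hdet _ _ hG.1 _ (fun k => ?_) u hu
    rw [Category.assoc, smulMod_comp, mul_comm, ← smulMod_comp, ← Category.assoc]
    refine hdet _ _ hG.1 _ (fun l => ?_) v hv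
    rw [Category.assoc, smulMod_comp]
    have h2 : kernel.ι a ≫ δ = 0 := by
      rw [show δ = γ ≫ biprod.snd by rw [hγdef, biprod.lift_snd], ← hai, Category.assoc, ← Category.assoc,
        kernel.condition, zero_comp]
    refine Eq.trans ?_ ((congrArg (· ≫ biproduct.π (fun _ : Fin r × Fin r => G) (k, l)) h2).trans zero_comp)
    rw [Category.assoc]
    exact congrArg (_ ≫ ·) (biproduct.lift_π (fun kl : Fin r × Fin r => Formal.smulMod A G (b kl.2 * b kl.1)) (k, l)).symm
  · refine killedBy_le I ((Nat.le_add_right c c).trans (Nat.le_succ _)) ?_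
    intro d hd
    rw [← cancel_epi (cokernel.π a), comp_zero, ← W7Cech.smulMod_natural]
    obtain ⟨T, p, hp, y, hy⟩ := exists_refine χ (i ≫ ρ) (by
      rw [Category.assoc, ← hfdef, kernel.condition])
    have h0 : (Formal.smulMod A M d ≫ i) ≫ ρ = 0 := by
      rw [Category.assoc, W7Cech.smulMod_natural, ← cancel_epi p, comp_zero, ← Category.assoc, hy, Category.assoc,
        ← W7Cech.smulMod_natural, hDk' d hd, zero_comp, comp_zero]
    obtain ⟨T', q, hq, s, hs⟩ := exists_refine γ (Formal.smulMod A M d ≫ i) h0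
    have hqs : q ≫ Formal.smulMod A M d = s ≫ a := by
      rw [← cancel_mono i, Category.assoc, hs, Category.assoc, hai]
    rw [← cancel_epi q, comp_zero, ← Category.assoc, hqs, Category.assoc, cokernel.condition, comp_zero]
  · rw [he]
    obtain ⟨N, hN, hch⟩ := hchar n
    rw [hch G a (Formal.modPowπ I (N + 1) G ≫ α.app (op N)) (by
      rw [← Category.assoc, hai, hγ, Category.assoc]), Category.assoc]
    refine Eq.trans ?_ (congrArg (_ ≫ ·) (α.naturality _))
    rw [← Category.assoc]
    exact congrArg (· ≫ _) (π_trG I G hN).symm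

end Groth.Agent.W7Exist
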