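import Groth.Agent.W7Exist.Tricky

/-!
The ideal sheaf generated by an ideal of the base; modules killed by its powers are trivially algebraized.
-/

set_option autoImplicit false
set_option backward.isDefEq.respectTransparency false
set_option backward.isDefEq.respectTransparency.types false
set_option linter.style.haveILetI false
set_option maxHeartbeats 1000000

universe u

open CategoryTheory CategoryTheory.Limits AlgebraicGeometry TopologicalSpace Opposite

noncomputable section

namespace Groth.Agent.W7Exist

variable {A : Type u} [CommRing A] {X : Scheme.{u}} [X.Over (Spec (CommRingCat.of A))] (I : Ideal A)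

/-- The ideal sheaf generated by `I`. -/
def iSheaf : X.IdealSheafData where
  ideal U := I.map (W7Cech.secRing A U.1)
  map_ideal_basicOpen U f := by
    rw [Ideal.map_map]
    exact congrArg (fun φ => I.map φ) (RingHom.ext fun a => W7Cech.resO_secRing (A := A) (X.basicOpen_le f) a)

lemma killedByIdeal_iSheaf {e : ℕ} {M : X.Modules} :
    ClSub.KilledByIdeal ((iSheaf I) ^ e) M ↔ Formal.KilledBy (I ^ e) M := by
  constructor
  · refine fun h a ha => hom_eq_zero_of_affine _ fun U s => ?_
    change W7Cech.secRing A U.1 a • s = 0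
    refine h U _ ?_ s
    rw [Scheme.IdealSheafData.ideal_pow, Pi.pow_apply, iSheaf, ← Ideal.map_pow]
    exact Ideal.mem_map_of_mem _ ha
  · intro h U a ha x
    refine smul_eq_zero_of_killedBy h U.1 a ?_ x
    rw [Scheme.IdealSheafData.ideal_pow, Pi.pow_apply, iSheaf] at ha
    rwa [Ideal.map_pow]

variable {I}

lemma isIso_π {e : ℕ} {M : X.Modules} (hM : Formal.KilledBy (I ^ e) M) {n : ℕ} (h : e ≤ n) :
    IsIso (Formal.modPowπ I n M) := by
  obtain ⟨w, hw⟩ := exists_desc_modPow I n (𝟙 M) fun a ha => by
    rw [Category.comp_id]; exact killedBy_le I h hM a ha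
  exact ⟨w, hw, by rw [← cancel_epi (Formal.modPowπ I n M), ← Category.assoc, hw, Category.id_comp, Category.comp_id]⟩

variable (I)

/-- Modules killed by powers of `I` are algebraized uniquely. -/
theorem kAlg_iSheaf : KAlg I (iSheaf (X := X) I) := by
  intro e
  refine ⟨fun M N hM hN hMk hNk ψ => ?_, fun G hG hGk => ?_⟩
  · rw [killedByIdeal_iSheaf] at hMk hNk
    haveI : IsIso (Formal.modPowπ I (e + 1) N) := isIso_π hNk e.le_succ
    refine ⟨Formal.modPowπ I (e + 1) M ≫ ψ.app (op e) ≫ inv (Formal.modPowπ I (e + 1) N), fun n => ?_, fun φ hφ => ?_⟩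
    · obtain ⟨N', he, hn⟩ : ∃ N', e ≤ N' ∧ n ≤ N' := ⟨max e n, le_max_left _ _, le_max_right _ _⟩
      haveI : IsIso (Formal.modPowπ I (N' + 1) N) := isIso_π hNk (he.trans N'.le_succ)
      let φ' := Formal.modPowπ I (N' + 1) M ≫ ψ.app (op N') ≫ inv (Formal.modPowπ I (N' + 1) N)
      have h' : ∀ l (hl : l ≤ N'), φ' ≫ Formal.modPowπ I (l + 1) N = Formal.modPowπ I (l + 1) M ≫ ψ.app (op l) :=
        fun l hl => by
          rw [← π_trG I N hl, ← π_trG I M hl]
          simp only [φ', Category.assoc, IsIso.inv_hom_id_assoc]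
          exact congrArg (_ ≫ ·) (ψ.naturality _).symm
      have h0 : φ' = Formal.modPowπ I (e + 1) M ≫ ψ.app (op e) ≫ inv (Formal.modPowπ I (e + 1) N) := by
        rw [← Category.assoc, ← h' e he, Category.assoc, IsIso.hom_inv_id, Category.comp_id]
      rw [← h0, h' n hn]
    · rw [← Category.assoc, hφ e, Category.assoc, IsIso.hom_inv_id, Category.comp_id]
  · have hk : ∀ n, Formal.KilledBy (I ^ (e + 1)) (G.obj (op n)) := fun n =>
      killedBy_le I e.le_succ ((killedByIdeal_iSheaf I).1 (hGk n))
    choose w hw using fun n => exists_desc_trG hG (Nat.le_add_left e n) (hk (n + e)) (𝟙 _)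
    let g : ∀ n, G.obj (op e) ⟶ G.obj (op n) := fun n => w n ≫ trG G (Nat.le_add_right n e)
    have hgt : ∀ n, g (n + 1) ≫ tn G n = g n := fun n => by
      haveI := epi_trG hG (Nat.le_add_left e (n + 1))
      rw [← cancel_epi (trG G (Nat.le_add_left e (n + 1)))]
      simp only [g, Category.assoc]
      rw [← Category.assoc, hw, Category.id_comp, trG_comp,
        ← trG_comp G (show n + e ≤ n + 1 + e by omega) (Nat.le_add_left e n), Category.assoc, ← Category.assoc _ (w n),
        hw, Category.id_comp, trG_comp]
    have hge : ∀ n, Epi (g n) := fun n => by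
      haveI := epi_trG hG (Nat.le_add_left e n)
      haveI := epi_trG hG (Nat.le_add_right n e)
      haveI : Epi (trG G (Nat.le_add_left e n) ≫ g n) := by
        simp only [g]
        rw [← Category.assoc, hw, Category.id_comp]
        infer_instance
      exact epi_of_epi (trG G (Nat.le_add_left e n)) _
    choose ε hε using fun n => exists_desc_modPow I (n + 1) (g n) fun a ha => by
      rw [W7Cech.smulMod_natural, hG.2.1 n a ha, comp_zero]
    have hi : ∀ n, IsIso (ε n) := fun n => by
      obtain ⟨u, hu⟩ := exists_desc_trG hG (Nat.le_add_right n e)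
        (fun a ha => π_smulMod I (n + 1) (G.obj (op e)) a ha)
        (trG G (Nat.le_add_left e n) ≫ Formal.modPowπ I (n + 1) (G.obj (op e)))
      haveI := epi_trG hG (Nat.le_add_left e n)
      have hgu : g n ≫ u = Formal.modPowπ I (n + 1) (G.obj (op e)) := by
        rw [← cancel_epi (trG G (Nat.le_add_left e n))]
        simp only [g, Category.assoc]
        rw [← Category.assoc, hw, Category.id_comp, hu]
      haveI := hge n
      exact ⟨u, by rw [← cancel_epi (Formal.modPowπ I (n + 1) (G.obj (op e))), ← Category.assoc, hε, hgu,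
          Category.comp_id],
        by rw [← cancel_epi (g n), ← Category.assoc, hgu, hε, Category.comp_id]⟩
    refine ⟨G.obj (op e), hG.1 e, hGk e, nonempty_iso_of_levels (fun n => @asIso _ _ _ _ (ε n) (hi n)) fun n => ?_⟩
    change tn (Formal.completion I (G.obj (op e))) n ≫ ε n = ε (n + 1) ≫ tn G n
    rw [← cancel_epi (Formal.modPowπ I (n + 1 + 1) (G.obj (op e))), ← Category.assoc, π_succ, hε, ← Category.assoc,
      hε, hgt]

end Groth.Agent.W7Exist
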