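import Groth.Agent.AdicLim.Basic
import Groth.Agent.AdicLim.Noetherian
import Groth.Agent.ResExt.Completion
import Mathlib.Tactic.Choose

/-!
Separation in towers of quotients: the Artin–Rees argument in the completion.
-/

set_option autoImplicit false
set_option backward.isDefEq.respectTransparency false
set_option linter.style.haveILetI false
set_option maxHeartbeats 1000000

universe u

noncomputable section

namespace Groth.Agent.W7Exist

/-- Artin–Rees separation for a submodule killed by a power of an ideal. -/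
theorem exists_sep_finite {S : Type u} [CommRing S] [IsNoetherianRing S] (J K : Ideal S) (e : ℕ)
    {L L' : Type u} [AddCommGroup L] [Module S L] [Module.Finite S L] [AddCommGroup L'] [Module S L']
    [Module.Finite S L'] (l : L →ₗ[S] L') (hker : ∀ x, l x = 0 → ∀ a ∈ K ^ e, a • x = 0) :
    ∃ m₀, ∀ m, m₀ ≤ m → ∀ n, ∃ N, n ≤ N ∧ ∀ x : L, l x ∈ (J ^ (N + 1) • ⊤ : Submodule S L') →
      x ∈ (K ^ m • ⊤ : Submodule S L) → x ∈ (J ^ (n + 1) • ⊤ : Submodule S L) := by
  let Nk := LinearMap.ker l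
  obtain ⟨k₀, hk₀⟩ := K.exists_pow_inf_eq_pow_smul Nk
  refine ⟨k₀ + e, fun m hm => ?_⟩
  let Q := L ⧸ (K ^ m • ⊤ : Submodule S L)
  let q : L →ₗ[S] Q := (K ^ m • ⊤ : Submodule S L).mkQ
  obtain ⟨c₁, hc₁⟩ := J.exists_pow_inf_eq_pow_smul (LinearMap.range l)
  obtain ⟨c₂, hc₂⟩ := J.exists_pow_inf_eq_pow_smul (Nk.map q)
  intro n
  refine ⟨n + c₁ + c₂ + 1, by omega, fun x hx hxm => ?_⟩
  have hzero : ∀ z ∈ Nk, z ∈ (K ^ m • ⊤ : Submodule S L) → z = 0 := by
    intro z hz hzm
    have h1 : z ∈ K ^ m • (⊤ : Submodule S L) ⊓ Nk := ⟨hzm, hz⟩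
    rw [hk₀ m (by omega)] at h1
    have h2 : z ∈ K ^ e • Nk := Submodule.smul_mono (Ideal.pow_le_pow_right (by omega)) inf_le_right h1
    refine Submodule.smul_induction_on (p := fun z => z = 0) h2 (fun a ha w hw => hker w hw a ha) fun a b ha hb => ?_
    rw [ha, hb, add_zero]
  have h1 : l x ∈ J ^ (n + c₁ + c₂ + 1 + 1) • (⊤ : Submodule S L') ⊓ LinearMap.range l := ⟨hx, x, rfl⟩
  rw [hc₁ _ (by omega)] at h1
  have h2 : l x ∈ (J ^ (n + c₂ + 1 + 1) • (⊤ : Submodule S L)).map l := by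
    rw [Submodule.map_smul'', Submodule.map_top]
    exact Submodule.smul_mono (Ideal.pow_le_pow_right (by omega)) inf_le_right h1
  obtain ⟨w, hw, hlw⟩ := h2
  have hk : x - w ∈ Nk := by rw [LinearMap.mem_ker, map_sub, hlw, sub_self]
  have h3 : q (x - w) ∈ J ^ (n + c₂ + 1 + 1) • (⊤ : Submodule S Q) ⊓ Nk.map q := by
    refine ⟨?_, _, hk, rfl⟩
    rw [map_sub, show q x = 0 from (Submodule.Quotient.mk_eq_zero _).2 hxm, zero_sub, SetLike.mem_coe, neg_mem_iff]
    have := Submodule.mem_map_of_mem (f := q) hw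
    rw [Submodule.map_smul''] at this
    exact Submodule.smul_mono le_rfl le_top this
  rw [hc₂ _ (by omega)] at h3
  have h4 : q (x - w) ∈ (J ^ (n + 1) • Nk).map q := by
    rw [Submodule.map_smul'']
    exact Submodule.smul_mono (Ideal.pow_le_pow_right (by omega)) inf_le_right h3
  obtain ⟨k', hk', hqk⟩ := h4
  have h5 : x - w - k' = 0 := hzero _ (sub_mem hk (Submodule.smul_le_right hk'))
    ((Submodule.Quotient.mk_eq_zero _).1 (by
      change q (x - w - k') = 0
      rw [map_sub, hqk, sub_self]))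
  rw [show x = k' + w by rw [sub_eq_zero] at h5; rw [← h5, sub_add_cancel]]
  exact add_mem (Submodule.smul_mono le_rfl le_top hk') (Submodule.smul_mono (Ideal.pow_le_pow_right (by omega)) le_rfl hw)

/-- The completion acts on a module killed by a power of the ideal. -/
lemma exists_completion_module {R : Type u} [CommRing R] (J : Ideal R) (n : ℕ) (M : Type u) [AddCommGroup M]
    [Module R M] (h : ∀ a ∈ J ^ n, ∀ x : M, a • x = 0) :
    ∃ mR : Module (AdicCompletion J R) M, letI := mR; ∀ (r : AdicCompletion.AdicCauchySequence J R) (x : M),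
      AdicCompletion.mk J R r • x = r.val n • x := by
  have ht : Module.IsTorsionBySet R M ((J ^ n : Ideal R) : Set R) := fun x a => h a a.2 x
  letI := ht.module
  refine ⟨Module.compHom M (AdicCompletion.evalₐ J n).toRingHom, fun r x => ?_⟩
  change AdicCompletion.evalₐ J n (AdicCompletion.mk J R r) • x = _
  rw [AdicCompletion.evalₐ_mk]
  exact Module.IsTorsionBySet.mk_smul ht _ x

/-- Separation in towers. -/
theorem exists_sep_tower {R : Type u} [CommRing R] [IsNoetherianRing R] (J K : Ideal R) (e : ℕ)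
    (M M' : ℕ → Type u) [∀ n, AddCommGroup (M n)] [∀ n, Module R (M n)] [∀ n, AddCommGroup (M' n)]
    [∀ n, Module R (M' n)] (f : ∀ n, M (n + 1) →ₗ[R] M n) (f' : ∀ n, M' (n + 1) →ₗ[R] M' n)
    (hf : ∀ n, Function.Surjective (f n)) (hf' : ∀ n, Function.Surjective (f' n))
    (hk : ∀ n, LinearMap.ker (f n) = J ^ (n + 1) • ⊤) (hk' : ∀ n, LinearMap.ker (f' n) = J ^ (n + 1) • ⊤)
    (hkill : ∀ n, ∀ a ∈ J ^ (n + 1), ∀ x : M n, a • x = 0) (hkill' : ∀ n, ∀ a ∈ J ^ (n + 1), ∀ x : M' n, a • x = 0)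
    (hfin : ∀ n, Module.Finite R (M n)) (hfin' : ∀ n, Module.Finite R (M' n))
    (β : ∀ n, M n →ₗ[R] M' n) (hβ : ∀ n x, f' n (β (n + 1) x) = β n (f n x))
    (hker : ∀ n x, β n x = 0 → ∀ a ∈ K ^ e, a • x = 0) :
    ∃ m₀, ∀ m, m₀ ≤ m → ∀ n, ∃ N, n ≤ N ∧ ∀ y : (∀ i, M i), (∀ i, f i (y (i + 1)) = y i) →
      β N (y N) = 0 → y N ∈ (K ^ m • ⊤ : Submodule R (M N)) → y n = 0 := by
  classical
  let S := AdicCompletion J R
  have hJfg : J.FG := IsNoetherian.noetherian J
  haveI : IsNoetherianRing S := ResExt.isNoetherianRing_adicCompletion J hJfg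
  choose mM hmM using fun n => exists_completion_module J (n + 1) (M n) (hkill n)
  choose mM' hmM' using fun n => exists_completion_module J (n + 1) (M' n) (hkill' n)
  letI := mM
  letI := mM'
  have hof : ∀ (T : ℕ → Type u) [∀ n, AddCommGroup (T n)] [∀ n, Module R (T n)] [∀ n, Module S (T n)],
      (∀ n (r : AdicCompletion.AdicCauchySequence J R) (x : T n), AdicCompletion.mk J R r • x = r.val (n + 1) • x) →
      ∀ n, IsScalarTower R S (T n) := fun T _ _ _ hT n => IsScalarTower.of_algebraMap_smul fun a x => by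
    rw [show algebraMap R S a = AdicCompletion.mk J R ⟨fun _ => a, fun _ => rfl⟩ from rfl, hT]
  haveI := hof M hmM
  haveI := hof M' hmM'
  have hstep : ∀ (r : AdicCompletion.AdicCauchySequence J R) n, r.val (n + 1) - r.val (n + 1 + 1) ∈ J ^ (n + 1) :=
    fun r n => by
      have := (r.property (Nat.le_succ (n + 1)))
      rwa [SModEq.sub_mem, smul_eq_mul, Ideal.mul_top] at this
  have hsemi : ∀ (T : ℕ → Type u) [∀ n, AddCommGroup (T n)] [∀ n, Module R (T n)] [∀ n, Module S (T n)],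
      (∀ n (r : AdicCompletion.AdicCauchySequence J R) (x : T n), AdicCompletion.mk J R r • x = r.val (n + 1) • x) →
      (∀ n, ∀ a ∈ J ^ (n + 1), ∀ x : T n, a • x = 0) →
      ∀ (g : ∀ n, T (n + 1) →ₗ[R] T n) n (r : S) (x : T (n + 1)), g n (r • x) = r • g n x := by
    intro T _ _ _ hT hTk g n r x
    obtain ⟨r, rfl⟩ := AdicCompletion.mk_surjective J R r
    rw [hT, hT, map_smul]
    rw [← sub_eq_zero, ← sub_smul, ← neg_sub, neg_smul, hTk n _ (hstep r n), neg_zero]
  have hlinβ : ∀ n (r : S) (x : M n), β n (r • x) = r • β n x := fun n r x => by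
    obtain ⟨r, rfl⟩ := AdicCompletion.mk_surjective J R r
    rw [hmM, hmM', map_smul]
  let fS : ∀ n, M (n + 1) →ₗ[S] M n := fun n =>
    { toFun := f n, map_add' := map_add (f n), map_smul' := hsemi M hmM hkill f n }
  let fS' : ∀ n, M' (n + 1) →ₗ[S] M' n := fun n =>
    { toFun := f' n, map_add' := map_add (f' n), map_smul' := hsemi M' hmM' hkill' f' n }
  let βS : ∀ n, M n →ₗ[S] M' n := fun n => { toFun := β n, map_add' := map_add (β n), map_smul' := hlinβ n }
  let L : Submodule S (∀ n, M n) := ⨅ n, LinearMap.ker (fS n ∘ₗ LinearMap.proj (n + 1) - LinearMap.proj n)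
  let L' : Submodule S (∀ n, M' n) := ⨅ n, LinearMap.ker (fS' n ∘ₗ LinearMap.proj (n + 1) - LinearMap.proj n)
  have hmem : ∀ x : ∀ n, M n, x ∈ L ↔ ∀ n, f n (x (n + 1)) = x n := fun x => by
    simp only [L, Submodule.mem_iInf, LinearMap.mem_ker, LinearMap.sub_apply, sub_eq_zero]
    rfl
  have hmem' : ∀ x : ∀ n, M' n, x ∈ L' ↔ ∀ n, f' n (x (n + 1)) = x n := fun x => by
    simp only [L', Submodule.mem_iInf, LinearMap.mem_ker, LinearMap.sub_apply, sub_eq_zero]
    rfl
  let π : ∀ n, L →ₗ[S] M n := fun n => LinearMap.proj n ∘ₗ L.subtype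
  let π' : ∀ n, L' →ₗ[S] M' n := fun n => LinearMap.proj n ∘ₗ L'.subtype
  have hL : AdicLim.IsLimit fS π :=
    { comm := fun n => LinearMap.ext fun x => (hmem _).1 x.2 n
      inj := fun x hx => Subtype.ext (funext hx)
      lift := fun y hy => ⟨⟨y, (hmem y).2 hy⟩, fun n => rfl⟩ }
  have hL' : AdicLim.IsLimit fS' π' :=
    { comm := fun n => LinearMap.ext fun x => (hmem' _).1 x.2 n
      inj := fun x hx => Subtype.ext (funext hx)
      lift := fun y hy => ⟨⟨y, (hmem' y).2 hy⟩, fun n => rfl⟩ }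
  let JS := J.map (algebraMap R S)
  let KS := K.map (algebraMap R S)
  haveI : IsAdicComplete JS S :=
    (IsAdicComplete.map_algebraMap_iff _ _).2 (AdicCompletion.isAdicComplete hJfg)
  have htop : ∀ (T : Type u) [AddCommGroup T] [Module R T] [Module S T] [IsScalarTower R S T] (P : Ideal R) (x : T),
      x ∈ ((P.map (algebraMap R S)) • ⊤ : Submodule S T) ↔ x ∈ (P • ⊤ : Submodule R T) := by
    intro T _ _ _ _ P x
    conv_rhs => rw [← Submodule.restrictScalars_top R S, ← Submodule.restrictScalars_map_smul_eq]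
    rfl
  have hkS : ∀ n, LinearMap.ker (fS n) = JS ^ (n + 1) • ⊤ := fun n => SetLike.ext fun x => by
    rw [← Ideal.map_pow, htop, ← hk n]; rfl
  have hkS' : ∀ n, LinearMap.ker (fS' n) = JS ^ (n + 1) • ⊤ := fun n => SetLike.ext fun x => by
    rw [← Ideal.map_pow, htop, ← hk' n]; rfl
  haveI : Module.Finite S (M 0) := haveI := hfin 0; Module.Finite.of_restrictScalars_finite R S (M 0)
  haveI : Module.Finite S (M' 0) := haveI := hfin' 0; Module.Finite.of_restrictScalars_finite R S (M' 0)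
  obtain ⟨hLfin, hLker⟩ := hL.finite_and_ker_eq JS hf hkS
  obtain ⟨hLfin', hLker'⟩ := hL'.finite_and_ker_eq JS hf' hkS'
  let l : L →ₗ[S] L' := LinearMap.codRestrict L' ((LinearMap.pi fun n => βS n ∘ₗ LinearMap.proj n) ∘ₗ L.subtype)
    fun x => (hmem' _).2 fun n => (hβ n _).trans (congrArg (β n) ((hmem _).1 x.2 n))
  obtain ⟨m₀, hm₀⟩ := exists_sep_finite JS KS e l fun x hx a ha => by
    refine Subtype.ext (funext fun n => ?_)
    have hxn : β n ((x : ∀ n, M n) n) = 0 := congrFun (congrArg Subtype.val hx) n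
    rw [← Ideal.map_pow] at ha
    change a • (x : ∀ n, M n) n = 0
    refine Submodule.span_induction (p := fun a _ => a • (x : ∀ n, M n) n = 0) ?_ (zero_smul _ _) ?_ ?_ ha
    · rintro _ ⟨b, hb, rfl⟩
      rw [algebraMap_smul]
      exact hker n _ hxn b hb
    · intro a b _ _ ha hb
      rw [add_smul, ha, hb, add_zero]
    · intro c a _ ha
      rw [smul_eq_mul, mul_smul, ha, smul_zero]
  refine ⟨m₀, fun m hm n => ?_⟩
  obtain ⟨N, hN, hsep⟩ := hm₀ m hm n
  refine ⟨N, hN, fun y hy hyβ hyK => ?_⟩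
  let yL : L := ⟨y, (hmem y).2 hy⟩
  -- correct the family to lie in `K^m`
  have h1 : π N yL ∈ ((KS ^ m • ⊤ : Submodule S L).map (π N)) := by
    rw [Submodule.map_smul'', Submodule.map_top, LinearMap.range_eq_top.2 (hL.surjective hf N), ← Ideal.map_pow, htop]
    exact hyK
  obtain ⟨z, hz, hzy⟩ := h1
  have hzN : (z : ∀ n, M n) N = y N := hzy
  have h2 : z ∈ (JS ^ (n + 1) • ⊤ : Submodule S L) := by
    refine hsep z ?_ hz
    rw [← hLker' N]
    change β N ((z : ∀ n, M n) N) = 0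
    rw [hzN, hyβ]
  have hd : (yL - z) ∈ LinearMap.ker (π N) := by
    rw [LinearMap.mem_ker, map_sub, hzy, sub_self]
  have h3 : (yL - z) ∈ LinearMap.ker (π n) := hL.ker_le hN hd
  rw [← hLker n] at h2
  have : π n yL = 0 := by
    rw [← sub_add_cancel yL z, map_add, LinearMap.mem_ker.1 h3, LinearMap.mem_ker.1 h2, add_zero]
  exact this

end Groth.Agent.W7Exist
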