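import Groth.Agent.W7Exist.Formal
import Groth.Agent.W7Exist.LimAlg

/-!
Separation: a map with uniformly killed kernels is injective modulo high powers of the ideal sheaf.
-/

set_option autoImplicit false
set_option backward.isDefEq.respectTransparency false
set_option backward.isDefEq.respectTransparency.types false
set_option linter.style.haveILetI false
set_option maxHeartbeats 1000000

universe u

open CategoryTheory CategoryTheory.Limits AlgebraicGeometry TopologicalSpace Opposite
open Groth.Agent.QC (res res_res res_smul app_res appₗ)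

noncomputable section

namespace Groth.Agent.W7Exist

variable {A : Type u} [CommRing A] {X : Scheme.{u}} [X.Over (Spec (CommRingCat.of A))] {I : Ideal A}
  (K : X.IdealSheafData)

/-- Separation. -/
theorem exists_sep [IsLocallyNoetherian X] [CompactSpace X] {F G : ℕᵒᵖ ⥤ X.Modules} (hF : Formal.IsCohFormal I F)
    (hG : Formal.IsCohFormal I G) (β : F ⟶ G) (c : ℕ)
    (hker : ∀ n : ℕ, ClSub.KilledByIdeal (K ^ c) (kernel (β.app (op n)))) :
    ∃ m₀, ∀ m, m₀ ≤ m → ∀ n, ∃ (N : ℕ) (h : n ≤ N), ∀ (T : X.Modules) (y : T ⟶ F.obj (op N)),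
      y ≫ β.app (op N) = 0 → y ≫ quotKFπ hF K m N = 0 → y ≫ trG F h = 0 := by
  classical
  obtain ⟨κ, hκ, V, hV, -, hcov⟩ := QC.exists_finite_affine_cover (X := X) (W := ⊤) CompactSpace.isCompact_univ
  have hloc : ∀ k, ∃ m₀, ∀ m, m₀ ≤ m → ∀ n, ∃ (N : ℕ) (h : n ≤ N), ∀ N' (h' : N ≤ N') (s : Γ(F.obj (op N'), V k)),
      (β.app (op N')).app (V k) s = 0 → (quotKFπ hF K m N').app (V k) s = 0 →
        (trG F (h.trans h')).app (V k) s = 0 := fun k => by
    let U : X.affineOpens := ⟨V k, hV k⟩
    let R := Γ(X, V k)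
    haveI : IsNoetherianRing R := IsLocallyNoetherian.component_noetherian U
    let J : Ideal R := I.map (W7Cech.secRing A (V k))
    obtain ⟨m₀, hm₀⟩ := exists_sep_tower (R := R) J (K.ideal U) c (fun n => Γ(F.obj (op n), V k))
      (fun n => Γ(G.obj (op n), V k)) (fun n => appₗ (tn F n) (V k)) (fun n => appₗ (tn G n) (V k))
      (fun n => app_trG_surjective hF (Nat.le_succ n) (hV k)) (fun n => app_trG_surjective hG (Nat.le_succ n) (hV k))
      (fun n => SetLike.ext fun s => LinearMap.mem_ker.trans (tn_app_eq_zero_iff hF n (hV k) s))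
      (fun n => SetLike.ext fun s => LinearMap.mem_ker.trans (tn_app_eq_zero_iff hG n (hV k) s))
      (fun n a ha x => smul_eq_zero_of_killedBy (hF.2.1 n) (V k) a (by rwa [Ideal.map_pow]) x)
      (fun n a ha x => smul_eq_zero_of_killedBy (hG.2.1 n) (V k) a (by rwa [Ideal.map_pow]) x)
      (fun n => (QC.isCoh_iff_finite_sections.1 (hF.1 n)).2 U)
      (fun n => (QC.isCoh_iff_finite_sections.1 (hG.1 n)).2 U)
      (fun n => appₗ (β.app (op n)) (V k))
      (fun n x => (congr(($(β.naturality (homOfLE (Nat.le_succ n)).op)).app (V k) x)).symm)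
      (fun n x hx a ha => by
        obtain ⟨z, rfl⟩ := (QC.mem_range_kernel_app (β.app (op n)) (V k) x).2 hx
        refine (Scheme.Modules.Hom.app_smul (kernel.ι (β.app (op n))) a z).symm.trans ?_
        rw [hker n U a (by simpa only [Scheme.IdealSheafData.ideal_pow, Pi.pow_apply] using ha) z]
        exact map_zero _)
    refine ⟨m₀, fun m hm n => ?_⟩
    obtain ⟨N, hN, hsep⟩ := hm₀ m hm n
    refine ⟨N, hN, fun N' h' s hs hs' => ?_⟩
    have h0 : (β.app (op N)).app (V k) ((trG F h').app (V k) s) = 0 := by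
      refine congr(($(β.naturality (homOfLE h').op)).app (V k) s).trans ?_
      change (trG G h').app (V k) ((β.app (op N')).app (V k) s) = 0
      rw [hs, map_zero]
    have h1 : (trG F h').app (V k) s ∈ (K.ideal U ^ m • ⊤ : Submodule R Γ(F.obj (op N), V k)) := by
      have hs1 := (quotKπ_app_eq_zero_iff K m (hF.1 N').1 U s).1 hs'
      have hs2 := Submodule.mem_map_of_mem (f := appₗ (trG F h') (V k)) hs1
      rw [Submodule.map_smul''] at hs2
      exact Submodule.smul_mono le_rfl le_top hs2
    obtain ⟨y, hy, hyN⟩ := exists_compatible_seq N (fun n => (Γ(F.obj (op n), V k) : Type u))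
      (fun n => (tn F n).app (V k)) (fun n => app_trG_surjective hF (Nat.le_succ n) (hV k))
      ((trG F h').app (V k) s)
    have hy0 := hsep y hy (by rw [hyN]; exact h0) (by rw [hyN]; exact h1)
    have hred : ∀ M (hM : n ≤ M), (trG F hM).app (V k) (y M) = y n := fun M hM => by
      induction M, hM using Nat.le_induction with
      | base => rw [trG_self]; rfl
      | succ M hM ih =>
        rw [← trG_comp F (Nat.le_succ M) hM]
        change (trG F hM).app (V k) ((tn F M).app (V k) (y (M + 1))) = _
        rw [hy M, ih]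
    refine (congr(($(trG_comp F h' hN)).app (V k) s)).symm.trans ?_
    change (trG F hN).app (V k) ((trG F h').app (V k) s) = 0
    rw [← hyN, hred N hN, hy0]
  choose m₀ hm₀ using hloc
  haveI := hκ
  refine ⟨Finset.univ.sup m₀, fun m hm n => ?_⟩
  choose N hN hsep using fun k => hm₀ k m ((Finset.le_sup (Finset.mem_univ k)).trans hm) n
  refine ⟨max n (Finset.univ.sup N), le_max_left _ _, fun T y hy hy' => ?_⟩
  let N' := max n (Finset.univ.sup N)
  let k₁ := kernel.ι (β.app (op N'))
  let k₂ := kernel.ι (k₁ ≫ quotKFπ hF K m N')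
  have hzero : k₂ ≫ k₁ ≫ trG F (le_max_left n (Finset.univ.sup N)) = 0 := by
    refine hom_eq_zero_of_cover V hV (fun x => hcov x trivial) (QC.isQCoh_kernel
      (QC.isQCoh_kernel (hF.1 N').1 (hG.1 N').1 _) (isQCoh_quotK K m (hF.1 N').1) _) _ fun k s => ?_
    refine hsep k N' ((Finset.le_sup (Finset.mem_univ k)).trans (le_max_right _ _)) _ ?_ ?_
    · exact congr(($(kernel.condition (β.app (op N')))).app (V k) (k₂.app (V k) s))
    · exact congr(($(kernel.condition (k₁ ≫ quotKFπ hF K m N'))).app (V k) s)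
  rw [← kernel.lift_ι _ y hy, ← kernel.lift_ι (k₁ ≫ quotKFπ hF K m N') (kernel.lift _ y hy)
    (by rw [← Category.assoc]; exact (congrArg (· ≫ _) (kernel.lift_ι _ y hy)).trans hy'),
    Category.assoc, Category.assoc]
  exact (congrArg (kernel.lift _ _ _ ≫ ·) hzero).trans comp_zero

end Groth.Agent.W7Exist
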