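import Groth.Agent.W7Exist.ProIso
import Groth.Agent.W7Exist.Sep
import Groth.Agent.CohQC.Affineness
import Groth.Prelude.Def_Formal2

/-!
Existence from a map to a completion with kernels and cokernels killed by a power of an ideal sheaf.
-/

set_option autoImplicit false
set_option backward.isDefEq.respectTransparency false
set_option backward.isDefEq.respectTransparency.types false
set_option linter.style.haveILetI false
set_option maxHeartbeats 1000000

universe u

open CategoryTheory CategoryTheory.Limits AlgebraicGeometry TopologicalSpace Opposite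
open Groth.Agent.QC (res res_res res_smul app_res appₗ)

attribute [local instance] Abelian.hasFiniteBiproducts

noncomputable section

namespace Groth.Agent.W7Exist

section Basic

variable {X : Scheme.{u}}

/-- Binary sums of coherent modules are coherent. -/
lemma isCoh_biprod [IsLocallyNoetherian X] {M N : X.Modules} (hM : Coh.IsCoh M) (hN : Coh.IsCoh N) :
    Coh.IsCoh (M ⊞ N) := by
  refine QC.isCoh_iff_finite_sections.2 ⟨CohQC.isQCoh_biprod hM.1 hN.1, fun U => ?_⟩
  haveI := (QC.isCoh_iff_finite_sections.1 hM).2 U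
  haveI := (QC.isCoh_iff_finite_sections.1 hN).2 U
  refine Module.Finite.of_surjective
    (LinearMap.coprod (appₗ (biprod.inl : M ⟶ M ⊞ N) U.1) (appₗ (biprod.inr : N ⟶ M ⊞ N) U.1)) fun t =>
      ⟨((biprod.fst : M ⊞ N ⟶ M).app U.1 t, (biprod.snd : M ⊞ N ⟶ N).app U.1 t), ?_⟩
  exact congr(($(biprod.total (X := M) (Y := N))).app U.1 t)

/-- Sections killed by the cokernel come from the source on affines. -/
lemma exists_preimage {F P : X.Modules} (hF : Coh.IsQCoh F) (hP : Coh.IsQCoh P) (a : F ⟶ P) {U : X.Opens}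
    (hU : IsAffineOpen U) (s : Γ(P, U)) (hs : (cokernel.π a).app U s = 0) : ∃ f, a.app U f = s := by
  obtain ⟨z, rfl⟩ := (QC.mem_range_kernel_app (cokernel.π a) U s).2 hs
  obtain ⟨f, rfl⟩ := QC.app_surjective_of_epi hU hF (QC.isQCoh_kernel hP (QC.isQCoh_cokernel hF hP a) _)
    (Abelian.factorThruImage a) z
  exact ⟨f, (congr(($(Abelian.image.fac a)).app U f)).symm⟩

lemma killedByIdeal_le (K : X.IdealSheafData) {m n : ℕ} (h : m ≤ n) {M : X.Modules}
    (hM : ClSub.KilledByIdeal (K ^ m) M) : ClSub.KilledByIdeal (K ^ n) M := fun U a ha x => hM U a (by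
  simp only [Scheme.IdealSheafData.ideal_pow, Pi.pow_apply] at ha ⊢
  exact Ideal.pow_le_pow_right h ha) x

end Basic

variable {A : Type u} [CommRing A] {X : Scheme.{u}} [X.Over (Spec (CommRingCat.of A))] (I : Ideal A)

lemma modMap_comp (n : ℕ) {M N P : X.Modules} (f : M ⟶ N) (g : N ⟶ P) :
    modMap I n f ≫ modMap I n g = modMap I n (f ≫ g) := by
  rw [← cancel_epi (Formal.modPowπ I n M), π_modMap_assoc, π_modMap, π_modMap, Category.assoc]

lemma modMap_id (n : ℕ) (M : X.Modules) : modMap I n (𝟙 M) = 𝟙 _ := by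
  rw [← cancel_epi (Formal.modPowπ I n M), π_modMap, Category.id_comp, Category.comp_id]

lemma modMap_zero (n : ℕ) (M N : X.Modules) : modMap I n (0 : M ⟶ N) = 0 := by
  rw [← cancel_epi (Formal.modPowπ I n M), π_modMap, zero_comp, comp_zero]

/-- The hypothesis that modules killed by a power of `K` are algebraized uniquely. -/
def KAlg (K : X.IdealSheafData) : Prop :=
  ∀ e : ℕ,
    (∀ (M N : X.Modules), Coh.IsCoh M → Coh.IsCoh N → ClSub.KilledByIdeal (K ^ e) M →
      ClSub.KilledByIdeal (K ^ e) N → ∀ ψ : Formal.completion I M ⟶ Formal.completion I N,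
        ∃! φ : M ⟶ N, ∀ n : ℕ, Formal.modPowπ I (n + 1) M ≫ ψ.app (op n) = φ ≫ Formal.modPowπ I (n + 1) N) ∧
    (∀ G : ℕᵒᵖ ⥤ X.Modules, Formal.IsCohFormal I G → (∀ n : ℕ, ClSub.KilledByIdeal (K ^ e) (G.obj (op n))) →
      ∃ M : X.Modules, Coh.IsCoh M ∧ ClSub.KilledByIdeal (K ^ e) M ∧ Nonempty (Formal.completion I M ≅ G))

/-- The same hypothesis, inside a class `Q` of modules. -/
def KAlgOn (Q : X.Modules → Prop) (K : X.IdealSheafData) : Prop :=
  ∀ e : ℕ,
    (∀ (M N : X.Modules), Coh.IsCoh M → Coh.IsCoh N → Q M → Q N → ClSub.KilledByIdeal (K ^ e) M →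
      ClSub.KilledByIdeal (K ^ e) N → ∀ ψ : Formal.completion I M ⟶ Formal.completion I N,
        ∃! φ : M ⟶ N, ∀ n : ℕ, Formal.modPowπ I (n + 1) M ≫ ψ.app (op n) = φ ≫ Formal.modPowπ I (n + 1) N) ∧
    (∀ G : ℕᵒᵖ ⥤ X.Modules, Formal.IsCohFormal I G → Q (G.obj (op 0)) →
      (∀ n : ℕ, ClSub.KilledByIdeal (K ^ e) (G.obj (op n))) →
      ∃ M : X.Modules, Coh.IsCoh M ∧ Q M ∧ ClSub.KilledByIdeal (K ^ e) M ∧ Nonempty (Formal.completion I M ≅ G))

/-- A class of coherent modules closed under quotients, submodules and binary sums. -/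
structure IsStableClass (Q : X.Modules → Prop) : Prop where
  of_epi : ∀ {M N : X.Modules} (p : M ⟶ N) [Epi p], Coh.IsCoh M → Coh.IsCoh N → Q M → Q N
  of_mono : ∀ {M N : X.Modules} (p : M ⟶ N) [Mono p], Coh.IsCoh M → Coh.IsCoh N → Q N → Q M
  biprod : ∀ {M N : X.Modules}, Coh.IsCoh M → Coh.IsCoh N → Q M → Q N → Q (M ⊞ N)

/-- Existence from a map to a completion with uniformly killed kernels and cokernels, inside a class. -/
theorem exists_of_kerCoker_on [IsNoetherian X] {Q : X.Modules → Prop} (hQ : IsStableClass Q)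
    (K : X.IdealSheafData) (h₁ : KAlgOn I Q K) {F : ℕᵒᵖ ⥤ X.Modules}
    (hF : Formal.IsCohFormal I F) (hFQ : Q (F.obj (op 0))) {H : X.Modules} (hH : Coh.IsCoh H) (hHQ : Q H)
    (α : F ⟶ Formal.completion I H) (c : ℕ)
    (hk : ∀ n : ℕ, ClSub.KilledByIdeal (K ^ c) (kernel (α.app (op n))))
    (hc : ∀ n : ℕ, ClSub.KilledByIdeal (K ^ c) (cokernel (α.app (op n)))) :
    ∃ (M : X.Modules) (a : M ⟶ H) (e : Formal.completion I M ≅ F), Coh.IsCoh M ∧ Q M ∧
      Formal2.KerCokerKilledByPowHom K a ∧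
      ∀ n : ℕ, Formal.modPowπ I (n + 1) M ≫ e.hom.app (op n) ≫ α.app (op n) = a ≫ Formal.modPowπ I (n + 1) H := by
  classical
  have hHc := isCohFormal_completion I hH
  obtain ⟨m, hm⟩ := exists_sep K hF hHc α c hk
  have hsep := hm m le_rfl
  obtain ⟨C, hC, hCQ, hCk, ⟨eC⟩⟩ := (h₁ m).2 (quotKF hF K m) (isCohFormal_quotKF hF K m)
    (by
      haveI : Epi (quotKFπ hF K m 0) := inferInstanceAs (Epi (cokernel.π _))
      exact hQ.of_epi (quotKFπ hF K m 0) (hF.1 0) (isCoh_quotK K m (hF.1 0)) hFQ)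
    fun n => killedBy_quotK K m (hF.1 n).1
  let P : X.Modules := C ⊞ H
  have hP : Coh.IsCoh P := isCoh_biprod hC hH
  have hPc := isCohFormal_completion I hP
  let j : F ⟶ Formal.completion I P :=
    quotKFhom hF K m ≫ eC.inv ≫ cMap I biprod.inl + α ≫ cMap I biprod.inr
  have hj : ∀ n, j.app (op n) = (quotKFπ hF K m n ≫ eC.inv.app (op n)) ≫ modMap I (n + 1) biprod.inl +
      α.app (op n) ≫ modMap I (n + 1) biprod.inr := fun n => by
    change quotKFπ hF K m n ≫ eC.inv.app (op n) ≫ _ + _ = _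
    rw [Category.assoc]
    rfl
  have hjf : ∀ n, j.app (op n) ≫ modMap I (n + 1) (biprod.fst : P ⟶ C) = quotKFπ hF K m n ≫ eC.inv.app (op n) :=
    fun n => by
      rw [hj, Preadditive.add_comp, Category.assoc, Category.assoc (α.app (op n)), modMap_comp, modMap_comp,
        biprod.inl_fst, biprod.inr_fst, modMap_id, modMap_zero, comp_zero, add_zero]
      exact Category.comp_id _
  have hjs : ∀ n, j.app (op n) ≫ modMap I (n + 1) (biprod.snd : P ⟶ H) = α.app (op n) := fun n => by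
    rw [hj, Preadditive.add_comp, Category.assoc, Category.assoc (α.app (op n)), modMap_comp, modMap_comp,
      biprod.inl_snd, biprod.inr_snd, modMap_id, modMap_zero, comp_zero, zero_add]
    exact Category.comp_id _
  have hsepj : ∀ n, ∃ (N : ℕ) (h : n ≤ N), kernel.ι (j.app (op N)) ≫ trG F h = 0 := fun n => by
    obtain ⟨N, h, hN⟩ := hsep n
    refine ⟨N, h, hN _ _ ?_ ?_⟩
    · rw [← hjs, ← Category.assoc, kernel.condition, zero_comp]
    · haveI : IsIso (eC.inv.app (op N)) := inferInstance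
      rw [← cancel_mono (eC.inv.app (op N)), Category.assoc, ← hjf, ← Category.assoc, kernel.condition, zero_comp,
        zero_comp]
  -- the cokernel
  let e' := m + c
  have hE := isCohFormal_cokF hPc hF j
  have hEk : ∀ n, ClSub.KilledByIdeal (K ^ e') (cokernel (j.app (op n))) := fun n U k hk' x => by
    simp only [Scheme.IdealSheafData.ideal_pow, Pi.pow_apply, e', pow_add] at hk'
    let π' := cokernel.π (j.app (op n))
    obtain ⟨p, rfl⟩ := QC.app_surjective_of_epi U.2 (hPc.1 n).1 (hE.1 n).1 π' x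
    obtain ⟨z, rfl⟩ := QC.app_surjective_of_epi U.2 hP.1 (hPc.1 n).1 (Formal.modPowπ I (n + 1) P) p
    refine Submodule.mul_induction_on hk' (fun k₁ hk₁ k₂ hk₂ => ?_) fun u v hu hv => ?_
    swap
    · rw [add_smul, hu, hv, add_zero]
    have hC1 : ∀ w : Γ(Formal.modPow I (n + 1) C, U.1), k₁ • w = 0 := fun w =>
      killedBy_of_epi K m hC.1 (W7Rees.isQCoh_modQuot C _ hC.1) (Formal.modPowπ I (n + 1) C) hCk U k₁
        (by simpa only [Scheme.IdealSheafData.ideal_pow, Pi.pow_apply] using hk₁) w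
    -- the component in `C`
    have hinl : ∀ w : Γ(Formal.modPow I (n + 1) C, U.1),
        k₁ • π'.app U.1 ((modMap I (n + 1) (biprod.inl : C ⟶ P)).app U.1 w) = 0 := fun w => by
      rw [← Scheme.Modules.Hom.app_smul, ← Scheme.Modules.Hom.app_smul, hC1, map_zero, map_zero]
    let w₁ : Γ(Formal.modPow I (n + 1) C, U.1) :=
      (Formal.modPowπ I (n + 1) C).app U.1 ((biprod.fst : P ⟶ C).app U.1 z)
    let w₂ : Γ(Formal.modPow I (n + 1) H, U.1) :=
      (Formal.modPowπ I (n + 1) H).app U.1 ((biprod.snd : P ⟶ H).app U.1 z)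
    have hz : (Formal.modPowπ I (n + 1) P).app U.1 z = (modMap I (n + 1) (biprod.inl : C ⟶ P)).app U.1 w₁ +
        (modMap I (n + 1) (biprod.inr : H ⟶ P)).app U.1 w₂ := by
      have h : Formal.modPowπ I (n + 1) P =
          biprod.fst ≫ Formal.modPowπ I (n + 1) C ≫ modMap I (n + 1) biprod.inl +
            biprod.snd ≫ Formal.modPowπ I (n + 1) H ≫ modMap I (n + 1) biprod.inr := by
        rw [π_modMap, π_modMap, ← Category.assoc, ← Category.assoc, ← Preadditive.add_comp, biprod.total,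
          Category.id_comp]
      exact congr(($h).app U.1 z)
    obtain ⟨f, hf⟩ := exists_preimage (hF.1 n).1 (hHc.1 n).1 (α.app (op n)) U.2
      (show Γ((Formal.completion I H).obj (op n), U.1) from k₂ • w₂) (by
        refine (Scheme.Modules.Hom.app_smul _ k₂ w₂).trans ?_
        exact hc n U k₂ (by simpa only [Scheme.IdealSheafData.ideal_pow, Pi.pow_apply] using hk₂) _)
    have hjz : π'.app U.1 ((j.app (op n)).app U.1 f) = 0 := congr(($(cokernel.condition (j.app (op n)))).app U.1 f)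
    rw [show (j.app (op n)).app U.1 f = _ from congr(($(hj n)).app U.1 f)] at hjz
    change π'.app U.1 ((modMap I (n + 1) (biprod.inl : C ⟶ P)).app U.1 _ +
      (modMap I (n + 1) (biprod.inr : H ⟶ P)).app U.1 ((α.app (op n)).app U.1 f)) = 0 at hjz
    rw [hf, map_add, add_eq_zero_iff_neg_eq] at hjz
    refine (congrArg (fun t : Γ((Formal.completion I P).obj (op n), U.1) => (k₁ * k₂) • π'.app U.1 t) hz).trans ?_
    rw [map_add, smul_add, mul_comm k₁, mul_smul, hinl,
      smul_zero, zero_add, mul_comm k₂, mul_smul, ← Scheme.Modules.Hom.app_smul π',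
      ← Scheme.Modules.Hom.app_smul (modMap I (n + 1) (biprod.inr : H ⟶ P))]
    refine (congrArg (k₁ • ·) hjz.symm).trans ?_
    rw [smul_neg, hinl, neg_zero]
  have hPQ : Q P := hQ.biprod hC hH hCQ hHQ
  obtain ⟨E, hEc, hEQ, hEkill, ⟨eE⟩⟩ := (h₁ e').2 (cokF j) hE
    (by
      haveI : Epi (Formal.modPowπ I (0 + 1) P) := inferInstanceAs (Epi (cokernel.π _))
      haveI : Epi (cokFπ j 0) := inferInstanceAs (Epi (cokernel.π _))
      exact hQ.of_epi (cokFπ j 0) (hPc.1 0) (hE.1 0) (hQ.of_epi (Formal.modPowπ I (0 + 1) P) hP (hPc.1 0) hPQ))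
    hEk
  -- the map to `E`
  let P' := quotK K e' hP.1
  have hP' : Coh.IsCoh P' := isCoh_quotK K e' hP
  choose g₀ hg₀ using fun n =>
    exists_desc_quotK K e' hP.1 (Formal.modPowπ I (n + 1) P ≫ cokFπ j n) (hEk n)
  choose g₁ hg₁ using fun n => exists_desc_modPow I (n + 1) (g₀ n) fun a ha => by
    rw [W7Cech.smulMod_natural, hE.2.1 n a ha, comp_zero]
  have hnat : ∀ n, tn (Formal.completion I P') n ≫ g₁ n = g₁ (n + 1) ≫ tn (cokF j) n := fun n => by
    rw [← cancel_epi (Formal.modPowπ I (n + 1 + 1) P'), ← cancel_epi (quotKπ K e' hP.1), ← Category.assoc (Formal.modPowπ I (n + 1 + 1) P'),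
      π_succ, hg₁, hg₀, ← Category.assoc (Formal.modPowπ I (n + 1 + 1) P'), hg₁, ← Category.assoc, hg₀,
      Category.assoc, cokFπ_tn, ← Category.assoc, π_succ]
  let ψ : Formal.completion I P' ⟶ Formal.completion I E := NatTrans.ofOpSequence g₁ hnat ≫ eE.inv
  obtain ⟨φ, hφ, -⟩ := (h₁ e').1 P' E hP' hEc (by
      haveI : Epi (quotKπ K e' hP.1) := inferInstanceAs (Epi (cokernel.π _))
      exact hQ.of_epi (quotKπ K e' hP.1) hP hP' hPQ) hEQ (killedBy_quotK K e' hP.1) hEkill ψ
  obtain ⟨f, hfdef⟩ : ∃ f : P ⟶ E, f = quotKπ K e' hP.1 ≫ φ := ⟨_, rfl⟩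
  have hfn : ∀ n, f ≫ Formal.modPowπ I (n + 1) E ≫ eE.hom.app (op n) = Formal.modPowπ I (n + 1) P ≫ cokFπ j n :=
    fun n => by
      have h1 : ψ.app (op n) = g₁ n ≫ eE.inv.app (op n) := rfl
      rw [hfdef, Category.assoc, ← Category.assoc φ, ← hφ n, h1, Category.assoc,
        Category.assoc, Iso.inv_hom_id_app]
      refine (congrArg (_ ≫ ·) ((congrArg (_ ≫ ·) (Category.comp_id _)).trans (hg₁ n))).trans (hg₀ n)
  haveI : Epi f := by
    have hR : Coh.IsCoh (cokernel f) := QC.isCoh_cokernel hP.1 hEc f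
    have hπ0 : ∀ n, Formal.modPowπ I (n + 1) (cokernel f) = 0 := fun n => by
      rw [← cancel_epi (cokernel.π f), comp_zero]
      obtain ⟨z, hz⟩ := exists_desc_modPow I (n + 1) (cokernel.π f ≫ Formal.modPowπ I (n + 1) (cokernel f)) fun a ha => by
        rw [← Category.assoc, W7Cech.smulMod_natural, Category.assoc, smulMod_π I _ _ a ha, comp_zero]
      haveI : Epi (cokFπ j n) := inferInstanceAs (Epi (cokernel.π _))
      haveI : Epi (f ≫ Formal.modPowπ I (n + 1) E ≫ eE.hom.app (op n)) := by rw [hfn]; exact epi_comp _ _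
      have hz0 : eE.inv.app (op n) ≫ z = 0 := by
        rw [← cancel_epi (f ≫ Formal.modPowπ I (n + 1) E ≫ eE.hom.app (op n)), comp_zero, Category.assoc,
          Category.assoc, Iso.hom_inv_id_app_assoc, hz, ← Category.assoc, cokernel.condition, zero_comp]
      rw [← hz, show z = eE.hom.app (op n) ≫ eE.inv.app (op n) ≫ z by rw [Iso.hom_inv_id_app_assoc], hz0, comp_zero,
        comp_zero]
    obtain ⟨w, -, hu⟩ := (h₁ e').1 (cokernel f) (cokernel f) hR hR (hQ.of_epi (cokernel.π f) hEc hR hEQ)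
      (hQ.of_epi (cokernel.π f) hEc hR hEQ)
      (killedBy_of_epi K e' hEc.1 hR.1 (cokernel.π f) hEkill) (killedBy_of_epi K e' hEc.1 hR.1 (cokernel.π f) hEkill) 0
    have h01 : 𝟙 (cokernel f) = 0 := (hu (𝟙 _) fun n => by rw [hπ0, zero_comp, comp_zero]).trans
      (hu 0 fun n => by rw [hπ0, zero_comp, comp_zero]).symm
    exact Abelian.epi_of_cokernel_π_eq_zero f (by rw [← Category.comp_id (cokernel.π f), h01, comp_zero])
  let M := kernel f
  have hM : Coh.IsCoh M := QC.isCoh_kernel hP hEc.1 f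
  let i : M ⟶ P := kernel.ι f
  obtain ⟨g, e, he, hgj, -⟩ := exists_iso_of_proIso I hM hP i hF j
    (fun n => by
      rw [Category.assoc]
      refine (congrArg (i ≫ ·) (hfn n).symm).trans ?_
      rw [← Category.assoc, kernel.condition, zero_comp])
    (fun n => by
      let z := cokernel.π (i ≫ Formal.modPowπ I (n + 1) P)
      obtain ⟨w, hw⟩ := exists_desc_of_epi f (Formal.modPowπ I (n + 1) P ≫ z) (by
        rw [← Category.assoc]; exact cokernel.condition _)
      obtain ⟨w', hw'⟩ := exists_desc_modPow I (n + 1) w fun a ha => by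
        rw [← cancel_epi f, comp_zero, ← Category.assoc, ← W7Cech.smulMod_natural, Category.assoc, hw,
          ← Category.assoc, smulMod_π I _ _ a ha, zero_comp]
      have hz : z = cokFπ j n ≫ eE.inv.app (op n) ≫ w' := by
        rw [← cancel_epi (Formal.modPowπ I (n + 1) P), ← hw, ← hw', ← Category.assoc (Formal.modPowπ I (n + 1) P),
          ← hfn, Category.assoc, Category.assoc, Iso.hom_inv_id_app_assoc]
      change j.app (op n) ≫ z = 0
      rw [hz, ← Category.assoc]
      exact (congrArg (· ≫ eE.inv.app (op n) ≫ w') (cokernel.condition _)).trans zero_comp)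
    hsepj
  refine ⟨M, i ≫ biprod.snd, e, hM, hQ.of_mono i hM hP hPQ, ⟨e', ?_, fun U k hk' x => ?_⟩, fun n => ?_⟩
  · let u : kernel (i ≫ (biprod.snd : P ⟶ H)) ⟶ C := kernel.ι _ ≫ i ≫ biprod.fst
    haveI : Mono u := Preadditive.mono_of_cancel_zero _ fun {T} z hz => by
      rw [← cancel_mono (kernel.ι _ ≫ i), zero_comp]
      refine biprod.hom_ext _ _ ?_ ?_
      · rw [zero_comp, Category.assoc, Category.assoc]
        exact hz
      · rw [zero_comp, Category.assoc, Category.assoc, kernel.condition, comp_zero]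
    exact killedByIdeal_le K (by omega) (killedBy_of_mono K m u hCk)
  · obtain ⟨b, rfl⟩ := QC.app_surjective_of_epi U.2 hH.1 (QC.isQCoh_cokernel hM.1 hH.1 _)
      (cokernel.π (i ≫ (biprod.snd : P ⟶ H))) x
    have h0 : f.app U.1 ((biprod.inr : H ⟶ P).app U.1 (k • b)) = 0 := by
      rw [Scheme.Modules.Hom.app_smul, Scheme.Modules.Hom.app_smul]
      exact killedByIdeal_le K (Nat.le_succ e') hEkill U k hk' _
    obtain ⟨z, hz⟩ := (QC.mem_range_kernel_app f U.1 _).2 h0
    refine (Scheme.Modules.Hom.app_smul (cokernel.π (i ≫ (biprod.snd : P ⟶ H))) k b).symm.trans ?_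
    have hb : k • b = (i ≫ (biprod.snd : P ⟶ H)).app U.1 z :=
      (congr(($(biprod.inr_snd (X := C) (Y := H))).app U.1 (k • b))).symm.trans
        (congrArg ((biprod.snd : P ⟶ H).app U.1) hz.symm)
    rw [hb]
    exact congr(($(cokernel.condition (i ≫ (biprod.snd : P ⟶ H)))).app U.1 z)
  · rw [← Category.assoc, he, ← hjs, ← Category.assoc, hgj, Category.assoc, π_modMap, Category.assoc]

/-- Existence from a map to a completion with uniformly killed kernels and cokernels. -/
theorem exists_of_kerCoker [IsNoetherian X] (K : X.IdealSheafData) (h₁ : KAlg I K) {F : ℕᵒᵖ ⥤ X.Modules}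
    (hF : Formal.IsCohFormal I F) {H : X.Modules} (hH : Coh.IsCoh H) (α : F ⟶ Formal.completion I H) (c : ℕ)
    (hk : ∀ n : ℕ, ClSub.KilledByIdeal (K ^ c) (kernel (α.app (op n))))
    (hc : ∀ n : ℕ, ClSub.KilledByIdeal (K ^ c) (cokernel (α.app (op n)))) :
    ∃ (M : X.Modules) (a : M ⟶ H) (e : Formal.completion I M ≅ F), Coh.IsCoh M ∧
      Formal2.KerCokerKilledByPowHom K a ∧
      ∀ n : ℕ, Formal.modPowπ I (n + 1) M ≫ e.hom.app (op n) ≫ α.app (op n) = a ≫ Formal.modPowπ I (n + 1) H := by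
  obtain ⟨M, a, e, hM, -, ha⟩ := exists_of_kerCoker_on I (Q := fun _ => True)
    ⟨fun _ _ _ _ _ => trivial, fun _ _ _ _ _ => trivial, fun _ _ _ _ => trivial⟩ K
    (fun d => ⟨fun M N hM hN _ _ => (h₁ d).1 M N hM hN, fun G hG _ hk => by
      obtain ⟨M, hM, hMk, he⟩ := (h₁ d).2 G hG hk
      exact ⟨M, hM, trivial, hMk, he⟩⟩) hF trivial hH trivial α c hk hc
  exact ⟨M, a, e, hM, ha⟩

end Groth.Agent.W7Exist
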