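import Groth.Agent.W7Exist.Formal
import Groth.Agent.ClSubLib.AnnIdeal
import Groth.Agent.ClSubLib.Support
import Groth.Agent.ParaFLib.Ext
import Mathlib.RingTheory.Support
import Mathlib.RingTheory.AdicCompletion.Basic

/-!
Supports of modules and of formal modules.
-/

set_option autoImplicit false
set_option backward.isDefEq.respectTransparency false
set_option backward.isDefEq.respectTransparency.types false
set_option linter.style.haveILetI false
set_option maxHeartbeats 1000000

universe u

open CategoryTheory CategoryTheory.Limits AlgebraicGeometry TopologicalSpace Opposite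
open Groth.Agent.QC (res resO res_res res_smul app_res appₗ)

attribute [local instance] Abelian.hasFiniteBiproducts

noncomputable section

namespace Groth.Agent.W7Exist

variable {X : Scheme.{u}}

lemma support_of_epi {M N : X.Modules} (p : M ⟶ N) [Epi p] : CohB1.support N ⊆ CohB1.support M := by
  intro x hx
  by_contra h
  exact (ClSubLib.notMem_support_iff_isZero N x).2
    (IsZero.of_epi ((DerSch.stalkFunctor X x).map p) ((ClSubLib.notMem_support_iff_isZero M x).1 h)) hx

lemma support_of_mono {M N : X.Modules} (p : M ⟶ N) [Mono p] : CohB1.support M ⊆ CohB1.support N := by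
  intro x hx
  by_contra h
  exact (ClSubLib.notMem_support_iff_isZero M x).2
    (IsZero.of_mono ((DerSch.stalkFunctor X x).map p) ((ClSubLib.notMem_support_iff_isZero N x).1 h)) hx

lemma support_biprod (M N : X.Modules) : CohB1.support (M ⊞ N) ⊆ CohB1.support M ∪ CohB1.support N := by
  intro x hx
  by_contra h
  rw [Set.mem_union, not_or] at h
  refine (ClSubLib.notMem_support_iff_isZero _ x).2 ((IsZero.iff_id_eq_zero _).2 ?_) hx
  rw [← (DerSch.stalkFunctor X x).map_id, ← biprod.total, Functor.map_add, Functor.map_comp, Functor.map_comp,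
    ((ClSubLib.notMem_support_iff_isZero M x).1 h.1).eq_of_src ((DerSch.stalkFunctor X x).map biprod.inl) 0,
    ((ClSubLib.notMem_support_iff_isZero N x).1 h.2).eq_of_src ((DerSch.stalkFunctor X x).map biprod.inr) 0,
    comp_zero, comp_zero, add_zero]

/-- Sections over an open missing the support vanish. -/
lemma eq_zero_of_support {N : X.Modules} {W : X.Opens} (h : ∀ x ∈ W, x ∉ CohB1.support N) (s : Γ(N, W)) :
    s = 0 := by
  refine QC.section_eq_of_locally fun x hx => ?_
  obtain ⟨W', hW', hxW', e⟩ := (QC.notMem_support_iff x).1 (h x hx) W hx s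
  exact ⟨W', hW', hxW', e.trans (map_zero _).symm⟩

/-- A module with closed support inside an open is determined by its restriction. -/
lemma secBij_of_support (O : X.Opens) (N : X.Modules) (hc : IsClosed (CohB1.support N))
    (hs : CohB1.support N ⊆ (O : Set X)) : ParaFLib.SecBij O N := by
  refine ParaFLib.secBij_of_local O N fun x => ?_
  by_cases hx : x ∈ O
  · refine ⟨O, hx, fun V hV => ?_⟩
    have e : V ⊓ O = V := inf_eq_left.2 hV
    refine (ParaFLib.bijective_res_congr e inf_le_left le_rfl).2 ?_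
    rw [show ⇑(res N (le_refl V)) = id from funext fun s => QC.res_self N le_rfl s]
    exact Function.bijective_id
  · refine ⟨⟨(CohB1.support N)ᶜ, hc.isOpen_compl⟩, fun h => hx (hs h), fun V hV => ⟨fun s t _ => ?_, fun s => ⟨0, ?_⟩⟩⟩
    · rw [eq_zero_of_support (fun y hy => hV hy) s, eq_zero_of_support (fun y hy => hV hy) t]
    · rw [map_zero, eq_zero_of_support (W := V ⊓ O) (fun y hy => hV hy.1) s]

variable {A : Type u} [CommRing A] [X.Over (Spec (CommRingCat.of A))]

/-- Nakayama for supports. -/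
lemma mem_support_modPow_one [IsLocallyNoetherian X] (I : Ideal A) {M : X.Modules} (hM : Coh.IsCoh M) {x : X}
    (hxI : ∀ (U : X.Opens), x ∈ U → ∀ a ∈ I, x ∉ X.basicOpen (W7Cech.secRing A U a))
    (h : x ∈ CohB1.support M) : x ∈ CohB1.support (Formal.modPow I 1 M) := by
  obtain ⟨U, hU, hxU, -⟩ := exists_isAffineOpen_mem_and_subset (x := x) (U := (⊤ : X.Opens)) trivial
  haveI : M.IsQuasicoherent := hM.1
  haveI hQ : (Formal.modPow I 1 M).IsQuasicoherent := W7Rees.isQCoh_modQuot M _ hM.1
  haveI : Module.Finite Γ(X, U) Γ(M, U) := (QC.isCoh_iff_finite_sections.1 hM).2 ⟨U, hU⟩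
  rw [← QC.mem_moduleSupport_iff hU hxU] at h ⊢
  let J : Ideal Γ(X, U) := I.map (W7Cech.secRing A U)
  have hp : hU.primeIdealOf ⟨x, hxU⟩ ∈ PrimeSpectrum.zeroLocus (J : Set Γ(X, U)) := by
    rw [PrimeSpectrum.mem_zeroLocus, SetLike.coe_subset_coe, Ideal.map_le_iff_le_comap]
    intro a ha
    rw [Ideal.mem_comap]
    by_contra hb
    refine hxI U hxU a ha ?_
    rw [← hU.fromSpec_image_basicOpen]
    exact ⟨hU.primeIdealOf ⟨x, hxU⟩, hb, hU.fromSpec_primeIdealOf ⟨x, hxU⟩⟩
  have hmem : hU.primeIdealOf ⟨x, hxU⟩ ∈ Module.support Γ(X, U) (Γ(M, U) ⧸ (J • ⊤ : Submodule Γ(X, U) Γ(M, U))) := by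
    rw [Module.support_quotient]
    exact ⟨h, hp⟩
  have hker : (J • ⊤ : Submodule Γ(X, U) Γ(M, U)) = LinearMap.ker (appₗ (Formal.modPowπ I 1 M) U) := by
    refine SetLike.ext fun s => ?_
    rw [LinearMap.mem_ker]
    refine Iff.trans ?_ (W7Rees.π_app_eq_zero_iff I hM.1 hU 1 s).symm
    rw [pow_one]
  refine Module.support_subset_of_injective ((J • ⊤ : Submodule Γ(X, U) Γ(M, U)).liftQ _ hker.le) ?_ hmem
  rw [← LinearMap.ker_eq_bot, Submodule.ker_liftQ_eq_bot]
  exact hker.ge

variable {I : Ideal A}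

/-- The first term bounds the supports of all terms. -/
lemma support_subset_zero [IsLocallyNoetherian X] {G : ℕᵒᵖ ⥤ X.Modules} (hG : Formal.IsCohFormal I G) (n : ℕ) :
    CohB1.support (G.obj (op n)) ⊆ CohB1.support (G.obj (op 0)) := by
  induction n with
  | zero => exact subset_rfl
  | succ n ih =>
    intro x hx
    by_contra h
    obtain ⟨U, hU, hxU, hUO⟩ := exists_isAffineOpen_mem_and_subset (x := x)
      (U := (⟨(CohB1.support (G.obj (op 0)))ᶜ, (QC.isClosed_support (hG.1 0).2).isOpen_compl⟩ : X.Opens)) h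
    refine (QC.notMem_support_iff_affine (hM := (hG.1 (n + 1)).1) hU hxU).2 (fun m => ⟨1, ?_, ?_⟩) hx
    · rw [Scheme.basicOpen_of_isUnit _ isUnit_one]; exact hxU
    rw [one_smul]
    have hmem := (tn_app_eq_zero_iff hG n hU m).1 (eq_zero_of_support (fun y hy hy' => hUO hy (ih hy')) _)
    have hall : ∀ s : Γ(G.obj (op (n + 1)), U), s ∈ ((I.map (W7Cech.secRing A U)) ^ (n + 1) • ⊤ :
        Submodule Γ(X, U) Γ(G.obj (op (n + 1)), U)) := fun s =>
      (tn_app_eq_zero_iff hG n hU s).1 (eq_zero_of_support (fun y hy hy' => hUO hy (ih hy')) _)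
    refine Submodule.smul_induction_on hmem (fun c hc s _ => ?_) fun a b ha hb => by rw [ha, hb, add_zero]
    refine Submodule.smul_induction_on (hall s) (fun d hd t _ => ?_) fun a b ha hb => by
      rw [smul_add, ha, hb, add_zero]
    rw [← mul_smul]
    refine smul_eq_zero_of_killedBy (hG.2.1 (n + 1)) U _ ?_ t
    rw [Ideal.map_pow]
    exact Ideal.pow_le_pow_right (by omega) (pow_add (I.map (W7Cech.secRing A U)) (n + 1) (n + 1) ▸ Ideal.mul_mem_mul hc hd)

end Groth.Agent.W7Exist
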