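import Groth.Agent.W7Hull.InvDual
import Groth.Agent.CohFinite.Tensor
import Groth.Agent.TMul.Assoc

/-!
Untwisting, naturally in the module.
-/

set_option autoImplicit false
set_option backward.isDefEq.respectTransparency false
set_option backward.isDefEq.respectTransparency.types false
set_option linter.style.haveILetI false

universe u

open CategoryTheory CategoryTheory.Limits AlgebraicGeometry TopologicalSpace Opposite
open Groth.Agent.CohFinite (tmap tmap_tm tmap_comp tmap_id)

noncomputable section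

namespace Groth.Agent.W7Exist

variable {X : Scheme.{u}}

/-- `H ⊗ φ`. -/
def rmap (H : X.Modules) {M N : X.Modules} (φ : M ⟶ N) : CohB1.tensorMod H M ⟶ CohB1.tensorMod H N :=
  (TMul.commIso H M).hom ≫ tmap φ H ≫ (TMul.commIso N H).hom

lemma rmap_tm (H : X.Modules) {M N : X.Modules} (φ : M ⟶ N) {U : X.Opens} (h : Γ(H, U)) (m : Γ(M, U)) :
    (rmap H φ).app U (TMul.tm h m) = TMul.tm h (φ.app U m) := by
  change (TMul.commHom N H).app U ((tmap φ H).app U ((TMul.commHom H M).app U (TMul.tm h m))) = _
  rw [TMul.commHom_tm, tmap_tm, TMul.commHom_tm]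

variable {P Q : X.Modules} (e : CohB1.tensorMod P Q ≅ Coh.structureModule X)

/-- `(H ⊗ P) ⊗ Q ≅ H`. -/
def untwist (H : X.Modules) : CohB1.tensorMod (CohB1.tensorMod H P) Q ≅ H where
  hom := (TMul.assocIso H P Q).hom ≫ rmap H e.hom ≫ (SecTwist.unitorR H).hom
  inv := (SecTwist.unitorR H).inv ≫ rmap H e.inv ≫ (TMul.assocIso H P Q).inv
  hom_inv_id := by
    rw [Category.assoc, Category.assoc, Iso.hom_inv_id_assoc, ← Category.assoc (rmap H e.hom),
      show rmap H e.hom ≫ rmap H e.inv = 𝟙 _ from TMul.hom_ext fun U h m => by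
        change (rmap H e.inv).app U ((rmap H e.hom).app U (TMul.tm h m)) = TMul.tm h m
        rw [rmap_tm, rmap_tm]
        exact congrArg (TMul.tm h) (congr(($(e.hom_inv_id)).app U m)),
      Category.id_comp, Iso.hom_inv_id]
  inv_hom_id := by
    rw [Category.assoc, Category.assoc, Iso.inv_hom_id_assoc, ← Category.assoc (rmap H e.inv),
      show rmap H e.inv ≫ rmap H e.hom = 𝟙 _ from TMul.hom_ext fun U h m => by
        change (rmap H e.hom).app U ((rmap H e.inv).app U (TMul.tm h m)) = TMul.tm h m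
        rw [rmap_tm, rmap_tm]
        exact congrArg (TMul.tm h) (congr(($(e.inv_hom_id)).app U m)),
      Category.id_comp, Iso.inv_hom_id]

lemma untwist_tm (H : X.Modules) {U : X.Opens} (h : Γ(H, U)) (p : Γ(P, U)) (q : Γ(Q, U)) :
    (untwist e H).hom.app U (TMul.tm (TMul.tm h p) q) =
      (show Γ(X, U) from e.hom.app U (TMul.tm p q)) • h := by
  change (SecTwist.unitorR H).hom.app U ((rmap H e.hom).app U ((TMul.assocHom H P Q).app U _)) = _
  rw [TMul.assocHom_tm, rmap_tm]
  exact SecTwist.unitorR_tmul H U h _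

lemma untwist_natural {H H' : X.Modules} (φ : H ⟶ H') :
    tmap (tmap φ P) Q ≫ (untwist e H').hom = (untwist e H).hom ≫ φ :=
  TMul.hom_ext₃ fun U h p q => by
    change (untwist e H').hom.app U ((tmap (tmap φ P) Q).app U (TMul.tm (TMul.tm h p) q)) =
      φ.app U ((untwist e H).hom.app U (TMul.tm (TMul.tm h p) q))
    rw [tmap_tm, tmap_tm, untwist_tm, untwist_tm, Scheme.Modules.Hom.app_smul]

end Groth.Agent.W7Exist
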