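import Groth.Agent.W7Exist.Good
import Groth.Agent.W7Exist.Twist
import Groth.Agent.W7Rees.HomFull
import Groth.Agent.ProjMor.Exists
import Groth.Agent.RefStalk.Refl

/-!
Compatible epimorphisms onto a surjective system with a good family of kernels.
-/

set_option autoImplicit false
set_option backward.isDefEq.respectTransparency false
set_option backward.isDefEq.respectTransparency.types false
set_option linter.style.haveILetI false
set_option maxHeartbeats 1000000

universe u

open CategoryTheory CategoryTheory.Limits AlgebraicGeometry TopologicalSpace Opposite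
open Groth.Agent.QC (res res_res res_smul app_res appₗ)
open Groth.Agent.CohFinite (tmap tmap_tm tmap_comp tmap_id shortExact_tmap isCoh_tensor)

attribute [local instance] Abelian.hasFiniteBiproducts

noncomputable section

namespace Groth.Agent.W7Exist

/-- A tower of surjections has compatible families through every element. -/
lemma exists_compatible_seq (c : ℕ) :
    ∀ (S : ℕ → Type u) (f : ∀ n, S (n + 1) → S n), (∀ n, Function.Surjective (f n)) → ∀ x : S c,
      ∃ y : ∀ n, S n, (∀ n, f n (y (n + 1)) = y n) ∧ y c = x := by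
  induction c with
  | zero =>
    intro S f hf x
    choose g hg using hf
    exact ⟨fun n => Nat.rec x (fun n z => g n z) n, fun n => hg n _, rfl⟩
  | succ c ih =>
    intro S f hf x
    obtain ⟨y, hy, hyc⟩ := ih (fun n => S (n + 1)) (fun n => f (n + 1)) (fun n => hf (n + 1)) x
    refine ⟨fun n => Nat.casesOn (motive := S) n (f 0 (y 0)) y, fun n => ?_, hyc⟩
    cases n with
    | zero => rfl
    | succ n => exact hy n

variable {X : Scheme.{u}}

/-- A coherent module spanned by global sections near every point is a quotient of a finite free one. -/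
theorem exists_finite_gens [IsLocallyNoetherian X] [CompactSpace X] {G : X.Modules} (hG : Coh.IsCoh G)
    (h : ∀ x : X, ∃ D : X.Opens, IsAffineOpen D ∧ x ∈ D ∧ TMul.GenOn G D) :
    ∃ (l : ℕ) (s : Fin l → Γ(G, ⊤)),
      Epi (biproduct.desc (f := fun _ : Fin l => Coh.structureModule X) fun i => TMul.homOf (s i)) := by
  classical
  choose D hD hxD hgen using h
  obtain ⟨T, hT⟩ := isCompact_univ.elim_finite_subcover (fun x : X => ((D x : X.Opens) : Set X))
    (fun x => (D x).2) (fun x _ => Set.mem_iUnion.mpr ⟨x, hxD x⟩)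
  have hfin : ∀ x : X, ∃ t : Finset Γ(G, ⊤),
      Submodule.span Γ(X, D x) (res G (le_top : D x ≤ ⊤) '' (t : Set Γ(G, ⊤))) = ⊤ := fun x => by
    haveI := (QC.isCoh_iff_finite_sections.1 hG).2 ⟨D x, hD x⟩
    have hfg : (Submodule.span Γ(X, D x) (Set.range (res G (le_top : D x ≤ ⊤)))).FG := by
      rw [hgen x]; exact Module.Finite.fg_top
    obtain ⟨t, ht, hspan⟩ := (Submodule.fg_span_iff_fg_span_finset_subset _).1 hfg
    choose pre hpre using fun y : t => ht y.2
    refine ⟨t.attach.image pre, eq_top_iff.2 ?_⟩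
    rw [← hgen x, hspan]
    refine Submodule.span_le.2 fun y hy => Submodule.subset_span ⟨pre ⟨y, hy⟩, ?_, hpre _⟩
    exact Finset.mem_coe.2 (Finset.mem_image.2 ⟨⟨y, hy⟩, Finset.mem_attach _ _, rfl⟩)
  choose t ht using hfin
  let U := T.biUnion t
  let s : Fin U.card → Γ(G, ⊤) := fun i => (U.equivFin.symm i).1
  refine ⟨U.card, s, epi_of_surjective (fun x : T => D x) (fun x => hD x) (fun x => ?_)
    (Devissage.isQCoh_biproduct _ fun _ => (RefStalk.isCoh_structureModule (X := X)).1) hG.1 _ fun x y => ?_⟩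
  · obtain ⟨y, hy, hxy⟩ := Set.mem_iUnion₂.mp (hT (Set.mem_univ x))
    exact ⟨⟨y, hy⟩, hxy⟩
  · let φ := biproduct.desc (f := fun _ : Fin U.card => Coh.structureModule X) fun i => TMul.homOf (s i)
    change y ∈ LinearMap.range (appₗ φ (D x))
    refine (Submodule.span_le (p := LinearMap.range (appₗ φ (D x)))).2 ?_
      ((ht x).symm ▸ Submodule.mem_top : y ∈ _)
    rintro _ ⟨g, hg, rfl⟩
    obtain ⟨i, hi⟩ : ∃ i, s i = g := ⟨U.equivFin ⟨g, Finset.mem_biUnion.2 ⟨x, x.2, hg⟩⟩, by simp [s]⟩
    refine ⟨(biproduct.ι (fun _ : Fin U.card => Coh.structureModule X) i).app (D x)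
      (show Γ(Coh.structureModule X, D x) from (1 : Γ(X, D x))), ?_⟩
    change (biproduct.ι (fun _ : Fin U.card => Coh.structureModule X) i ≫ φ).app (D x) _ = _
    rw [biproduct.ι_desc, ← hi]
    exact TMul.val_homOf _ _

section Main

variable (A : Type u) [CommRing A] [IsNoetherianRing A] [X.Over (Spec (CommRingCat.of A))]
  [IsProper (X ↘ Spec (CommRingCat.of A))] {L : X.Modules} (hL : CohB1.IsAmple L)

include hL in
/-- Compatible epimorphisms from a coherent module. -/
theorem exists_compatible_epi {r : ℕ} (a : Fin r → A) (H : ℕ → X.Modules) (hH : ∀ n, Coh.IsCoh (H n))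
    (t : ∀ n, H (n + 1) ⟶ H n) (ht : ∀ n, Epi (t n)) (μ : Fin r → ∀ n, H n ⟶ H (n + 1))
    (hμ : ∀ j n, t n ≫ μ j n = Formal.smulMod A (H (n + 1)) (a j))
    (K : Fam X r) (hK : K.Good) (κ : ∀ n, K.obj n ⟶ H (n + 1))
    (hκ : ∀ n, ∀ {Z : X.Modules} (z : H (n + 1) ⟶ Z), κ n ≫ z = 0 → ∃ w, t n ≫ w = z)
    (hκm : ∀ n, Mono (κ n)) (hκt : ∀ n, κ n ≫ t n = 0)
    (hκτ : ∀ j n, K.τ j n ≫ κ (n + 1) = κ n ≫ μ j (n + 1)) :
    ∃ (P : X.Modules) (g : ∀ n, P ⟶ H n), Coh.IsCoh P ∧ (∀ n, g (n + 1) ≫ t n = g n) ∧ ∀ n, Epi (g n) := by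
  classical
  haveI : IsLocallyNoetherian X := LocallyOfFiniteType.isLocallyNoetherian (X ↘ Spec (CommRingCat.of A))
  haveI : CompactSpace X := QuasiCompact.compactSpace_of_compactSpace (X ↘ Spec (CommRingCat.of A))
  obtain ⟨n₀, hn₀⟩ := hK.gen
  let c := n₀ + 1
  obtain ⟨d₁, hd₁⟩ := vanish_uniform A hL hK 0
  haveI : (H c).IsQuasicoherent := (hH c).1
  obtain ⟨d₂, hd₂⟩ := TMul.exists_forall_genOn hL (F := H c) (hH c).2
  let d := max d₁ d₂
  let L' := CohB1.tensorPow L d
  have hL' : PicF.IsInvertible L' := TMul.isInvertible_tensorPow hL.1 d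
  obtain ⟨Q, hQ, ⟨e⟩⟩ := W7Hull.exists_tensor_inverse hL'
  let T : X.Modules → X.Modules := fun M => CohB1.tensorMod M L'
  have hses : ∀ n, (ShortComplex.mk (κ n) (t n) (hκt n)).ShortExact := fun n =>
    haveI := hκm n
    haveI := ht n
    { exact := ShortComplex.exact_of_g_is_cokernel _ (CokernelCofork.IsColimit.ofπ _ (hκt n)
        (fun z hz => (hκ n z hz).choose) (fun z hz => (hκ n z hz).choose_spec)
        fun z hz m hm => (cancel_epi (t n)).1 (hm.trans (hκ n z hz).choose_spec.symm)) }
  obtain ⟨e₀, he₀⟩ := W7Rees.exists_zero_natural (X := X)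
  have hsurj : ∀ n, Function.Surjective ((tmap (t n) L').app (⊤ : X.Opens)) := fun n y => by
    have hS := CohFinite.shortExact_tmap hL' (hses n)
    have hsub : Subsingleton (Coh.HH X (CohB1.tensorMod (K.obj n) L') (0 + 1)) := hd₁ n d (le_max_left _ _)
    obtain ⟨x, hx⟩ := (CohFinite.δH_eq_zero_iff (CohFinite.shortExact_toAb hS) 0 ((e₀ _).symm y)).1
      (hsub.elim _ _)
    refine ⟨e₀ _ x, (he₀ _ _ (tmap (t n) L') x).symm.trans ?_⟩
    exact (congrArg (e₀ _) hx).trans ((e₀ _).apply_symm_apply y)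
  obtain ⟨l, s, hs⟩ := exists_finite_gens (isCoh_tensor (hH c) hL') (hd₂ d (le_max_right _ _))
  choose y hy hyc using fun i => exists_compatible_seq c (fun n => (Γ(T (H n), ⊤) : Type u))
    (fun n => (tmap (t n) L').app (⊤ : X.Opens)) hsurj (s i)
  let P₀ : X.Modules := ⨁ fun _ : Fin l => Coh.structureModule X
  let u : ∀ n, P₀ ⟶ T (H n) := fun n => biproduct.desc fun i => TMul.homOf (y i n)
  have hu : ∀ n, u (n + 1) ≫ tmap (t n) L' = u n := fun n => biproduct.hom_ext' _ _ fun i => by
    rw [biproduct.ι_desc_assoc, biproduct.ι_desc, ← ProjMor.homOf_app]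
    exact congrArg TMul.homOf (hy i n)
  let g : ∀ n, CohB1.tensorMod P₀ Q ⟶ H n := fun n => tmap (u n) Q ≫ (untwist e (H n)).hom
  have hg : ∀ n, g (n + 1) ≫ t n = g n := fun n => by
    change (tmap (u (n + 1)) Q ≫ (untwist e (H (n + 1))).hom) ≫ t n = _
    rw [Category.assoc, ← untwist_natural, ← Category.assoc, ← tmap_comp, hu]
  have hgc : Epi (g c) := by
    haveI : Epi (u c) := by
      convert! hs using 1
      exact congrArg (fun f => biproduct.desc (f := fun _ : Fin l => Coh.structureModule X) f) (funext fun i => congrArg TMul.homOf (hyc i))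
    have hS : (ShortComplex.mk (kernel.ι (u c)) (u c) (kernel.condition (u c))).ShortExact :=
      { exact := ShortComplex.exact_of_f_is_kernel _ (kernelIsKernel (u c)) }
    haveI : Epi (tmap (u c) Q) := (CohFinite.shortExact_tmap hQ hS).epi_g
    exact epi_comp _ _
  refine ⟨CohB1.tensorMod P₀ Q, g, isCoh_tensor (Devissage.isCoh_biproduct _ fun _ => RefStalk.isCoh_structureModule) hQ,
    hg, ?_⟩
  have hdown : ∀ k n, n + k = c → Epi (g n) := by
    intro k
    induction k with
    | zero => intro n hn; obtain rfl : n = c := hn; exact hgc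
    | succ k ih =>
      intro n hn
      haveI := ih (n + 1) (by omega)
      haveI := ht n
      rw [← hg n]
      exact epi_comp _ _
  intro n
  by_cases hn : n ≤ c
  · exact hdown (c - n) n (by omega)
  · obtain ⟨k, rfl⟩ : ∃ k, n = c + k := ⟨n - c, by omega⟩
    clear hn
    induction k with
    | zero => exact hgc
    | succ k ihk =>
      haveI := ihk
      refine Preadditive.epi_of_cancel_zero _ fun {Z} z hz => ?_
      haveI := hn₀ (n₀ + k) (by omega)
      have hm : n₀ + k + 1 = c + k := by omega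
      have key : ∀ m (_ : Epi (g (m + 1))) (_ : Epi (K.π m)) (z : H (m + 1 + 1) ⟶ Z),
          g (m + 1 + 1) ≫ z = 0 → z = 0 := by
        intro m hgm hπm z hz
        have h1 : ∀ j, μ j (m + 1) ≫ z = 0 := fun j => by
          rw [← cancel_epi (g (m + 1)), comp_zero, ← hg (m + 1), Category.assoc, ← Category.assoc (t (m + 1)), hμ,
            ← Category.assoc, ← W7Cech.smulMod_natural, Category.assoc, hz, comp_zero]
        have h2 : κ (m + 1) ≫ z = 0 := by
          rw [← cancel_epi (K.π m), comp_zero]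
          refine biproduct.hom_ext' _ _ fun j => ?_
          rw [comp_zero, biproduct.ι_desc_assoc, ← Category.assoc, hκτ, Category.assoc, h1, comp_zero]
        obtain ⟨w, rfl⟩ := hκ (m + 1) z h2
        rw [← Category.assoc, hg] at hz
        rw [(cancel_epi (g (m + 1))).1 (hz.trans comp_zero.symm), comp_zero]
      clear hm
      have hm' : ∀ m, m = n₀ + k → ∀ (z : H (c + (k + 1)) ⟶ Z), g (c + (k + 1)) ≫ z = 0 → z = 0 := by
        intro m hm z hz
        have h1 : c + k = m + 1 := by omega
        have h2 : c + (k + 1) = m + 1 + 1 := by omega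
        revert z hz ihk
        rw [h1, h2]
        intro ihk z hz
        exact key m ihk (hn₀ m (by omega)) z hz
      exact hm' _ rfl z hz

end Main

end Groth.Agent.W7Exist
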