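import Groth.Agent.W7Exist.IPow

/-!
Finitely many generators of a power of the ideal, and maps from torsion modules into completions.
-/

set_option autoImplicit false
set_option backward.isDefEq.respectTransparency false
set_option backward.isDefEq.respectTransparency.types false
set_option linter.style.haveILetI false
set_option maxHeartbeats 1000000

universe u

open CategoryTheory CategoryTheory.Limits AlgebraicGeometry TopologicalSpace Opposite
open Groth.Agent.QC (res res_res res_smul app_res appₗ)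

attribute [local instance] Abelian.hasFiniteBiproducts

noncomputable section

namespace Groth.Agent.W7Exist

variable {A : Type u} [CommRing A] {X : Scheme.{u}} [X.Over (Spec (CommRingCat.of A))]

/-- Finitely many elements detect annihilation by an ideal of the base. -/
theorem exists_detect [IsLocallyNoetherian X] [CompactSpace X] (J : Ideal A) :
    ∃ (r : ℕ) (a : Fin r → A), (∀ k, a k ∈ J) ∧ ∀ (T M : X.Modules), Coh.IsQCoh M → ∀ z : T ⟶ M,
      (∀ k, z ≫ Formal.smulMod A M (a k) = 0) → ∀ b ∈ J, z ≫ Formal.smulMod A M b = 0 := by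
  classical
  obtain ⟨κ, hκ, V, hV, -, hcov⟩ := QC.exists_finite_affine_cover (X := X) (W := ⊤) CompactSpace.isCompact_univ
  haveI := hκ
  have hfin : ∀ i, ∃ t : Finset A, (t : Set A) ⊆ J ∧
      J.map (W7Cech.secRing A (V i)) ≤ Ideal.span (W7Cech.secRing A (V i) '' t) := fun i => by
    haveI : IsNoetherianRing Γ(X, V i) := IsLocallyNoetherian.component_noetherian ⟨V i, hV i⟩
    have hfg : (Submodule.span Γ(X, V i) (W7Cech.secRing A (V i) '' J)).FG := IsNoetherian.noetherian _
    obtain ⟨s, hs, hspan⟩ := (Submodule.fg_span_iff_fg_span_finset_subset _).1 hfg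
    choose pre hpre hpre' using fun y : s => hs y.2
    refine ⟨s.attach.image pre, fun x hx => ?_, ?_⟩
    · obtain ⟨y, -, rfl⟩ := Finset.mem_image.1 (Finset.mem_coe.1 hx)
      exact hpre y
    · change Submodule.span _ _ ≤ _
      rw [hspan]
      refine Submodule.span_le.2 fun y hy => Submodule.subset_span ⟨pre ⟨y, hy⟩, ?_, hpre' _⟩
      exact Finset.mem_coe.2 (Finset.mem_image.2 ⟨⟨y, hy⟩, Finset.mem_attach _ _, rfl⟩)
  choose t htJ ht using hfin
  let U := Finset.univ.biUnion t
  let a : Fin U.card → A := fun k => (U.equivFin.symm k).1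
  refine ⟨U.card, a, fun k => ?_, fun T M hM z hz b hb => ?_⟩
  · obtain ⟨i, -, hi⟩ := Finset.mem_biUnion.1 (U.equivFin.symm k).2
    exact htJ i hi
  let μ : M ⟶ ⨁ fun _ : Fin U.card => M := biproduct.lift fun k => Formal.smulMod A M (a k)
  have hμ : kernel.ι μ ≫ Formal.smulMod A M b = 0 := by
    refine hom_eq_zero_of_cover V hV (fun x => hcov x trivial)
      (QC.isQCoh_kernel hM (Devissage.isQCoh_biproduct _ fun _ => hM) μ) _ fun i s => ?_
    let x : Γ(M, V i) := (kernel.ι μ).app (V i) s
    have hk : ∀ k, W7Cech.secRing A (V i) (a k) • x = 0 := fun k => by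
      have h : kernel.ι μ ≫ Formal.smulMod A M (a k) = 0 := by
        rw [← biproduct.lift_π (fun k => Formal.smulMod A M (a k)) k, ← Category.assoc, kernel.condition, zero_comp]
      exact congr(($h).app (V i) s)
    change W7Cech.secRing A (V i) b • x = 0
    refine Submodule.span_induction (p := fun c _ => c • x = 0) ?_ (zero_smul _ _) ?_ ?_
      (ht i (Ideal.mem_map_of_mem (W7Cech.secRing A (V i)) hb))
    · rintro _ ⟨c, hc, rfl⟩
      have := hk (U.equivFin ⟨c, Finset.mem_biUnion.2 ⟨i, Finset.mem_univ i, Finset.mem_coe.1 hc⟩⟩)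
      simpa [a] using this
    · intro c d _ _ hc hd
      rw [add_smul, hc, hd, add_zero]
    · intro c d _ hd
      rw [smul_eq_mul, mul_smul, hd, smul_zero]
  have hzμ : z ≫ μ = 0 := biproduct.hom_ext _ _ fun k => by rw [Category.assoc, biproduct.lift_π, hz, zero_comp]
  rw [← kernel.lift_ι μ z hzμ, Category.assoc, hμ, comp_zero]

variable (I : Ideal A)

/-- Compatible maps from a torsion module into the levels of a completion come from one map. -/
theorem exists_hom_of_tors [IsLocallyNoetherian X] [CompactSpace X] {C R : X.Modules} (hR : Coh.IsCoh R) (c : ℕ)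
    (hCk : Formal.KilledBy (I ^ c) C) (ψ : Formal.completion I C ⟶ Formal.completion I R) :
    ∃ χ : C ⟶ R, ∀ n : ℕ, Formal.modPowπ I (n + 1) C ≫ ψ.app (op n) = χ ≫ Formal.modPowπ I (n + 1) R := by
  classical
  obtain ⟨r, a, ha, hdet⟩ := exists_detect (X := X) (I ^ c)
  let R' : X.Modules := ⨁ fun _ : Fin r => R
  have hR' : Coh.IsCoh R' := Devissage.isCoh_biproduct _ fun _ => hR
  let μ : R ⟶ R' := biproduct.lift fun k => Formal.smulMod A R (a k)
  let T := kernel μ
  have hT : Coh.IsCoh T := QC.isCoh_kernel hR hR'.1 μ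
  have hTk : Formal.KilledBy (I ^ c) T := fun b hb => by
    rw [← cancel_mono (kernel.ι μ), zero_comp, W7Cech.smulMod_natural]
    refine hdet T R hR.1 _ (fun k => ?_) b hb
    rw [← biproduct.lift_π (fun k => Formal.smulMod A R (a k)) k, ← Category.assoc, kernel.condition, zero_comp]
  -- torsion is separated
  obtain ⟨c₁, hc₁⟩ := exists_AR I hT.1 hR (kernel.ι μ)
  let n₀ := c + c₁
  have hmono : ∀ n, n₀ ≤ n → Mono (kernel.ι μ ≫ Formal.modPowπ I (n + 1) R) := fun n hn => by
    haveI : IsIso (Formal.modPowπ I c T) := isIso_π hTk le_rfl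
    refine Preadditive.mono_of_cancel_zero _ fun {Z} z hz => ?_
    rw [← cancel_mono (Formal.modPowπ I c T), zero_comp, ← kernel.lift_ι _ z hz, Category.assoc,
      hc₁ c (n + 1) (by omega), comp_zero]
  -- torsion of the levels comes from torsion
  let ν := Abelian.factorThruImage μ
  obtain ⟨c₂, hc₂⟩ := exists_AR I (M := Abelian.image μ)
    (QC.isQCoh_kernel hR'.1 (QC.isQCoh_cokernel hR.1 hR'.1 μ) _) hR' (Abelian.image.ι μ)
  have hlev : ∀ n, (Formal.modPowπ I (n + c₂ + 1) C ≫ ψ.app (op (n + c₂)) ≫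
      trG (Formal.completion I R) (Nat.le_add_right n c₂)) ≫
        cokernel.π (kernel.ι μ ≫ Formal.modPowπ I (n + 1) R) = 0 := fun n => by
    let x : C ⟶ Formal.modPow I (n + c₂ + 1) R := Formal.modPowπ I (n + c₂ + 1) C ≫ ψ.app (op (n + c₂))
    let w := cokernel.π (kernel.ι μ ≫ Formal.modPowπ I (n + 1) R)
    obtain ⟨T', p, hp, z, hz⟩ := surjective_up_to_refinements_of_epi (Formal.modPowπ I (n + c₂ + 1) R) x
    have hzν : (z ≫ ν) ≫ Abelian.image.ι μ ≫ Formal.modPowπ I (n + c₂ + 1) R' = 0 := by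
      rw [Category.assoc, ← Category.assoc ν, show ν ≫ Abelian.image.ι μ = μ from Abelian.image.fac μ]
      have hπ : μ ≫ Formal.modPowπ I (n + c₂ + 1) R' = Formal.modPowπ I (n + c₂ + 1) R ≫ modMap I (n + c₂ + 1) μ :=
        (π_modMap I _ μ).symm
      rw [hπ, ← Category.assoc, ← hz, Category.assoc]
      refine (congrArg (p ≫ ·) ?_).trans comp_zero
      have hsum : modMap I (n + c₂ + 1) μ =
          ∑ k, modMap I (n + c₂ + 1) (Formal.smulMod A R (a k)) ≫ modMap I (n + c₂ + 1) (biproduct.ι (fun _ : Fin r => R) k) := by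
        rw [← cancel_epi (Formal.modPowπ I (n + c₂ + 1) R), π_modMap, Preadditive.comp_sum]
        simp only [modMap_comp, π_modMap, ← Preadditive.sum_comp]
        refine congrArg (· ≫ _) ?_
        exact biproduct.lift_eq
      rw [hsum, Preadditive.comp_sum]
      refine Finset.sum_eq_zero fun k _ => ?_
      have hs : modMap I (n + c₂ + 1) (Formal.smulMod A R (a k)) = Formal.smulMod A _ (a k) := by
        rw [← cancel_epi (Formal.modPowπ I (n + c₂ + 1) R), π_modMap, W7Cech.smulMod_natural]
      rw [← Category.assoc, hs]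
      refine (congrArg (· ≫ _) ?_).trans zero_comp
      exact (W7Cech.smulMod_natural A x (a k)).symm.trans (by rw [hCk _ (ha k), zero_comp])
    have h0 : z ≫ ν ≫ Formal.modPowπ I (n + 1) (Abelian.image μ) = 0 := by
      rw [← Category.assoc, ← kernel.lift_ι _ (z ≫ ν) hzν, Category.assoc, hc₂ (n + 1) _ (by omega), comp_zero]
    obtain ⟨w₁, hw₁⟩ := exists_desc_of_epi ν (Formal.modPowπ I (n + 1) R ≫ w) (by
      have hk0 : kernel.ι ν ≫ μ = 0 := (congrArg (kernel.ι ν ≫ ·) (Abelian.image.fac μ).symm).trans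
        ((Category.assoc _ _ _).symm.trans (by rw [kernel.condition, zero_comp]))
      rw [← kernel.lift_ι μ (kernel.ι ν) hk0,
        Category.assoc, ← Category.assoc (kernel.ι μ), cokernel.condition, comp_zero])
    obtain ⟨w₂, hw₂⟩ := exists_desc_modPow I (n + 1) w₁ fun b hb => by
      rw [← cancel_epi ν, comp_zero, ← Category.assoc, ← W7Cech.smulMod_natural, Category.assoc, hw₁,
        ← Category.assoc, smulMod_π I _ _ b hb, zero_comp]
    haveI := hp
    rw [← cancel_epi p, comp_zero]
    change p ≫ (Formal.modPowπ I (n + c₂ + 1) C ≫ ψ.app (op (n + c₂)) ≫ _) ≫ w = 0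
    rw [← Category.assoc (Formal.modPowπ I (n + c₂ + 1) C), Category.assoc, ← Category.assoc p]
    refine (congrArg (· ≫ _) hz).trans ?_
    rw [Category.assoc, ← Category.assoc (Formal.modPowπ I (n + c₂ + 1) R)]
    refine (congrArg (fun φ => z ≫ φ ≫ w) (π_trG I R (Nat.le_add_right n c₂))).trans ?_
    rw [← hw₁, ← hw₂, ← Category.assoc ν, ← Category.assoc z, h0, zero_comp]
  haveI := hmono n₀ le_rfl
  obtain ⟨t, ht⟩ : ∃ t : C ⟶ T, t ≫ kernel.ι μ ≫ Formal.modPowπ I (n₀ + 1) R =
      Formal.modPowπ I (n₀ + c₂ + 1) C ≫ ψ.app (op (n₀ + c₂)) ≫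
        trG (Formal.completion I R) (Nat.le_add_right n₀ c₂) :=
    ⟨Abelian.monoLift _ _ (hlev n₀), Abelian.monoLift_comp _ _ _⟩
  have key : ∀ n N (h : n ≤ N), Formal.modPowπ I (N + 1) C ≫ ψ.app (op N) ≫ trG (Formal.completion I R) h =
      Formal.modPowπ I (n + 1) C ≫ ψ.app (op n) := fun n N h => by
    rw [← π_trG I C h, Category.assoc]
    exact congrArg (_ ≫ ·) (ψ.naturality _).symm
  rw [key] at ht
  refine ⟨t ≫ kernel.ι μ, fun n => ?_⟩
  have hN : n₀ ≤ max n n₀ := le_max_right _ _
  haveI := hmono (max n n₀) hN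
  have h2 : Abelian.monoLift _ _ (hlev (max n n₀)) = t := by
    rw [← cancel_mono (kernel.ι μ ≫ Formal.modPowπ I (n₀ + 1) R), ht, ← π_trG I R hN,
      ← Category.assoc (kernel.ι μ), ← Category.assoc, Abelian.monoLift_comp, key]
    rw [Category.assoc]
    exact key n₀ (max n n₀) hN
  have h1 := Abelian.monoLift_comp (kernel.ι μ ≫ Formal.modPowπ I (max n n₀ + 1) R) _ (hlev (max n n₀))
  rw [h2, key] at h1
  rw [← key n (max n n₀) (le_max_left _ _), ← π_trG I R (le_max_left n n₀), ← Category.assoc, ← h1,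
    Category.assoc, Category.assoc, Category.assoc]

end Groth.Agent.W7Exist
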