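import Groth.Agent.W7Exist.Open
import Groth.Agent.W7Exist.Algebraize
import Groth.Agent.ProjMor.Segre
import Groth.Agent.Chow.Core
import Groth.Agent.ModPairVal.Closure

/-!
Existence with proper support on quasi-projective schemes over a complete ring.
-/

set_option autoImplicit false
set_option backward.isDefEq.respectTransparency false
set_option backward.isDefEq.respectTransparency.types false
set_option linter.style.haveILetI false
set_option maxHeartbeats 1000000

universe u

open CategoryTheory CategoryTheory.Limits AlgebraicGeometry TopologicalSpace Opposite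
open Groth.Agent.QC (res resO res_res res_smul app_res appₗ)

noncomputable section

namespace Groth.Agent.W7Exist

variable (A : Type u) [CommRing A] [IsNoetherianRing A] (I : Ideal A) [IsAdicComplete I A]

/-- A closed subset of a scheme proper over a complete ring is empty if it avoids the zeros of the ideal. -/
lemma exists_mem_over_zeroLocus {X : Scheme.{u}} [X.Over (Spec (CommRingCat.of A))]
    [IsProper (X ↘ Spec (CommRingCat.of A))] {T : Set X} (hT : IsClosed T) (hne : T.Nonempty) :
    ∃ x ∈ T, ∀ (U : X.Opens), x ∈ U → ∀ a ∈ I, x ∉ X.basicOpen (W7Cech.secRing A U a) := by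
  let f := X ↘ Spec (CommRingCat.of A)
  have hc : IsClosed (f.base '' T) := f.isClosedMap T hT
  obtain ⟨m, hm⟩ : ∃ m, m ∈ f.base '' T := hne.image _
  obtain ⟨mm, hmm, hle⟩ := Ideal.exists_le_maximal (m : PrimeSpectrum A).asIdeal (m : PrimeSpectrum A).2.ne_top
  obtain ⟨x, hxT, hx⟩ : (⟨mm, hmm.isPrime⟩ : PrimeSpectrum A) ∈ f.base '' T :=
    ((PrimeSpectrum.le_iff_specializes m ⟨mm, hmm.isPrime⟩).1 hle).mem_closed hc hm
  refine ⟨x, hxT, fun U hU a ha hmem => ?_⟩
  have hIm : a ∈ mm :=
    (Ideal.mem_sInf.1 (IsAdicComplete.le_jacobson_bot I ha) ⟨bot_le, hmm⟩)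
  have h1 : x ∈ X.basicOpen (Coh.toGlobal f a) := by
    have h2 : W7Cech.secRing A U a = resO X le_top (Coh.toGlobal f a) := rfl
    rw [h2] at hmem
    exact ((Scheme.basicOpen_res _ _ _).le hmem).2
  have h3 : X.basicOpen (Coh.toGlobal f a) = f ⁻¹ᵁ PrimeSpectrum.basicOpen a := by
    rw [← basicOpen_eq_of_affine (R := CommRingCat.of A) a, Scheme.preimage_basicOpen]
    rfl
  rw [h3] at h1
  have h4 : f.base x ∈ PrimeSpectrum.basicOpen a := h1
  rw [hx] at h4
  exact h4 hIm

/-- Existence with proper support, for schemes immersed in a projective space over the base. -/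
theorem exists_algebraization_immersion {X : Scheme.{u}} [X.Over (Spec (CommRingCat.of A))] [CompactSpace X] {N : ℕ}
    (j : X ⟶ CohB1.ProjSpaceOver N (Spec (CommRingCat.of A))) [IsImmersion j]
    (hj : j ≫ CohB1.ProjSpaceOver.toBase N (Spec (CommRingCat.of A)) = X ↘ Spec (CommRingCat.of A))
    (G : ℕᵒᵖ ⥤ X.Modules) (hG : Formal.IsCohFormal I G)
    (hGs : ClSub.IsProperOver (X ↘ Spec (CommRingCat.of A)) (CohB1.support (G.obj (op 0)))) :
    ∃ M : X.Modules, Coh.IsCoh M ∧
      ClSub.IsProperOver (X ↘ Spec (CommRingCat.of A)) (CohB1.support M) ∧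
      Nonempty (Formal.completion I M ≅ G) := by
  let f := X ↘ Spec (CommRingCat.of A)
  let P := CohB1.ProjSpaceOver N (Spec (CommRingCat.of A))
  let b := CohB1.ProjSpaceOver.toBase N (Spec (CommRingCat.of A))
  haveI : IsProper b := Chow.isProper_toBase N _
  haveI : IsLocallyNoetherian P := LocallyOfFiniteType.isLocallyNoetherian b
  haveI : CompactSpace P := QuasiCompact.compactSpace_of_compactSpace b
  haveI : IsNoetherian P := ⟨⟩
  haveI : LocallyOfFiniteType j := inferInstance
  haveI : IsLocallyNoetherian X := LocallyOfFiniteType.isLocallyNoetherian j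
  haveI : IsNoetherian X := ⟨⟩
  let jc := j.liftCoborder
  haveI : QuasiCompact j.coborderRange.ι := inferInstance
  haveI : IsOpenImmersion (jc ≫ j.coborderRange.ι).toImage :=
    (ModPairVal.isOpenImmersion_toImage j.coborderRange jc).1
  let k := jc ≫ j.coborderRange.ι
  have hk : k = j := j.liftCoborder_ι
  let W := k.image
  let o : X ⟶ W := k.toImage
  haveI : IsOpenImmersion o := ‹IsOpenImmersion (jc ≫ j.coborderRange.ι).toImage›
  let g : W ⟶ Spec (CommRingCat.of A) := k.imageι ≫ b
  letI : W.Over (Spec (CommRingCat.of A)) := ⟨g⟩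
  haveI : IsProper (W ↘ Spec (CommRingCat.of A)) := inferInstanceAs (IsProper (k.imageι ≫ b))
  haveI : IsLocallyNoetherian W := LocallyOfFiniteType.isLocallyNoetherian (W ↘ Spec (CommRingCat.of A))
  haveI : CompactSpace W := QuasiCompact.compactSpace_of_compactSpace (W ↘ Spec (CommRingCat.of A))
  have ho : o ≫ (W ↘ Spec (CommRingCat.of A)) = X ↘ Spec (CommRingCat.of A) := by
    change k.toImage ≫ k.imageι ≫ b = _
    rw [← Category.assoc, Scheme.Hom.toImage_imageι, hk, hj]
  let L := (Scheme.Modules.pullback k.imageι).obj (Twist.twistOver N (Spec (CommRingCat.of A)) 1)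
  have hL : CohB1.IsAmple L :=
    TMul.isAmple_pullback k.imageι k.imageι.isEmbedding.isInducing (ProjMor.isAmple_twistOver N _)
  -- the closed image of the support
  have hZ : IsClosed (o.base '' CohB1.support (G.obj (op 0))) := by
    obtain ⟨hc, hp⟩ := hGs
    let r := ClSubLib.redι (CohB1.support (G.obj (op 0))) hc
    haveI : IsProper ((r ≫ o) ≫ g) := by
      rw [Category.assoc, show o ≫ g = f from ho]; exact hp
    haveI : IsSeparated g := inferInstanceAs (IsSeparated (W ↘ Spec (CommRingCat.of A)))
    haveI : IsProper (r ≫ o) := IsProper.of_comp (r ≫ o) g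
    have h := (r ≫ o).isClosedMap.isClosed_range
    have hr : Set.range (r ≫ o) = o.base '' CohB1.support (G.obj (op 0)) := by
      exact (Set.range_comp o.base r.base).trans
        (congrArg (o.base '' ·) (ClSubLib.range_redι (CohB1.support (G.obj (op 0))) hc))
    rwa [hr] at h
  obtain ⟨hF, hFs, ⟨eF⟩⟩ := exists_push_open o I ho hG hZ
  obtain ⟨M', hM', ⟨eM⟩⟩ := exists_algebraization A I hL (G ⋙ Scheme.Modules.pushforward o) hF
  have hrange : CohB1.support M' ⊆ Set.range o := by
    intro x hx
    by_contra hxo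
    obtain ⟨y, ⟨hyM, hyo⟩, hyI⟩ := exists_mem_over_zeroLocus A I
      ((QC.isClosed_support hM'.2).inter o.opensRange.isOpen.isClosed_compl)
      ⟨x, hx, fun h => hxo h⟩
    have hy := mem_support_modPow_one I hM' hyI hyM
    exact hyo (Set.image_subset_range _ _ (hFs 0 ((ClSubLib.support_congr (eM.app (op 0))).le hy)))
  let M := (Scheme.Modules.pullback o).obj M'
  have hM : Coh.IsCoh M := QC.isCoh_pullback o hM'
  refine ⟨M, hM, ?_, ?_⟩
  · let K := ClSubLib.annIdeal M' hM'.1 hM'.2
    let l : K.subscheme ⟶ X := IsOpenImmersion.lift o K.subschemeι (by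
      rw [ClSubLib.range_annIdeal M' hM'.1 hM'.2]; exact hrange)
    have hl : l ≫ o = K.subschemeι := IsOpenImmersion.lift_fac _ _ _
    haveI : IsClosedImmersion (l ≫ o) := by rw [hl]; infer_instance
    haveI : IsClosedImmersion l := IsClosedImmersion.of_comp l o
    haveI : IsProper (l ≫ f) := by
      rw [show f = o ≫ g from ho.symm, ← Category.assoc, hl]
      change IsProper (K.subschemeι ≫ k.imageι ≫ b)
      infer_instance
    refine ClSubLib.isProperOver_of_subset f l _ (QC.isClosed_support hM.2) fun x hx => ?_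
    obtain ⟨z, hz⟩ : o.base x ∈ Set.range K.subschemeι := by
      rw [ClSubLib.range_annIdeal M' hM'.1 hM'.2]
      exact ClSubLib.support_pullback_subset o M' hx
    refine ⟨z, o.isOpenEmbedding.injective ?_⟩
    change (l ≫ o).base z = _
    rw [hl]; exact hz
  · have hp : o ≫ (W ↘ Spec (CommRingCat.of A)) =
        (X ↘ Spec (CommRingCat.of A)) ≫ Spec.map (CommRingCat.ofHom (RingHom.id A)) := by
      rw [ho, show CommRingCat.ofHom (RingHom.id A) = 𝟙 (CommRingCat.of A) from rfl, Spec.map_id, Category.comp_id]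
    have h := exists_pullCompletion hp I M'
    rw [Ideal.map_id] at h
    obtain ⟨ψ, -⟩ := h
    exact ⟨ψ ≪≫ Functor.isoWhiskerRight eM (Scheme.Modules.pullback o) ≪≫ eF⟩

end Groth.Agent.W7Exist
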