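import Groth.Agent.W7Exist.Alpha
import Groth.Agent.W7Exist.Tricky
import Groth.Agent.W7Exist.QuasiProj
import Groth.Agent.W7Rees.HomFull
import Groth.Agent.Chow.Cover
import Groth.Agent.CohFinite.RPushCoh
import Groth.Agent.RPushQC.Acyclic
import Groth.Agent.ClSubLib.EssSurj

/-!
Grothendieck existence with proper support, by Noetherian induction.
-/

set_option autoImplicit false
set_option backward.isDefEq.respectTransparency false
set_option backward.isDefEq.respectTransparency.types false
set_option linter.style.haveILetI false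
set_option maxHeartbeats 2000000

universe u

open CategoryTheory CategoryTheory.Limits AlgebraicGeometry TopologicalSpace Opposite
open Groth.Agent.QC (res resO res_res res_smul app_res appₗ)

noncomputable section

namespace Groth.Agent.W7Exist

section General

variable {X Y S : Scheme.{u}}

/-- Direct images along proper maps preserve coherence. -/
lemma isCoh_push_proper [IsLocallyNoetherian Y] (π : X ⟶ Y) [IsProper π] {M : X.Modules} (hM : Coh.IsCoh M) :
    Coh.IsCoh ((Scheme.Modules.pushforward π).obj M) := by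
  haveI := RPushQC.hasInjectiveResolutions X
  exact CohFinite.isCoh_of_iso (((Coh.push π).rightDerivedZeroIsoSelf).app M) (CohFinite.isCoh_rpush π M hM 0)

/-- The support of a direct image along a proper map. -/
lemma isProperOver_support_push {p : X ⟶ S} {q : Y ⟶ S} [LocallyOfFiniteType q] (π : X ⟶ Y) [IsProper π]
    (w : π ≫ q = p) {M : X.Modules} (hM : ClSub.IsProperOver p (CohB1.support M))
    (hH : CohB1.IsFT ((Scheme.Modules.pushforward π).obj M)) :
    ClSub.IsProperOver q (CohB1.support ((Scheme.Modules.pushforward π).obj M)) := by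
  obtain ⟨hc, hp⟩ := hM
  let r := ClSubLib.redι (CohB1.support M) hc ≫ π
  haveI : IsProper (r ≫ q) := by rw [Category.assoc, w]; exact hp
  have hr : Set.range r = π.base '' CohB1.support M :=
    (Set.range_comp π.base (ClSubLib.redι (CohB1.support M) hc).base).trans
      (congrArg (π.base '' ·) (ClSubLib.range_redι (CohB1.support M) hc))
  have h := ClSubLib.isProperOver_range q r
  rw [hr] at h
  refine ClSubLib.mono h (QC.isClosed_support hH) fun y hy => ?_
  by_contra hy'
  refine (QC.notMem_support_iff y).2 (fun U hyU s => ?_) hy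
  let O : Y.Opens := ⟨(π.base '' CohB1.support M)ᶜ, (π.isClosedMap _ hc).isOpen_compl⟩
  exact ⟨U ⊓ O, inf_le_left, ⟨hyU, hy'⟩,
    eq_zero_of_support (N := M) (W := π ⁻¹ᵁ (U ⊓ O)) (fun x hx hxS => hx.2 ⟨x, hxS, rfl⟩) _⟩

/-- Direct images along closed immersions are killed by the ideal. -/
lemma killedBy_push_ker (i : X ⟶ Y) [IsClosedImmersion i] (M : X.Modules) :
    ClSub.KilledByIdeal i.ker ((Scheme.Modules.pushforward i).obj M) := fun U a ha m => by
  have h : i.app U.1 a = 0 := by rwa [Scheme.Hom.ker_apply, RingHom.mem_ker] at ha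
  change (i.app U.1 a) • (show Γ(M, i ⁻¹ᵁ U.1) from m) = 0
  rw [h, zero_smul]

end General

section Step

variable (A : Type u) [CommRing A] [IsNoetherianRing A] (I : Ideal A) [IsAdicComplete I A]

/-- Completion commutes with direct images along closed immersions. -/
lemma nonempty_completion_push {X Z : Scheme.{u}} [X.Over (Spec (CommRingCat.of A))]
    [Z.Over (Spec (CommRingCat.of A))] (i : Z ⟶ X) [IsClosedImmersion i]
    (hi : i ≫ (X ↘ Spec (CommRingCat.of A)) = Z ↘ Spec (CommRingCat.of A)) {M : Z.Modules} (hM : Coh.IsQCoh M) :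
    Nonempty (Formal.completion I ((Scheme.Modules.pushforward i).obj M) ≅
      Formal.completion I M ⋙ Scheme.Modules.pushforward i) := by
  let P := Scheme.Modules.pushforward i
  haveI : M.IsQuasicoherent := hM
  choose β hβ using fun n : ℕ => W7Rees.exists_iso_push_quot i hi M (Iso.refl _) (QC.isQCoh_pushforward i) hM
    (I ^ (n + 1))
  have hβ' : ∀ n, Formal.modPowπ I (n + 1) (P.obj M) ≫ (β n).hom = P.map (Formal.modPowπ I (n + 1) M) := fun n =>
    (hβ n).trans (Category.id_comp _)
  let α : Formal.completion I (P.obj M) ⟶ Formal.completion I M ⋙ P :=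
    NatTrans.ofOpSequence (fun n => (β n).hom) fun n => by
      rw [← cancel_epi (Formal.modPowπ I (n + 1 + 1) (P.obj M)), ← Category.assoc, ← Category.assoc, hβ']
      refine (congrArg (· ≫ (β n).hom) (π_succ I (P.obj M) n)).trans ((hβ' n).trans ?_)
      exact (congrArg P.map (π_succ I M n)).symm.trans (P.map_comp _ _)
  haveI : ∀ n, IsIso (α.app n) := fun ⟨n⟩ => show IsIso (β n).hom from inferInstance
  haveI := NatIso.isIso_of_isIso_app α
  exact ⟨asIso α⟩

/-- The conclusion of the existence theorem on one scheme. -/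
def Algebraizes (W : Scheme.{u}) [W.Over (Spec (CommRingCat.of A))] : Prop :=
  ∀ G : ℕᵒᵖ ⥤ W.Modules, Formal.IsCohFormal I G →
    ClSub.IsProperOver (W ↘ Spec (CommRingCat.of A)) (CohB1.support (G.obj (op 0))) →
    ∃ M : W.Modules, Coh.IsCoh M ∧ ClSub.IsProperOver (W ↘ Spec (CommRingCat.of A)) (CohB1.support M) ∧
      Nonempty (Formal.completion I M ≅ G)

/-- The inductive step. -/
theorem algebraizes_step (W : Scheme.{u}) [W.Over (Spec (CommRingCat.of A))] [Nonempty W]
    [IsSeparated (W ↘ Spec (CommRingCat.of A))] [LocallyOfFiniteType (W ↘ Spec (CommRingCat.of A))]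
    [QuasiCompact (W ↘ Spec (CommRingCat.of A))]
    (ih : ∀ (W' : Scheme.{u}) (i : W' ⟶ W), IsClosedImmersion i → Set.range i ≠ Set.univ →
      letI : W'.Over (Spec (CommRingCat.of A)) := ⟨i ≫ (W ↘ Spec (CommRingCat.of A))⟩
      Algebraizes A I W') : Algebraizes A I W := by
  classical
  intro G hG hGs
  let f := W ↘ Spec (CommRingCat.of A)
  haveI : IsLocallyNoetherian W := LocallyOfFiniteType.isLocallyNoetherian f
  haveI : CompactSpace W := QuasiCompact.compactSpace_of_compactSpace f
  haveI : IsNoetherian W := ⟨⟩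
  obtain ⟨N, X', π, j, hj, hjf, hπ, -, U, hU, hiso, -⟩ := Chow.exists_chow f NoetherianSpace.finite_irreducibleComponents
  haveI := hj
  haveI := hπ
  haveI := hiso
  letI : X'.Over (Spec (CommRingCat.of A)) := ⟨π ≫ f⟩
  have hπf : π ≫ (W ↘ Spec (CommRingCat.of A)) = X' ↘ Spec (CommRingCat.of A) := rfl
  haveI : CompactSpace X' := QuasiCompact.compactSpace_of_compactSpace π
  haveI : IsLocallyNoetherian X' := LocallyOfFiniteType.isLocallyNoetherian π
  have hp : π ≫ (W ↘ Spec (CommRingCat.of A)) =
      (X' ↘ Spec (CommRingCat.of A)) ≫ Spec.map (CommRingCat.ofHom (RingHom.id A)) := by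
    rw [hπf, show CommRingCat.ofHom (RingHom.id A) = 𝟙 (CommRingCat.of A) from rfl, Spec.map_id, Category.comp_id]
  have hG' : Formal.IsCohFormal I (G ⋙ Scheme.Modules.pullback π) := by
    have h := isCohFormal_pull hp I hG
    rwa [Ideal.map_id] at h
  obtain ⟨M', hM', hM's, ⟨e⟩⟩ := exists_algebraization_immersion A I j hjf _ hG'
    (ClSubLib.mono (ClSubLib.isProperOver_preimage π hπf hGs) (QC.isClosed_support (hG'.1 0).2)
      (ClSubLib.support_pullback_subset π _))
  let H := (Scheme.Modules.pushforward π).obj M'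
  have hH : Coh.IsCoh H := isCoh_push_proper π hM'
  let Q : W.Modules → Prop := fun M => ClSub.IsProperOver f (CohB1.support M)
  have hHQ : Q H := isProperOver_support_push π hπf hM's hH.2
  let K := Scheme.IdealSheafData.vanishingIdeal (⟨(U : Set W)ᶜ, U.2.isClosed_compl⟩ : Closeds W)
  have hK : ∀ (V : W.affineOpens) (a : Γ(W, V.1)), a ∈ K.ideal V → W.basicOpen a ≤ U := by
    intro V a ha x hx
    by_contra hxU
    have hxK : x ∈ K.support := by
      rw [← SetLike.mem_coe, Scheme.IdealSheafData.coe_support_vanishingIdeal]; exact hxU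
    rw [Scheme.IdealSheafData.mem_support_iff_of_mem (U := V) (W.basicOpen_le a hx), Scheme.mem_zeroLocus_iff] at hxK
    exact hxK a ha hx
  obtain ⟨α, t, hα⟩ := exists_alpha I π hπf hM' hH hG e U K hK
  have hQ : IsStableClass Q :=
    { of_epi := fun p _ _ hN h => ClSubLib.mono h (QC.isClosed_support hN.2) (support_of_epi p)
      of_mono := fun p _ hM _ h => ClSubLib.mono h (QC.isClosed_support hM.2) (support_of_mono p)
      biprod := fun hM hN h h' => ClSubLib.mono (ClSubLib.isProperOver_union f h h')
        (QC.isClosed_support (isCoh_biprod hM hN).2) (support_biprod _ _) }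
  have hKA : KAlgOn I Q K := fun m => by
    refine ⟨fun M N hM hN hMQ _ _ _ ψ => W7Rees.completion_full I hM hN
      (ClSubLib.mono hMQ ((QC.isClosed_support hM.2).inter (QC.isClosed_support hN.2)) Set.inter_subset_left) ψ,
      fun F hF hFQ hFk => ?_⟩
    let i := (K ^ m).subschemeι
    have hne : Set.range i ≠ Set.univ := fun h => by
      obtain ⟨x, hx⟩ := hU.nonempty
      have hxK : x ∉ K.support := fun h' => by
        rw [← SetLike.mem_coe, Scheme.IdealSheafData.coe_support_vanishingIdeal] at h'
        exact h' hx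
      obtain ⟨V, hV, hxV, -⟩ := exists_isAffineOpen_mem_and_subset (x := x) (U := (⊤ : W.Opens)) trivial
      rw [Scheme.IdealSheafData.mem_support_iff_of_mem (U := ⟨V, hV⟩) hxV, Scheme.mem_zeroLocus_iff] at hxK
      push Not at hxK
      obtain ⟨a, ha, hxa⟩ := hxK
      have hxm : x ∈ (K ^ m).support := by
        rw [← SetLike.mem_coe, ← Scheme.IdealSheafData.range_subschemeι, show Set.range (K ^ m).subschemeι = _ from h]
        trivial
      rw [Scheme.IdealSheafData.mem_support_iff_of_mem (U := ⟨V, hV⟩) hxV, Scheme.mem_zeroLocus_iff] at hxm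
      refine hxm (a ^ m) ?_ ?_
      · simp only [Scheme.IdealSheafData.ideal_pow, Pi.pow_apply]
        exact Ideal.pow_mem_pow ha m
      · cases m with
        | zero => rw [pow_zero, Scheme.basicOpen_of_isUnit _ isUnit_one]; exact hxV
        | succ l => rw [W.basicOpen_pow _ l.succ_pos]; exact hxa
    letI : (K ^ m).subscheme.Over (Spec (CommRingCat.of A)) := ⟨i ≫ f⟩
    haveI : IsLocallyNoetherian (K ^ m).subscheme := LocallyOfFiniteType.isLocallyNoetherian i
    have hif : i ≫ (W ↘ Spec (CommRingCat.of A)) = (K ^ m).subscheme ↘ Spec (CommRingCat.of A) := rfl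
    have hp' : i ≫ (W ↘ Spec (CommRingCat.of A)) =
        ((K ^ m).subscheme ↘ Spec (CommRingCat.of A)) ≫ Spec.map (CommRingCat.ofHom (RingHom.id A)) := by
      rw [hif, show CommRingCat.ofHom (RingHom.id A) = 𝟙 (CommRingCat.of A) from rfl, Spec.map_id, Category.comp_id]
    have hF' : Formal.IsCohFormal I (F ⋙ Scheme.Modules.pullback i) := by
      have h := isCohFormal_pull hp' I hF
      rwa [Ideal.map_id] at h
    obtain ⟨M, hM, hMs, ⟨eM⟩⟩ := ih _ i inferInstance hne (F ⋙ Scheme.Modules.pullback i) hF'
      (ClSubLib.mono (ClSubLib.isProperOver_preimage i hif hFQ) (QC.isClosed_support (hF'.1 0).2)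
        (ClSubLib.support_pullback_subset i _))
    have hP : Coh.IsCoh ((Scheme.Modules.pushforward i).obj M) :=
      haveI : M.IsQuasicoherent := hM.1
      QC.isCoh_pushforward_of_isFinite i hM.2
    have hker : i.ker = K ^ m := Scheme.IdealSheafData.ker_subschemeι _
    refine ⟨_, hP, isProperOver_support_push i hif hMs hP.2, (by have h := killedBy_push_ker i M; rwa [hker] at h), ?_⟩
    obtain ⟨e₁⟩ := nonempty_completion_push A I i hif hM.1
    let η := Functor.whiskerLeft F (Scheme.Modules.pullbackPushforwardAdjunction i).unit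
    haveI : ∀ n, IsIso (η.app n) := fun ⟨n⟩ =>
      ClSubLib.isIso_unit i (F.obj (op n)) (by rw [hker]; exact hFk n)
    haveI := NatIso.isIso_of_isIso_app η
    exact ⟨e₁ ≪≫ Functor.isoWhiskerRight eM (Scheme.Modules.pushforward i) ≪≫ Functor.associator _ _ _ ≪≫
      (asIso η).symm ≪≫ F.rightUnitor⟩
  obtain ⟨M, -, e', hM, hMQ, -, -⟩ := exists_of_kerCoker_on I hQ K hKA hG hGs hH hHQ α (t + 1)
    (fun n => (hα n).1) (fun n => (hα n).2)
  exact ⟨M, hM, hMQ, ⟨e'⟩⟩

variable {X : Scheme.{u}} [X.Over (Spec (CommRingCat.of A))]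
  [IsSeparated (X ↘ Spec (CommRingCat.of A))] [LocallyOfFiniteType (X ↘ Spec (CommRingCat.of A))]
  [QuasiCompact (X ↘ Spec (CommRingCat.of A))]

omit [IsNoetherianRing A] [IsAdicComplete I A] in
/-- Everything is zero on the empty scheme. -/
lemma algebraizes_of_isEmpty (W : Scheme.{u}) [W.Over (Spec (CommRingCat.of A))] [IsEmpty W] :
    Algebraizes A I W := fun G hG hGs => by
  have h0 : ∀ M : W.Modules, IsZero M := fun M => by
    rw [IsZero.iff_id_eq_zero]
    refine Scheme.Modules.hom_ext _ _ fun V => ?_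
    ext s
    exact QC.section_eq_of_locally fun x _ => (IsEmpty.false x).elim
  exact ⟨_, hG.1 0, hGs, ⟨NatIso.ofComponents (fun n => (h0 _).iso (h0 _)) fun f => (h0 _).eq_of_src _ _⟩⟩

/-- Grothendieck's existence theorem with proper support. -/
theorem exists_algebraization_properSupport (G : ℕᵒᵖ ⥤ X.Modules) (hG : Formal.IsCohFormal I G)
    (hGs : ClSub.IsProperOver (X ↘ Spec (CommRingCat.of A)) (CohB1.support (G.obj (op 0)))) :
    ∃ M : X.Modules, Coh.IsCoh M ∧ ClSub.IsProperOver (X ↘ Spec (CommRingCat.of A)) (CohB1.support M) ∧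
      Nonempty (Formal.completion I M ≅ G) := by
  let f := X ↘ Spec (CommRingCat.of A)
  haveI : IsLocallyNoetherian X := LocallyOfFiniteType.isLocallyNoetherian f
  haveI : CompactSpace X := QuasiCompact.compactSpace_of_compactSpace f
  haveI : IsNoetherian X := ⟨⟩
  suffices key : ∀ Y : Closeds X, ∀ (W : Scheme.{u}) (i : W ⟶ X) (_ : IsClosedImmersion i), Set.range i = Y →
      ∀ g : W ⟶ Spec (CommRingCat.of A), i ≫ f = g →
        letI : W.Over (Spec (CommRingCat.of A)) := ⟨g⟩
        Algebraizes A I W by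
    exact key ⊤ X (𝟙 X) inferInstance (by simp) f (Category.id_comp f) G hG hGs
  intro Y
  induction Y using WellFoundedLT.induction with
  | ind Y IH =>
    intro W i hi hY g hg
    letI : W.Over (Spec (CommRingCat.of A)) := ⟨g⟩
    rcases isEmpty_or_nonempty W with hW | hW
    · exact algebraizes_of_isEmpty A I W
    haveI := hi
    haveI : IsSeparated (W ↘ Spec (CommRingCat.of A)) := by
      change IsSeparated g; rw [← hg]; infer_instance
    haveI : LocallyOfFiniteType (W ↘ Spec (CommRingCat.of A)) := by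
      change LocallyOfFiniteType g; rw [← hg]; infer_instance
    haveI : QuasiCompact (W ↘ Spec (CommRingCat.of A)) := by
      change QuasiCompact g; rw [← hg]; infer_instance
    refine algebraizes_step A I W fun W' k hk hne => ?_
    haveI := hk
    have hc : IsClosed (Set.range (k ≫ i)) := (k ≫ i).isClosedEmbedding.isClosed_range
    refine IH ⟨_, hc⟩ ?_ W' (k ≫ i) inferInstance rfl _ (by rw [Category.assoc, hg]; rfl)
    refine SetLike.coe_ssubset_coe.1 (ssubset_of_subset_of_ne ?_ ?_)
    · rw [← hY]; rintro _ ⟨z, rfl⟩; exact ⟨k.base z, rfl⟩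
    · intro heq
      refine hne (Set.eq_univ_of_forall fun w => ?_)
      have hw : i.base w ∈ (Y : Set X) := by rw [← hY]; exact ⟨w, rfl⟩
      rw [← heq] at hw
      obtain ⟨z, hz⟩ := hw
      exact ⟨z, i.isClosedEmbedding.injective hz⟩

end Step

end Groth.Agent.W7Exist
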