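import Groth.Agent.W7Exist.Pull
import Groth.Agent.W7Rees.Main
import Groth.Agent.W7Cech.GlobSec
import Groth.Agent.W7Cech.BC0
import Groth.Agent.W7Rees.HomFull

/-!
Formal functions relative to an affine open of the base.
-/

set_option autoImplicit false
set_option backward.isDefEq.respectTransparency false
set_option backward.isDefEq.respectTransparency.types false
set_option linter.style.haveILetI false
set_option maxHeartbeats 1000000

universe u

open CategoryTheory CategoryTheory.Limits AlgebraicGeometry TopologicalSpace Opposite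
open Groth.Agent.QC (res resO res_res res_smul app_res appₗ)

noncomputable section

namespace Groth.Agent.W7Exist

section Base

variable {A : Type u} [CommRing A] {Z : Scheme.{u}} [Z.Over (Spec (CommRingCat.of A))]

/-- The structure map on an affine open. -/
lemma fromSpec_over {V : Z.Opens} (hV : IsAffineOpen V) :
    hV.fromSpec ≫ (Z ↘ Spec (CommRingCat.of A)) = Spec.map (CommRingCat.ofHom (W7Cech.secRing A V)) := by
  have h1 : (Z ↘ Spec (CommRingCat.of A)) =
      Z.toSpecΓ ≫ Spec.map (CommRingCat.ofHom (Coh.toGlobal (Z ↘ Spec (CommRingCat.of A)))) := by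
    have h2 := Scheme.toSpecΓ_naturality (Z ↘ Spec (CommRingCat.of A))
    have h3 : Z.toSpecΓ ≫ Spec.map (CommRingCat.ofHom (Coh.toGlobal (Z ↘ Spec (CommRingCat.of A)))) =
        (Z.toSpecΓ ≫ Spec.map ((Z ↘ Spec (CommRingCat.of A)).appTop)) ≫
          Spec.map (Scheme.ΓSpecIso (CommRingCat.of A)).inv := by
      rw [Category.assoc, ← Spec.map_comp]
      rfl
    rw [h3, ← h2, Category.assoc, toSpecΓ_SpecMap_ΓSpecIso_inv, Category.comp_id]
  rw [h1, IsAffineOpen.fromSpec_toSpecΓ_assoc, ← Spec.map_comp]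
  rfl

end Base

section Abs

variable {R : Type u} [CommRing R] [IsNoetherianRing R] (J : Ideal R) {Y : Scheme.{u}}
  [Y.Over (Spec (CommRingCat.of R))] [IsProper (Y ↘ Spec (CommRingCat.of R))] {P : Y.Modules}

/-- Mittag-Leffler for global sections. -/
theorem exists_range_sections (hP : Coh.IsCoh P) (n : ℕ) : ∃ (N : ℕ) (h : n ≤ N),
    ∀ t : Γ(Formal.modPow J (N + 1) P, ⊤),
      ∃ s : Γ(P, ⊤), (Formal.modPowπ J (n + 1) P).app ⊤ s = (trG (Formal.completion J P) h).app ⊤ t := by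
  obtain ⟨e, he⟩ := W7Rees.exists_zero_natural (X := Y)
  obtain ⟨c, hc⟩ := W7Rees.exists_range_subset J hP 0
  refine ⟨n + c, Nat.le_add_right n c, fun t => ?_⟩
  let φ : Formal.modPow J (n + c + 1) P ⟶ Formal.modPow J (n + 1) P :=
    trG (Formal.completion J P) (Nat.le_add_right n c)
  obtain ⟨x, hx⟩ := hc (n + 1) (n + c + 1) (by omega) φ (π_trG J P (Nat.le_add_right n c)) ⟨(e _).symm t, rfl⟩
  refine ⟨e P x, (he P _ (Formal.modPowπ J (n + 1) P) x).symm.trans ?_⟩
  refine (congrArg (e _) hx).trans ((he _ _ φ _).trans ?_)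
  exact congrArg (φ.app (⊤ : Y.Opens)) ((e _).apply_symm_apply t)

/-- Sections vanishing far enough are deep. -/
theorem exists_ker_sections (hP : Coh.IsCoh P) (n : ℕ) : ∃ (N : ℕ), n ≤ N ∧
    ∀ s : Γ(P, ⊤), (Formal.modPowπ J (N + 1) P).app ⊤ s = 0 →
      (show ((W7Cech.secA R (⊤ : Y.Opens)).obj P : Type u) from s) ∈
        (J ^ (n + 1) • ⊤ : Submodule R ((W7Cech.secA R (⊤ : Y.Opens)).obj P : Type u)) := by
  obtain ⟨c, hc⟩ := W7Rees.exists_ker_subset J hP 0
  refine ⟨n + c, Nat.le_add_right n c, fun s hs => ?_⟩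
  let e : Γ(P, ⊤) ≃+ Coh.HH Y P 0 := W7Cech.gsH0 R P
  let L : ((W7Cech.secA R (⊤ : Y.Opens)).obj P : Type u) →ₗ[R] Coh.HH Y P 0 :=
    { toFun := fun x => e (show Γ(P, ⊤) from x)
      map_add' := fun x y => map_add e _ _
      map_smul' := fun a x => (congrArg (fun c : Γ(Y, ⊤) => e (c • (show Γ(P, ⊤) from x)))
        (Groth.Agent.QC.resO_self le_rfl _)).trans (W7Cech.gsH0_smul R P a (show Γ(P, ⊤) from x)) }
  have hL : Function.Bijective L := e.bijective
  have h0 : W7Rees.hm (W7Rees.qπ P (J ^ (c + (n + 1)))) 0 (L s) = 0 := by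
    refine (W7Cech.gsH0_natural R (W7Rees.qπ P (J ^ (c + (n + 1)))) s).symm.trans ?_
    have h1 : (W7Rees.qπ P (J ^ (c + (n + 1)))).app ⊤ s = 0 := by
      rw [show c + (n + 1) = n + c + 1 by omega]; exact hs
    refine (congrArg (W7Cech.gsH0 R _) ?_).trans (map_zero (W7Cech.gsH0 R _))
    exact h1
  have h2 : L s ∈ (J ^ (n + 1) • ⊤ : Submodule R (Coh.HH Y P 0)) :=
    Submodule.smul_mono le_rfl le_top (hc c le_rfl (n + 1) _ h0)
  have hm : (J ^ (n + 1) • ⊤ : Submodule R ((W7Cech.secA R (⊤ : Y.Opens)).obj P : Type u)).map L =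
      J ^ (n + 1) • ⊤ := by
    rw [Submodule.map_smul'', Submodule.map_top, LinearMap.range_eq_top.2 hL.2]
  rw [← hm] at h2
  obtain ⟨y, hy, hys⟩ := h2
  rwa [hL.1 hys] at hy

end Abs

/-- Pulling back sections along an open immersion. -/
lemma bijective_pullSect_open {T X : Scheme.{u}} (g : T ⟶ X) [IsOpenImmersion g] (M : X.Modules) (W : X.Opens)
    (hW : W ≤ g ''ᵁ g ⁻¹ᵁ W) : Function.Bijective (OmegaSh.pullSect g M W) := by
  have h : (OmegaSh.pullSect g M W : Γ(M, W) → Γ((Scheme.Modules.pullback g).obj M, g ⁻¹ᵁ W)) =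
      fun m => ((Scheme.Modules.restrictFunctorIsoPullback g).hom.app M).app (g ⁻¹ᵁ W)
        (res M (g.image_preimage_le W) m) :=
    funext fun m => (QC.restrictIso_hom_pullSect g M W m).symm
  rw [show (⇑(OmegaSh.pullSect g M W)) = _ from h]
  refine (ConcreteCategory.bijective_of_isIso
    (((Scheme.Modules.restrictFunctorIsoPullback g).hom.app M).app (g ⁻¹ᵁ W))).comp ⟨fun a b hab => ?_, fun b => ?_⟩
  · have h' := congrArg (res M hW) hab
    rwa [res_res, res_res, Groth.Agent.QC.res_self, Groth.Agent.QC.res_self] at h'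
  · exact ⟨res M hW b, (res_res _ _ _ _).trans (Groth.Agent.QC.res_self _ _ _)⟩

section Top

variable {T X : Scheme.{u}} (q : T ⟶ X) {W : X.Opens} (hle : (⊤ : T.Opens) ≤ q ⁻¹ᵁ W)

/-- Pulling back sections to all of the source. -/
def pullTop (M : X.Modules) (m : Γ(M, W)) : Γ((Scheme.Modules.pullback q).obj M, ⊤) :=
  res ((Scheme.Modules.pullback q).obj M) hle (OmegaSh.pullSect q M W m)

lemma pullTop_natural {M N : X.Modules} (ψ : M ⟶ N) (m : Γ(M, W)) :
    ((Scheme.Modules.pullback q).map ψ).app ⊤ (pullTop q hle M m) = pullTop q hle N (ψ.app W m) := by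
  rw [pullTop, pullTop, ← app_res, QC.app_pullSect]

lemma pullTop_smul (M : X.Modules) (r : Γ(X, W)) (m : Γ(M, W)) :
    pullTop q hle M (r • m) = resO T hle (q.app W r) • pullTop q hle M m := by
  rw [pullTop, OmegaSh.pullSect_smul, res_smul]
  rfl

lemma pullTop_zero (M : X.Modules) : pullTop q hle M 0 = 0 := by rw [pullTop, map_zero, map_zero]

lemma bijective_res_top (N : T.Modules) : Function.Bijective (res N hle) := by
  refine ⟨fun a b hab => ?_, fun b => ⟨res N le_top b, (res_res _ _ _ _).trans (Groth.Agent.QC.res_self _ _ _)⟩⟩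
  have h' := congrArg (res N (le_top : q ⁻¹ᵁ W ≤ ⊤)) hab
  rwa [res_res, res_res, Groth.Agent.QC.res_self, Groth.Agent.QC.res_self] at h'

end Top

section Global

variable {A : Type u} [CommRing A] (I : Ideal A) {X Z : Scheme.{u}}
  [X.Over (Spec (CommRingCat.of A))] [Z.Over (Spec (CommRingCat.of A))] (π : X ⟶ Z)
  (hπ : π ≫ (Z ↘ Spec (CommRingCat.of A)) = X ↘ Spec (CommRingCat.of A)) [IsProper π] [IsLocallyNoetherian Z]
  {M : X.Modules}

include hπ in
/-- Mittag-Leffler and separation over an affine open of the base. -/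
theorem exists_rel (hM : Coh.IsCoh M) {V : Z.Opens} (hV : IsAffineOpen V) (n : ℕ) :
    (∃ (N : ℕ) (h : n ≤ N), ∀ t : Γ(Formal.modPow I (N + 1) M, π ⁻¹ᵁ V), ∃ s : Γ(M, π ⁻¹ᵁ V),
      (Formal.modPowπ I (n + 1) M).app (π ⁻¹ᵁ V) s = (trG (Formal.completion I M) h).app (π ⁻¹ᵁ V) t) ∧
    ∃ N : ℕ, n ≤ N ∧ ∀ s : Γ(M, π ⁻¹ᵁ V), (Formal.modPowπ I (N + 1) M).app (π ⁻¹ᵁ V) s = 0 →
      (show Γ((Scheme.Modules.pushforward π).obj M, V) from s) ∈
        ((I.map (W7Cech.secRing A V)) ^ (n + 1) • ⊤ :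
          Submodule Γ(Z, V) Γ((Scheme.Modules.pushforward π).obj M, V)) := by
  haveI : IsNoetherianRing Γ(Z, V) := IsLocallyNoetherian.component_noetherian ⟨V, hV⟩
  let Y := (π ⁻¹ᵁ V).toScheme
  letI : Y.Over (Spec (CommRingCat.of Γ(Z, V))) := ⟨(π ∣_ V) ≫ hV.isoSpec.hom⟩
  haveI : IsProper (π ∣_ V) := IsZariskiLocalAtTarget.restrict (P := @IsProper) ‹_› V
  haveI : IsProper (Y ↘ Spec (CommRingCat.of Γ(Z, V))) := inferInstanceAs (IsProper ((π ∣_ V) ≫ hV.isoSpec.hom))
  haveI : IsLocallyNoetherian Y := LocallyOfFiniteType.isLocallyNoetherian (Y ↘ Spec (CommRingCat.of Γ(Z, V)))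
  let ι : Y ⟶ X := (π ⁻¹ᵁ V).ι
  let φ : A →+* Γ(Z, V) := W7Cech.secRing A V
  have hq : ι ≫ (X ↘ Spec (CommRingCat.of A)) =
      (Y ↘ Spec (CommRingCat.of Γ(Z, V))) ≫ Spec.map (CommRingCat.ofHom φ) := by
    change ι ≫ _ = ((π ∣_ V) ≫ hV.isoSpec.hom) ≫ _
    rw [← fromSpec_over hV, Category.assoc, ← IsAffineOpen.isoSpec_inv_ι, Category.assoc, Iso.hom_inv_id_assoc,
      ← Category.assoc, morphismRestrict_ι, Category.assoc, hπ]
  have hWle : π ⁻¹ᵁ V ≤ ι ''ᵁ ι ⁻¹ᵁ (π ⁻¹ᵁ V) := fun x hx => ⟨⟨x, hx⟩, hx, rfl⟩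
  have hle : (⊤ : Y.Opens) ≤ ι ⁻¹ᵁ (π ⁻¹ᵁ V) := fun x _ => x.2
  let P := (Scheme.Modules.pullback ι).obj M
  let J : Ideal Γ(Z, V) := I.map φ
  have hP : Coh.IsCoh P := QC.isCoh_pullback ι hM
  obtain ⟨e, he⟩ := exists_pullCompletion hq I M
  let θ : ∀ N : X.Modules, Γ(N, π ⁻¹ᵁ V) → Γ((Scheme.Modules.pullback ι).obj N, ⊤) := fun N => pullTop ι hle N
  have hθ : ∀ N, Function.Bijective (θ N) := fun N =>
    (bijective_res_top ι hle _).comp (bijective_pullSect_open ι N _ hWle)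
  have he' : ∀ k (x : Γ(P, ⊤)), (e.hom.app (op k)).app ⊤ ((Formal.modPowπ J (k + 1) P).app ⊤ x) =
      ((Scheme.Modules.pullback ι).map (Formal.modPowπ I (k + 1) M)).app ⊤ x := fun k x =>
    congr(($(he k)).app ⊤ x)
  have hinj : ∀ k, Function.Injective ((e.hom.app (op k)).app (⊤ : Y.Opens)) := fun k =>
    (ConcreteCategory.bijective_of_isIso ((e.hom.app (op k)).app (⊤ : Y.Opens))).1
  refine ⟨?_, ?_⟩
  · obtain ⟨N, h, hN⟩ := exists_range_sections J hP n
    refine ⟨N, h, fun t => ?_⟩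
    obtain ⟨t', ht'⟩ := (ConcreteCategory.bijective_of_isIso ((e.hom.app (op N)).app (⊤ : Y.Opens))).2 (θ _ t)
    obtain ⟨s', hs'⟩ := hN t'
    obtain ⟨s, rfl⟩ := (hθ M).2 s'
    refine ⟨s, (hθ _).1 ?_⟩
    refine (pullTop_natural ι hle (Formal.modPowπ I (n + 1) M) s).symm.trans ((he' n (θ M s)).symm.trans ?_)
    refine (congrArg ((e.hom.app (op n)).app (⊤ : Y.Opens)) hs').trans ?_
    refine (congr(($(e.hom.naturality (homOfLE h).op)).app ⊤ t')).trans ?_
    refine (congrArg (((Scheme.Modules.pullback ι).map (trG (Formal.completion I M) h)).app (⊤ : Y.Opens)) ht').trans ?_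
    exact pullTop_natural ι hle (trG (Formal.completion I M) h) t
  · obtain ⟨N, h, hN⟩ := exists_ker_sections J hP n
    refine ⟨N, h, fun s hs => ?_⟩
    have hdeep := hN (θ M s) (hinj N (by
      refine (he' N (θ M s)).trans ((pullTop_natural ι hle (Formal.modPowπ I (N + 1) M) s).trans ?_)
      rw [hs, pullTop_zero, map_zero]))
    let H := (Scheme.Modules.pushforward π).obj M
    have key : ∀ y ∈ (J ^ (n + 1) • ⊤ : Submodule Γ(Z, V) ((W7Cech.secA Γ(Z, V) (⊤ : Y.Opens)).obj P : Type u)),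
        ∃ s' : Γ(M, π ⁻¹ᵁ V), θ M s' = (show Γ(P, ⊤) from y) ∧
          (show Γ(H, V) from s') ∈ ((I.map φ) ^ (n + 1) • ⊤ : Submodule Γ(Z, V) Γ(H, V)) := by
      intro y hy
      refine Submodule.smul_induction_on (p := fun y : ((W7Cech.secA Γ(Z, V) (⊤ : Y.Opens)).obj P : Type u) => ∃ s' : Γ(M, π ⁻¹ᵁ V), θ M s' = (show Γ(P, ⊤) from y) ∧
          (show Γ(H, V) from s') ∈ ((I.map φ) ^ (n + 1) • ⊤ : Submodule Γ(Z, V) Γ(H, V))) hy
        (fun r hr x _ => ?_) ?_
      · rw [← Ideal.map_pow] at hr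
        revert x
        refine Submodule.span_induction (p := fun (r : Γ(Z, V)) _ => ∀ x : ((W7Cech.secA Γ(Z, V) (⊤ : Y.Opens)).obj P : Type u),
          x ∈ (⊤ : Submodule Γ(Z, V) _) → ∃ s' : Γ(M, π ⁻¹ᵁ V), θ M s' = (show Γ(P, ⊤) from (r • x :)) ∧
            (show Γ(H, V) from s') ∈ ((I.map φ) ^ (n + 1) • ⊤ : Submodule Γ(Z, V) Γ(H, V))) ?_ ?_ ?_ ?_ hr
        · rintro _ ⟨a, ha, rfl⟩ x -
          obtain ⟨w, hw⟩ := (hθ M).2 (show Γ(P, ⊤) from x)
          refine ⟨W7Cech.secRing A (π ⁻¹ᵁ V) a • w, ?_, ?_⟩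
          · refine (pullTop_smul ι hle M _ w).trans ?_
            rw [secRing_pull hq, W7Cech.resO_secRing]
            exact congrArg (W7Cech.secRing Γ(Z, V) (⊤ : Y.Opens) (φ a) • ·) hw
          · have hh := secRing_pull (A := A) (B := A) (φ := RingHom.id A) (q := π) (by
              rw [hπ, show CommRingCat.ofHom (RingHom.id A) = 𝟙 (CommRingCat.of A) from rfl, Spec.map_id,
                Category.comp_id]) V a
            rw [RingHom.id_apply] at hh
            rw [← hh]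
            refine Submodule.smul_mem_smul (r := φ a) (n := (show Γ(H, V) from w)) ?_ trivial
            rw [← Ideal.map_pow]
            exact Ideal.mem_map_of_mem φ ha
        · intro x _
          exact ⟨0, by rw [zero_smul]; exact pullTop_zero ι hle M, zero_mem _⟩
        · intro r r' _ _ hr hr' x hx
          obtain ⟨a, ha, ha'⟩ := hr x hx
          obtain ⟨b, hb, hb'⟩ := hr' x hx
          refine ⟨a + b, ?_, add_mem ha' hb'⟩
          rw [add_smul]
          change pullTop ι hle M (a + b) = _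
          rw [pullTop, map_add, map_add]
          exact congrArg₂ (· + ·) ha hb
        · intro c r _ hr x hx
          obtain ⟨a, ha, ha'⟩ := hr (c • x) trivial
          exact ⟨a, by rw [smul_eq_mul, mul_comm, mul_smul]; exact ha, ha'⟩
      · rintro y y' ⟨a, ha, ha'⟩ ⟨b, hb, hb'⟩
        refine ⟨a + b, ?_, add_mem ha' hb'⟩
        change pullTop ι hle M (a + b) = _
        rw [pullTop, map_add, map_add]
        exact congrArg₂ (· + ·) ha hb
    obtain ⟨s', hs', hmem⟩ := key _ hdeep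
    rwa [(hθ M).1 hs'] at hmem

end Global

end Groth.Agent.W7Exist
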