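import Groth.Agent.W7Exist.Rel
import Groth.Agent.W7Exist.Killed
import Groth.Agent.W7Exist.Lift

/-!
Sections as compatible families over a complete base; bounds for a map of modules that is bijective on a basic open;
pulling back sections along a morphism that is an isomorphism over an open.
-/

set_option autoImplicit false
set_option backward.isDefEq.respectTransparency false
set_option backward.isDefEq.respectTransparency.types false
set_option linter.style.haveILetI false
set_option maxHeartbeats 1000000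

universe u

open CategoryTheory CategoryTheory.Limits AlgebraicGeometry TopologicalSpace Opposite
open Groth.Agent.QC (res resO res_res res_smul app_res appₗ)

noncomputable section

namespace Groth.Agent.W7Exist

section Families

variable {B : Type u} [CommRing B] [IsNoetherianRing B] (I : Ideal B) [IsAdicComplete I B] {Y : Scheme.{u}}
  [Y.Over (Spec (CommRingCat.of B))] [IsProper (Y ↘ Spec (CommRingCat.of B))] {P : Y.Modules}

/-- Global sections are the compatible families of sections modulo powers. -/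
theorem families_bijective (hP : Coh.IsCoh P) :
    (∀ d : ∀ n : ℕ, Γ((Formal.completion I P).obj (op n), ⊤),
      (∀ n, (tn (Formal.completion I P) n).app ⊤ (d (n + 1)) = d n) →
        ∃ s : Γ(P, ⊤), ∀ n, (Formal.modPowπ I (n + 1) P).app ⊤ s = d n) ∧
    ∀ s : Γ(P, ⊤), (∀ n, (Formal.modPowπ I (n + 1) P).app ⊤ s = 0) → s = 0 := by
  haveI : IsLocallyNoetherian Y := LocallyOfFiniteType.isLocallyNoetherian (Y ↘ Spec (CommRingCat.of B))
  haveI : CompactSpace Y := QuasiCompact.compactSpace_of_compactSpace (Y ↘ Spec (CommRingCat.of B))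
  have hO : Coh.IsCoh (Coh.structureModule Y) := RefStalk.isCoh_structureModule
  have hs : ClSub.IsProperOver (Y ↘ Spec (CommRingCat.of B))
      (CohB1.support (Coh.structureModule Y) ∩ CohB1.support P) := by
    haveI : IsProper (𝟙 Y ≫ (Y ↘ Spec (CommRingCat.of B))) := by rw [Category.id_comp]; infer_instance
    exact ClSubLib.isProperOver_of_subset _ (𝟙 Y) _
      ((QC.isClosed_support hO.2).inter (QC.isClosed_support hP.2)) fun x _ => ⟨x, rfl⟩
  have hval : ∀ {M : Y.Modules} (s : Γ(M, ⊤)), TMul.val (TMul.homOf s) ⊤ = s := fun s =>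
    (TMul.val_homOf _ _).trans (Groth.Agent.QC.res_self _ _ _)
  refine ⟨fun d hd => ?_, fun s hs0 => ?_⟩
  · let g : ∀ n, Coh.structureModule Y ⟶ Formal.modPow I n P := fun n => match n with
      | 0 => TMul.homOf (d 0) ≫ Formal.modPowTrans I 0 P
      | k + 1 => TMul.homOf (d k)
    obtain ⟨φ, hφ, -⟩ := W7Rees.exists_unique_hom I hO hP hs g fun n => by
      cases n with
      | zero => rfl
      | succ k =>
        change TMul.homOf (d (k + 1)) ≫ Formal.modPowTrans I (k + 1) P = TMul.homOf (d k)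
        rw [← ProjMor.homOf_app]
        refine congrArg TMul.homOf ?_
        refine Eq.trans ?_ (hd k)
        exact congrArg (fun t : (Formal.completion I P).obj (op (k + 1)) ⟶ (Formal.completion I P).obj (op k) =>
          t.app (⊤ : Y.Opens) (d (k + 1))) (completion_map_succ I P k).symm
    refine ⟨TMul.val φ ⊤, fun n => ?_⟩
    refine Eq.trans ?_ (hval (d n))
    exact (TMul.val_comp φ (Formal.modPowπ I (n + 1) P) ⊤).symm.trans (congrArg (fun ψ => TMul.val ψ ⊤) (hφ (n + 1)))
  · let g : ∀ n, Coh.structureModule Y ⟶ Formal.modPow I n P := fun n => TMul.homOf s ≫ Formal.modPowπ I n P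
    obtain ⟨φ, -, hu⟩ := W7Rees.exists_unique_hom I hO hP hs g fun n => by
      simp only [g, Category.assoc, Formal.modPowπ_trans]
    have h0 : ∀ n, TMul.homOf (0 : Γ(P, ⊤)) ≫ Formal.modPowπ I n P = g n := fun n => by
      simp only [g, ← ProjMor.homOf_app]
      refine congrArg TMul.homOf ((map_zero _).trans ?_)
      cases n with
      | zero => rw [← Formal.modPowπ_trans]
                exact ((congrArg ((Formal.modPowTrans I 0 P).app (⊤ : Y.Opens)) (hs0 0)).trans (map_zero _)).symm
      | succ k => exact (hs0 k).symm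
    have h := (hu _ fun n => rfl).trans (hu _ h0).symm
    rw [← hval s, h, hval]

end Families

/-- A map bijective on a basic open has kernel and cokernel killed by a power on global sections. -/
theorem exists_pow_bound {T : Scheme.{u}} {M N : T.Modules} {W : T.Opens} (hW : IsAffineOpen W)
    (hM : Coh.IsQCoh M) (hN : Coh.IsQCoh N) (η : M ⟶ N) (f : Γ(T, W))
    (hη : Function.Bijective (η.app (T.basicOpen f))) [IsNoetherianRing Γ(T, W)]
    (hMf : Module.Finite Γ(T, W) Γ(M, W)) (hNf : Module.Finite Γ(T, W) Γ(N, W)) :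
    ∃ c : ℕ, (∀ s : Γ(N, W), ∃ x : Γ(M, W), η.app W x = f ^ c • s) ∧ ∀ x : Γ(M, W), η.app W x = 0 → f ^ c • x = 0 := by
  have hlM := QC.isLoc_of_isQCoh hW (hM := hM)
  have hlN := QC.isLoc_of_isQCoh hW (hM := hN)
  let e : Γ(M, W) →ₗ[Γ(T, W)] Γ(N, W) := appₗ η W
  have hco : ∀ s : Γ(N, W), ∃ c : ℕ, f ^ c • s ∈ LinearMap.range e := fun s => by
    obtain ⟨x, hx⟩ := hη.2 (res N (T.basicOpen_le f) s)
    obtain ⟨k, x₀, hx₀⟩ := hlM.exists_extend f x
    obtain ⟨l, hl⟩ := hlN.exists_pow_smul_eq_zero f (e x₀ - f ^ k • s) (by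
      rw [map_sub, res_smul, map_pow, ← hx]
      change res N _ (η.app W x₀) - _ = 0
      rw [app_res, hx₀, Scheme.Modules.Hom.app_smul, sub_self])
    refine ⟨l + k, ⟨f ^ l • x₀, ?_⟩⟩
    rw [smul_sub, sub_eq_zero] at hl
    rw [map_smul, hl, smul_smul, pow_add]
  have hke : ∀ x : LinearMap.ker e, ∃ c : ℕ, f ^ c • x = 0 := fun x => by
    obtain ⟨c, hc⟩ := hlM.exists_pow_smul_eq_zero f (x : Γ(M, W)) (hη.1 (by
      rw [← app_res, show η.app W (x : Γ(M, W)) = 0 from x.2, map_zero]
      exact (map_zero _).symm))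
    exact ⟨c, Subtype.ext hc⟩
  obtain ⟨t, ht⟩ := Module.Finite.fg_top (R := Γ(T, W)) (M := Γ(N, W))
  haveI := isNoetherian_of_isNoetherianRing_of_finite Γ(T, W) Γ(M, W)
  obtain ⟨t', ht'⟩ := (IsNoetherian.noetherian (LinearMap.ker e) : (LinearMap.ker e).FG)
  choose c hc using hco
  choose d hd using hke
  classical
  let C := t.sup c + (t'.attach).sup (fun x => d ⟨x.1, ht'.le (Submodule.subset_span x.2)⟩)
  refine ⟨C, fun s => ?_, fun x hx => ?_⟩
  · have hs : s ∈ Submodule.span Γ(T, W) (t : Set Γ(N, W)) := by rw [ht]; trivial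
    suffices h : f ^ C • s ∈ LinearMap.range e by
      obtain ⟨x, hx⟩ := h
      exact ⟨x, hx⟩
    refine Submodule.span_induction (p := fun s _ => f ^ C • s ∈ LinearMap.range e) (fun y hy => ?_) ?_ ?_ ?_ hs
    · obtain ⟨k, hk⟩ := le_iff_exists_add.1 (show c y ≤ C from (Finset.le_sup hy).trans (Nat.le_add_right _ _))
      rw [hk, pow_add, mul_comm, mul_smul]
      exact Submodule.smul_mem _ _ (hc y)
    · rw [smul_zero]; exact zero_mem _
    · intro a b _ _ ha hb; rw [smul_add]; exact add_mem ha hb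
    · intro r a _ ha; rw [smul_comm]; exact Submodule.smul_mem _ _ ha
  · have hxk : x ∈ Submodule.span Γ(T, W) (t' : Set Γ(M, W)) := by rw [ht']; exact hx
    refine Submodule.span_induction (p := fun x _ => f ^ C • x = 0) (fun y hy => ?_) (smul_zero _) ?_ ?_ hxk
    · let y' : t' := ⟨y, hy⟩
      obtain ⟨k, hk⟩ := le_iff_exists_add.1 (show d ⟨y'.1, ht'.le (Submodule.subset_span y'.2)⟩ ≤ C from
        (Finset.le_sup (f := fun x : t' => d ⟨x.1, ht'.le (Submodule.subset_span x.2)⟩) (Finset.mem_attach _ y')).trans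
          (Nat.le_add_left _ _))
      rw [hk, pow_add, mul_comm, mul_smul]
      exact (congrArg (f ^ k • ·) (congrArg Subtype.val (hd ⟨y'.1, ht'.le (Submodule.subset_span y'.2)⟩))).trans
        (smul_zero _)
    · intro a b _ _ ha hb; rw [smul_add, ha, hb, add_zero]
    · intro r a _ ha; rw [smul_comm, ha, smul_zero]

/-- Pulling back sections along a morphism that is an isomorphism over an open is bijective there. -/
theorem bijective_pullSect_of_isIso {Y T : Scheme.{u}} (p : Y ⟶ T) (O : T.Opens) [IsIso (p ∣_ O)] (M : T.Modules) :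
    Function.Bijective (OmegaSh.pullSect p M O) := by
  let σ : O.toScheme ⟶ Y := inv (p ∣_ O) ≫ (p ⁻¹ᵁ O).ι
  have hσ : σ ≫ p = O.ι := by
    rw [Category.assoc, ← morphismRestrict_ι, IsIso.inv_hom_id_assoc]
  have hb2 : Function.Bijective (OmegaSh.pullSect σ ((Scheme.Modules.pullback p).obj M) (p ⁻¹ᵁ O)) :=
    bijective_pullSect_open σ _ _ fun y hy => by
      refine ⟨(p ∣_ O).base ⟨y, hy⟩, ?_, ?_⟩
      · have h1 : σ.base ((p ∣_ O).base ⟨y, hy⟩) = y :=
          (congrArg (fun k : (p ⁻¹ᵁ O).toScheme ⟶ Y => k.base ⟨y, hy⟩)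
            (show (p ∣_ O) ≫ σ = (p ⁻¹ᵁ O).ι from IsIso.hom_inv_id_assoc _ _))
        change σ.base ((p ∣_ O).base ⟨y, hy⟩) ∈ p ⁻¹ᵁ O
        rw [h1]; exact hy
      · exact (congrArg (fun k : (p ⁻¹ᵁ O).toScheme ⟶ Y => k.base ⟨y, hy⟩)
          (show (p ∣_ O) ≫ σ = (p ⁻¹ᵁ O).ι from IsIso.hom_inv_id_assoc _ _))
  have hO : O ≤ O.ι ''ᵁ O.ι ⁻¹ᵁ O := fun x hx => ⟨⟨x, hx⟩, hx, rfl⟩
  have hb := bijective_pullSect_open O.ι M O hO
  have key : ∀ (q : O.toScheme ⟶ T) (hq : q = O.ι), Function.Bijective (OmegaSh.pullSect q M O) := by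
    intro q hq; subst hq; exact hb
  have hcomp : Function.Bijective fun m =>
      OmegaSh.pullSect σ ((Scheme.Modules.pullback p).obj M) (p ⁻¹ᵁ O) (OmegaSh.pullSect p M O m) := by
    have h2 := (ConcreteCategory.bijective_of_isIso
      (((Scheme.Modules.pullbackComp σ p).hom.app M).app (σ ⁻¹ᵁ (p ⁻¹ᵁ O))))
    refine (Function.Bijective.of_comp_iff' h2 _).1 ?_
    have h3 := key (σ ≫ p) hσ
    rw [show (⇑(OmegaSh.pullSect (σ ≫ p) M O)) = _ from funext fun m => (QC.pullbackComp_hom_pullSect σ p M O m).symm]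
      at h3
    exact h3
  exact (Function.Bijective.of_comp_iff' hb2 _).1 hcomp

end Groth.Agent.W7Exist
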