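import Groth.Agent.W7Exist.Alg
import Groth.Agent.CohFinite.Ample
import Groth.Agent.CohQC.QuasiAffine
import Groth.Agent.InvGen.Basic
import Groth.Agent.Devissage.Power
import Groth.Agent.S0010
import Groth.Agent.W7Cech.FlatBCSep

/-!
Families of coherent modules generated in bounded degrees by commuting operators; uniform Serre vanishing.
-/

set_option autoImplicit false
set_option backward.isDefEq.respectTransparency false
set_option backward.isDefEq.respectTransparency.types false
set_option linter.style.haveILetI false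
set_option maxHeartbeats 1000000

universe u

open CategoryTheory CategoryTheory.Limits AlgebraicGeometry TopologicalSpace Opposite
open Groth.Agent.QC (res res_res res_smul app_res appₗ)

attribute [local instance] Abelian.hasFiniteBiproducts

noncomputable section

namespace Groth.Agent.W7Exist

variable {X : Scheme.{u}} {r : ℕ}

/-- A family of modules with `r` commuting operators of degree one. -/
structure Fam (X : Scheme.{u}) (r : ℕ) where
  obj : ℕ → X.Modules
  τ : Fin r → ∀ n, obj n ⟶ obj (n + 1)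
  comm : ∀ i j n, τ i n ≫ τ j (n + 1) = τ j n ≫ τ i (n + 1)

/-- All operators at once. -/
abbrev Fam.π (E : Fam X r) (n : ℕ) : (⨁ fun _ : Fin r => E.obj n) ⟶ E.obj (n + 1) :=
  biproduct.desc fun j => E.τ j n

/-- Coherent and generated in bounded degrees. -/
structure Fam.Good (E : Fam X r) : Prop where
  coh : ∀ n, Coh.IsCoh (E.obj n)
  gen : ∃ n₀, ∀ n, n₀ ≤ n → Epi (E.π n)

lemma app_sum {ι : Type*} (s : Finset ι) {M N : X.Modules} (f : ι → (M ⟶ N)) (U : X.Opens) (x : Γ(M, U)) :
    (∑ i ∈ s, f i).app U x = ∑ i ∈ s, (f i).app U x := by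
  let φ : (M ⟶ N) →+ Γ(N, U) := AddMonoidHom.mk' (fun g => g.app U x) fun a b => rfl
  exact map_sum φ f s

lemma π_app_eq (E : Fam X r) (n : ℕ) (U : X.Opens) (z : Γ(⨁ fun _ : Fin r => E.obj n, U)) :
    (E.π n).app U z = ∑ j, (E.τ j n).app U ((biproduct.π (fun _ : Fin r => E.obj n) j).app U z) := by
  have h : E.π n = ∑ j, biproduct.π (fun _ : Fin r => E.obj n) j ≫ E.τ j n := biproduct.desc_eq
  rw [h, app_sum]
  rfl

/-- Surjectivity on an affine cover gives an epimorphism. -/
theorem epi_of_surjective {κ : Type u} (V : κ → X.Opens) (hV : ∀ i, IsAffineOpen (V i))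
    (hcov : ∀ x : X, ∃ i, x ∈ V i) {G F : X.Modules} (hG : Coh.IsQCoh G) (hF : Coh.IsQCoh F) (φ : G ⟶ F)
    (h : ∀ i, Function.Surjective (φ.app (V i))) : Epi φ := by
  have hC : Coh.IsQCoh (cokernel φ) := QC.isQCoh_cokernel hG hF φ
  have h0 : ∀ i (c : Γ(cokernel φ, V i)), c = 0 := fun i c => by
    obtain ⟨t, rfl⟩ := QC.app_surjective_of_epi (hV i) hF hC (cokernel.π φ) c
    obtain ⟨s, rfl⟩ := h i t
    change (φ ≫ cokernel.π φ).app _ s = 0
    rw [cokernel.condition]
    rfl
  refine Abelian.epi_of_cokernel_π_eq_zero _ (Scheme.Modules.hom_ext _ _ fun W => ?_)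
  ext t
  refine QC.section_eq_of_locally fun x hx => ?_
  obtain ⟨i, hi⟩ := hcov x
  obtain ⟨g, hg, hxg⟩ := (hV i).exists_basicOpen_le (V := W) ⟨x, hx⟩ hi
  refine ⟨X.basicOpen g, hg, hxg, ?_⟩
  obtain ⟨n, s, hs⟩ := (QC.isLoc_of_isQCoh (hV i) (hM := hC)).exists_extend g
    (res _ hg ((cokernel.π φ).app W t))
  rw [h0 i s, map_zero] at hs
  have hu : IsUnit (QC.resO X (X.basicOpen_le g) g ^ n : Γ(X, X.basicOpen g)) :=
    (RingedSpace.isUnit_res_basicOpen X.toRingedSpace g).pow n
  exact (hu.smul_eq_zero.mp hs.symm).trans (map_zero _).symm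

/-- A sub-family of a good family is good. -/
theorem Fam.Good.sub [IsLocallyNoetherian X] [CompactSpace X] {E : Fam X r} (hE : E.Good) (F : Fam X r)
    (ι : ∀ n, F.obj n ⟶ E.obj n) [∀ n, Mono (ι n)] (hι : ∀ j n, F.τ j n ≫ ι (n + 1) = ι n ≫ E.τ j n)
    (hF : ∀ n, Coh.IsQCoh (F.obj n)) : F.Good := by
  classical
  have hFc : ∀ n, Coh.IsCoh (F.obj n) := fun n => QC.isCoh_of_mono (ι n) (hE.coh n) (hF n)
  obtain ⟨n₀, hn₀⟩ := hE.gen
  have haff : ∀ V : X.Opens, IsAffineOpen V → ∃ d, ∀ n, d ≤ n → Function.Surjective ((F.π n).app V) := by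
    intro V hV
    haveI : IsNoetherianRing Γ(X, V) := IsLocallyNoetherian.component_noetherian ⟨V, hV⟩
    haveI := fun n => (QC.isCoh_iff_finite_sections.1 (hE.coh n)).2 ⟨V, hV⟩
    let t : Fin r → ∀ n, Γ(E.obj n, V) →ₗ[Γ(X, V)] Γ(E.obj (n + 1), V) := fun j n => appₗ (E.τ j n) V
    let N : ∀ n, Submodule Γ(X, V) Γ(E.obj n, V) := fun n => LinearMap.range (appₗ (ι n) V)
    obtain ⟨d, hd⟩ := exists_gen_sub t (fun i j n x => congr(($(E.comm i j n)).app V x)) n₀
      (fun n hn x => by
        haveI := hn₀ n hn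
        obtain ⟨z, rfl⟩ := QC.app_surjective_of_epi hV
          (Devissage.isCoh_biproduct _ fun _ => hE.coh n).1 (hE.coh (n + 1)).1 (E.π n) x
        rw [π_app_eq]
        exact Submodule.sum_mem _ fun j _ => Submodule.mem_iSup_of_mem j ⟨_, rfl⟩) N
      (fun j n x hx => by
        obtain ⟨y, rfl⟩ := hx
        exact ⟨(F.τ j n).app V y, congr(($(hι j n)).app V y)⟩)
    refine ⟨d, fun n hn x => ?_⟩
    have hx := hd n hn ⟨x, rfl⟩
    obtain ⟨f, hf⟩ := (Submodule.mem_iSup_iff_exists_finsupp _ _).1 hx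
    choose y hy hyf using hf.1
    choose w hw using hy
    refine ⟨∑ j, (biproduct.ι (fun _ : Fin r => F.obj n) j).app V (w j), ?_⟩
    refine QC.app_injective_of_mono (ι (n + 1)) V ?_
    rw [map_sum, map_sum]
    refine Eq.trans ?_ hf.2
    rw [Finsupp.sum_fintype _ _ fun _ => rfl]
    refine Finset.sum_congr rfl fun j _ => ?_
    rw [← hyf j, ← hw j]
    have h1 : biproduct.ι (fun _ : Fin r => F.obj n) j ≫ F.π n ≫ ι (n + 1) = ι n ≫ E.τ j n := by
      rw [biproduct.ι_desc_assoc, hι]
    exact congr(($h1).app V (w j))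
  obtain ⟨κ, hκ, V, hV, -, hcov⟩ := QC.exists_finite_affine_cover (X := X) (W := ⊤) CompactSpace.isCompact_univ
  choose d hd using fun i => haff (V i) (hV i)
  refine ⟨hFc, Finset.univ.sup d, fun n hn => epi_of_surjective V hV (fun x => hcov x trivial)
    (Devissage.isQCoh_biproduct _ fun _ => hF n) (hF (n + 1)) _
    fun i => hd i n ((Finset.le_sup (Finset.mem_univ i)).trans hn)⟩

section Vanish

open CohFinite

/-- Uniform Serre vanishing. -/
theorem vanish_uniform (A : Type u) [CommRing A] [IsNoetherianRing A] [X.Over (Spec (CommRingCat.of A))]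
    [IsProper (X ↘ Spec (CommRingCat.of A))] {L : X.Modules} (hL : CohB1.IsAmple L) {E : Fam X r} (hE : E.Good) (q : ℕ) : ∃ d₀ : ℕ, ∀ n d, d₀ ≤ d →
    Subsingleton (Coh.HH X (CohB1.tensorMod (E.obj n) (CohB1.tensorPow L d)) (q + 1)) := by
  classical
  haveI : IsLocallyNoetherian X := LocallyOfFiniteType.isLocallyNoetherian (X ↘ Spec (CommRingCat.of A))
  haveI : CompactSpace X := QuasiCompact.compactSpace_of_compactSpace (X ↘ Spec (CommRingCat.of A))
  haveI : X.IsSeparated := by
    constructor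
    rw [← terminal.comp_from (X ↘ Spec (CommRingCat.of A))]
    infer_instance
  obtain ⟨κ, hκ, V, hV, -, hcov⟩ := QC.exists_finite_affine_cover (X := X) (W := ⊤) CompactSpace.isCompact_univ
  let e := Fintype.equivFin κ
  have htop : ∀ {M : X.Modules}, Coh.IsQCoh M → ∀ p, Fintype.card κ ≤ p → Subsingleton (Coh.HH X M p) :=
    fun {M} hM p hp => Groth.Agent.S0010.result X _ (fun i => V (e.symm i)) (fun i => hV _)
      (eq_top_iff.2 fun x _ => by
        obtain ⟨i, hi⟩ := hcov x trivial
        exact Opens.mem_iSup.2 ⟨e i, by rwa [Equiv.symm_apply_apply]⟩)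
      (fun V W hV hW => IsAffineOpen.inf hV hW) M p hp
  have hq : ∀ {M : X.Modules}, Coh.IsCoh M → ∀ d, Coh.IsCoh (CohB1.tensorMod M (CohB1.tensorPow L d)) :=
    fun hM d => isCoh_tensor hM (TMul.isInvertible_tensorPow hL.1 d)
  suffices h : ∀ (k q : ℕ) {r : ℕ} (E : Fam X r), E.Good → Fintype.card κ ≤ q + 1 + k → ∃ d₀ : ℕ, ∀ n d, d₀ ≤ d →
      Subsingleton (Coh.HH X (CohB1.tensorMod (E.obj n) (CohB1.tensorPow L d)) (q + 1)) from
    h (Fintype.card κ) q E hE (by omega)
  intro k
  induction k with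
  | zero => exact fun q r E hE h => ⟨0, fun n d _ => htop (hq (hE.coh n) d).1 (q + 1) (by omega)⟩
  | succ k ih =>
    intro q r E hE hk
    obtain ⟨n₀, hn₀⟩ := hE.gen
    let P : ℕ → X.Modules := fun n => ⨁ fun _ : Fin r => E.obj n
    let τP : Fin r → ∀ n, P n ⟶ P (n + 1) := fun j n => biproduct.map fun _ => E.τ j n
    let PF : Fam X r := ⟨P, τP, fun i j n => biproduct.hom_ext _ _ fun l => by
      simp only [τP, Category.assoc, biproduct.map_π, biproduct.map_π_assoc, E.comm i j n]⟩
    have hP : PF.Good := by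
      refine ⟨fun n => Devissage.isCoh_biproduct _ fun _ => hE.coh n, n₀, fun n hn => ?_⟩
      haveI := hn₀ n hn
      refine Preadditive.epi_of_cancel_zero _ fun g hg => biproduct.hom_ext' _ _ fun l => ?_
      rw [comp_zero, ← cancel_epi (E.π n), comp_zero]
      refine biproduct.hom_ext' _ _ fun j => ?_
      rw [comp_zero, biproduct.ι_desc_assoc]
      have h := congrArg (fun φ => biproduct.ι (fun _ : Fin r => E.obj n) l ≫ biproduct.ι (fun _ : Fin r => P n) j ≫ φ) hg
      simp only [comp_zero] at h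
      rw [biproduct.ι_desc_assoc] at h
      rw [← h]
      simp only [PF, τP, biproduct.ι_map_assoc]
    have hπ : ∀ j n, τP j n ≫ E.π (n + 1) = E.π n ≫ E.τ j (n + 1) := fun j n => biproduct.hom_ext' _ _ fun l => by
      simp only [τP, biproduct.ι_map_assoc, biproduct.ι_desc, biproduct.ι_desc_assoc]
      exact (E.comm j l n)
    let τK : Fin r → ∀ n, kernel (E.π n) ⟶ kernel (E.π (n + 1)) := fun j n =>
      kernel.lift _ (kernel.ι (E.π n) ≫ τP j n) (by
        rw [Category.assoc, hπ, ← Category.assoc, kernel.condition, zero_comp])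
    let KF : Fam X r := ⟨fun n => kernel (E.π n), τK, fun i j n => (cancel_mono (kernel.ι _)).1 (by
      simp only [τK, Category.assoc, kernel.lift_ι, kernel.lift_ι_assoc]
      exact congrArg (_ ≫ ·) (PF.comm i j n))⟩
    have hK : KF.Good := hP.sub KF (fun n => kernel.ι (E.π n)) (fun j n => kernel.lift_ι _ _ _)
      fun n => QC.isQCoh_kernel (hP.coh n).1 (hE.coh (n + 1)).1 _
    obtain ⟨d₁, hd₁⟩ := ih (q + 1) KF hK (by omega)
    choose f hf using fun n => vanish_ample (X ↘ Spec (CommRingCat.of A)) hL (hE.coh n)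
    refine ⟨max d₁ ((Finset.range (n₀ + 1)).sup f), fun n d hd => ?_⟩
    induction n with
    | zero => exact hf 0 d ((Finset.le_sup (Finset.mem_range.2 (by omega))).trans ((le_max_right _ _).trans hd)) q
    | succ n ihn =>
      by_cases hn : n + 1 ≤ n₀
      · exact hf _ d ((Finset.le_sup (Finset.mem_range.2 (by omega))).trans ((le_max_right _ _).trans hd)) q
      haveI := hn₀ n (by omega)
      have hS : (ShortComplex.mk (kernel.ι (E.π n)) (E.π n) (kernel.condition (E.π n))).ShortExact :=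
        { exact := ShortComplex.exact_of_f_is_kernel _ (kernelIsKernel (E.π n)) }
      refine subsingleton_of_shortExact (shortExact_tmap (TMul.isInvertible_tensorPow hL.1 d) hS) (q + 1) ?_
        (hd₁ n d ((le_max_left _ _).trans hd))
      refine subsingleton_of_split _ (fun _ : Fin r => CohB1.tensorMod (E.obj n) (CohB1.tensorPow L d))
        (fun j => tmap (biproduct.ι (fun _ : Fin r => E.obj n) j) _)
        (fun j => tmap (biproduct.π (fun _ : Fin r => E.obj n) j) _) ?_ (q + 1) fun j => ihn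
      simp only [← tmap_comp]
      exact (tmap_sum _ _ _).symm.trans ((congrArg (fun ψ => tmap ψ _) biproduct.total).trans (tmap_id _ _))

end Vanish

end Groth.Agent.W7Exist
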