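import Mathlib.RingTheory.Polynomial.Basic
import Mathlib.RingTheory.FiniteType
import Mathlib.RingTheory.Noetherian.Basic
import Mathlib.Algebra.DirectSum.Module
import Mathlib.RingTheory.Adjoin.Basic
import Mathlib.LinearAlgebra.DirectSum.Finite

/-!
Sub-families of families of modules generated in bounded degrees by commuting operators.
-/

set_option autoImplicit false

universe u

noncomputable section

namespace Groth.Agent.W7Exist

open DirectSum

variable {R : Type u} [CommRing R] {M : ℕ → Type u} [∀ n, AddCommGroup (M n)] [∀ n, Module R (M n)]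
  {r : ℕ} (t : Fin r → ∀ n, M n →ₗ[R] M (n + 1))

/-- The operator of degree one on the sum. -/
def opT (j : Fin r) : Module.End R (⨁ n, M n) :=
  DirectSum.toModule R ℕ _ fun n => (DirectSum.lof R ℕ M (n + 1)) ∘ₗ t j n

lemma opT_lof (j : Fin r) (n : ℕ) (x : M n) :
    opT t j (DirectSum.lof R ℕ M n x) = DirectSum.lof R ℕ M (n + 1) (t j n x) := by
  simp [opT]

lemma opT_apply_succ (j : Fin r) (n : ℕ) (x : ⨁ n, M n) : opT t j x (n + 1) = t j n (x n) := by
  induction x using DirectSum.induction_on with
  | zero => simp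
  | of k x =>
    rw [← DirectSum.lof_eq_of R, opT_lof]
    by_cases h : k = n
    · subst h; rw [DirectSum.lof_apply, DirectSum.lof_apply]
    · rw [DirectSum.lof_eq_of, DirectSum.lof_eq_of, DirectSum.of_eq_of_ne _ _ _ (by omega : n + 1 ≠ k + 1),
        DirectSum.of_eq_of_ne _ _ _ (Ne.symm h), map_zero]
  | add a b ha hb => simp [ha, hb]

lemma opT_apply_zero (j : Fin r) (x : ⨁ n, M n) : opT t j x 0 = 0 := by
  induction x using DirectSum.induction_on with
  | zero => simp
  | of k x =>
    rw [← DirectSum.lof_eq_of R, opT_lof, DirectSum.lof_eq_of, DirectSum.of_eq_of_ne _ _ _ (by omega : 0 ≠ k + 1)]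
  | add a b ha hb => simp [ha, hb]

variable [IsNoetherianRing R] [∀ n, Module.Finite R (M n)]

/-- A stable sub-family of a family generated in bounded degrees is generated in bounded degrees. -/
theorem exists_gen_sub (hcomm : ∀ i j n (x : M n), t j (n + 1) (t i n x) = t i (n + 1) (t j n x))
    (n₀ : ℕ) (hgen : ∀ n, n₀ ≤ n → ∀ x : M (n + 1), x ∈ ⨆ j, LinearMap.range (t j n))
    (N : ∀ n, Submodule R (M n)) (hN : ∀ j n, ∀ x ∈ N n, t j n x ∈ N (n + 1)) :
    ∃ d, ∀ n, d ≤ n → N (n + 1) ≤ ⨆ j, (N n).map (t j n) := by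
  classical
  let T := opT t
  have hT : ∀ i j, T i * T j = T j * T i := fun i j => by
    refine DirectSum.linearMap_ext R fun n => LinearMap.ext fun x => ?_
    simp only [LinearMap.comp_apply, Module.End.mul_apply, T, opT_lof, hcomm]
  let S := Algebra.adjoin R (Set.range T)
  letI : CommRing S := Algebra.adjoinCommRingOfComm R (by
    rintro _ ⟨i, rfl⟩ _ ⟨j, rfl⟩
    exact hT i j)
  let φ : MvPolynomial (Fin r) R →ₐ[R] S :=
    MvPolynomial.aeval fun j => (⟨T j, Algebra.subset_adjoin ⟨j, rfl⟩⟩ : S)
  let P := MvPolynomial (Fin r) R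
  letI : Module P (⨁ n, M n) := Module.compHom _ (S.val.toRingHom.comp φ.toRingHom)
  have hC : ∀ (a : R) (x : ⨁ n, M n), (MvPolynomial.C a : P) • x = a • x := fun a x => by
    change ((φ (MvPolynomial.C a) : S) : Module.End R (⨁ n, M n)) x = a • x
    simp [φ]
  have hX : ∀ (j : Fin r) (x : ⨁ n, M n), (MvPolynomial.X j : P) • x = T j x := fun j x => by
    change ((φ (MvPolynomial.X j) : S) : Module.End R (⨁ n, M n)) x = T j x
    simp [φ]
  have stable : ∀ Q : Submodule R (⨁ n, M n), (∀ j, ∀ x ∈ Q, T j x ∈ Q) → ∀ (p : P), ∀ x ∈ Q, p • x ∈ Q := by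
    intro Q hQ p
    induction p using MvPolynomial.induction_on with
    | C a => intro x hx; rw [hC]; exact Q.smul_mem a hx
    | add p q hp hq => intro x hx; rw [add_smul]; exact Q.add_mem (hp x hx) (hq x hx)
    | mul_X p j hp => intro x hx; rw [mul_smul, hX]; exact hp _ (hQ j x hx)
  -- finiteness of the sum
  choose G hG using fun n => (Module.Finite.fg_top : (⊤ : Submodule R (M n)).FG)
  let gens : Set (⨁ n, M n) := ⋃ n ∈ Finset.range (n₀ + 1), DirectSum.lof R ℕ M n '' (G n : Set (M n))
  have hmem : ∀ n (x : M n), DirectSum.lof R ℕ M n x ∈ Submodule.span P gens := by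
    intro n
    induction n using Nat.strong_induction_on with
    | _ n ih =>
      intro x
      by_cases hn : n ≤ n₀
      · have hx : x ∈ Submodule.span R (G n : Set (M n)) := (hG n).symm ▸ Submodule.mem_top
        refine Submodule.span_induction (p := fun x _ => DirectSum.lof R ℕ M n x ∈ Submodule.span P gens)
          (fun g hg => Submodule.subset_span (Set.mem_biUnion (Finset.mem_range.2 (by omega)) ⟨g, hg, rfl⟩))
          (by rw [map_zero]; exact zero_mem _) (fun a b _ _ ha hb => by rw [map_add]; exact add_mem ha hb)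
          (fun a b _ hb => by rw [map_smul, ← hC]; exact Submodule.smul_mem _ _ hb) hx
      · obtain ⟨k, rfl⟩ : ∃ k, n = k + 1 := ⟨n - 1, by omega⟩
        refine Submodule.iSup_induction (fun j => LinearMap.range (t j k))
          (motive := fun x => DirectSum.lof R ℕ M (k + 1) x ∈ Submodule.span P gens) (hgen k (by omega) x)
          (fun j y hy => ?_) (by rw [map_zero]; exact zero_mem _) fun a b ha hb => by rw [map_add]; exact add_mem ha hb
        obtain ⟨z, rfl⟩ := hy
        rw [← opT_lof, ← hX]
        exact Submodule.smul_mem _ _ (ih k (by omega) z)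
  have : Module.Finite P (⨁ n, M n) := ⟨by
    have hfin : gens.Finite := Set.Finite.biUnion (Finset.finite_toSet _) fun n _ => (G n).finite_toSet.image _
    refine Submodule.fg_def.2 ⟨gens, hfin, Submodule.eq_top_iff'.2 fun x => ?_⟩
    induction x using DirectSum.induction_on with
    | zero => exact zero_mem _
    | of k x => exact hmem k x
    | add a b ha hb => exact add_mem ha hb⟩
  -- the sub-family
  let D' : Submodule R (⨁ n, M n) :=
    { carrier := {x | ∀ n, x n ∈ N n}
      add_mem' := fun ha hb n => by rw [DirectSum.add_apply]; exact add_mem (ha n) (hb n)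
      zero_mem' := fun n => zero_mem _
      smul_mem' := fun a x hx n => by rw [DirectSum.smul_apply]; exact (N n).smul_mem a (hx n) }
  have hD' : ∀ j, ∀ x ∈ D', T j x ∈ D' := fun j x hx n => by
    cases n with
    | zero => rw [show T j x 0 = 0 from opT_apply_zero t j x]; exact zero_mem _
    | succ n => rw [show T j x (n + 1) = t j n (x n) from opT_apply_succ t j n x]; exact hN j n _ (hx n)
  let DP : Submodule P (⨁ n, M n) :=
    { carrier := D'
      add_mem' := fun ha hb => D'.add_mem ha hb
      zero_mem' := D'.zero_mem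
      smul_mem' := fun p x hx => stable D' hD' p x hx }
  obtain ⟨g, hg⟩ := (IsNoetherian.noetherian DP : DP.FG)
  refine ⟨g.sup fun x => x.support.sup id + 1, ?_⟩
  intro n hn x hx
  let d := g.sup fun x => x.support.sup id + 1
  let Q : Submodule R (⨁ n, M n) :=
    { carrier := {y | y ∈ D' ∧ ∀ n, d ≤ n → y (n + 1) ∈ ⨆ j, (N n).map (t j n)}
      add_mem' := fun ha hb => ⟨add_mem ha.1 hb.1, fun n hn => by
        rw [DirectSum.add_apply]; exact add_mem (ha.2 n hn) (hb.2 n hn)⟩
      zero_mem' := ⟨zero_mem _, fun n _ => zero_mem _⟩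
      smul_mem' := fun a y hy => ⟨D'.smul_mem a hy.1, fun n hn => by
        rw [DirectSum.smul_apply]; exact Submodule.smul_mem _ a (hy.2 n hn)⟩ }
  have hQ : ∀ j, ∀ y ∈ Q, T j y ∈ Q := fun j y hy => ⟨hD' j y hy.1, fun n hn => by
    rw [show T j y (n + 1) = t j n (y n) from opT_apply_succ t j n y]
    exact Submodule.mem_iSup_of_mem j ⟨_, hy.1 n, rfl⟩⟩
  let QP : Submodule P (⨁ n, M n) :=
    { carrier := Q
      add_mem' := fun ha hb => Q.add_mem ha hb
      zero_mem' := Q.zero_mem
      smul_mem' := fun p y hy => stable Q hQ p y hy }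
  have hle : DP ≤ QP := by
    rw [← hg, Submodule.span_le]
    intro y hy
    refine ⟨(hg ▸ Submodule.subset_span hy : y ∈ DP), fun m hm => ?_⟩
    have hy0 : y (m + 1) = 0 := by
      by_contra h
      have h1 := Finset.le_sup (f := id) (DFinsupp.mem_support_iff.2 h)
      have h2 : y.support.sup id + 1 ≤ d := Finset.le_sup (f := fun x : ⨁ n, M n => x.support.sup id + 1) hy
      simp only [id] at h1
      omega
    rw [hy0]
    exact zero_mem _
  have hxD : DirectSum.lof R ℕ M (n + 1) x ∈ DP := fun m => by
    by_cases h : n + 1 = m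
    · subst h; rwa [DirectSum.lof_apply]
    · rw [DirectSum.lof_eq_of, DirectSum.of_eq_of_ne _ _ _ (Ne.symm h)]; exact zero_mem _
  have := (hle hxD).2 n hn
  rwa [DirectSum.lof_apply] at this

end Groth.Agent.W7Exist
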