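import Groth.Agent.W7Exist.LimAlg

/-!
Bounds on the levels of a map of towers from bounds on compatible families.
-/

set_option autoImplicit false
set_option backward.isDefEq.respectTransparency false
set_option linter.style.haveILetI false
set_option maxHeartbeats 1000000

universe u

noncomputable section

namespace Groth.Agent.W7Exist

variable {R : Type u} [CommRing R] [IsNoetherianRing R] (J : Ideal R)

/-- Families vanishing at a level are combinations of multiples by the power of the ideal. -/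
theorem family_induction (M : ℕ → Type u) [∀ n, AddCommGroup (M n)] [∀ n, Module R (M n)]
    (f : ∀ n, M (n + 1) →ₗ[R] M n) (hf : ∀ n, Function.Surjective (f n))
    (hk : ∀ n, LinearMap.ker (f n) = J ^ (n + 1) • ⊤)
    (hkill : ∀ n, ∀ a ∈ J ^ (n + 1), ∀ x : M n, a • x = 0) (hfin : ∀ n, Module.Finite R (M n))
    (n : ℕ) (p : (∀ i, M i) → Prop) (h0 : p 0) (hadd : ∀ x y, p x → p y → p (x + y))
    (hsmul : ∀ a ∈ J ^ (n + 1), ∀ e : ∀ i, M i, (∀ i, f i (e (i + 1)) = e i) → p (a • e))
    (d : ∀ i, M i) (hd : ∀ i, f i (d (i + 1)) = d i) (hdn : d n = 0) : p d := by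
  classical
  let S := AdicCompletion J R
  have hJfg : J.FG := IsNoetherian.noetherian J
  haveI : IsNoetherianRing S := ResExt.isNoetherianRing_adicCompletion J hJfg
  choose mM hmM using fun n => exists_completion_module J (n + 1) (M n) (hkill n)
  letI := mM
  have hof : ∀ (T : ℕ → Type u) [∀ n, AddCommGroup (T n)] [∀ n, Module R (T n)] [∀ n, Module S (T n)],
      (∀ n (r : AdicCompletion.AdicCauchySequence J R) (x : T n), AdicCompletion.mk J R r • x = r.val (n + 1) • x) →
      ∀ n, IsScalarTower R S (T n) := fun T _ _ _ hT n => IsScalarTower.of_algebraMap_smul fun a x => by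
    rw [show algebraMap R S a = AdicCompletion.mk J R ⟨fun _ => a, fun _ => rfl⟩ from rfl, hT]
  haveI := hof M hmM
  have hstep : ∀ (r : AdicCompletion.AdicCauchySequence J R) n, r.val (n + 1) - r.val (n + 1 + 1) ∈ J ^ (n + 1) :=
    fun r n => by
      have := (r.property (Nat.le_succ (n + 1)))
      rwa [SModEq.sub_mem, smul_eq_mul, Ideal.mul_top] at this
  have hsemi : ∀ (T : ℕ → Type u) [∀ n, AddCommGroup (T n)] [∀ n, Module R (T n)] [∀ n, Module S (T n)],
      (∀ n (r : AdicCompletion.AdicCauchySequence J R) (x : T n), AdicCompletion.mk J R r • x = r.val (n + 1) • x) →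
      (∀ n, ∀ a ∈ J ^ (n + 1), ∀ x : T n, a • x = 0) →
      ∀ (g : ∀ n, T (n + 1) →ₗ[R] T n) n (r : S) (x : T (n + 1)), g n (r • x) = r • g n x := by
    intro T _ _ _ hT hTk g n r x
    obtain ⟨r, rfl⟩ := AdicCompletion.mk_surjective J R r
    rw [hT, hT, map_smul]
    rw [← sub_eq_zero, ← sub_smul, ← neg_sub, neg_smul, hTk n _ (hstep r n), neg_zero]
  let fS : ∀ n, M (n + 1) →ₗ[S] M n := fun n =>
    { toFun := f n, map_add' := map_add (f n), map_smul' := hsemi M hmM hkill f n }
  let L : Submodule S (∀ n, M n) := ⨅ n, LinearMap.ker (fS n ∘ₗ LinearMap.proj (n + 1) - LinearMap.proj n)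
  have hmem : ∀ x : ∀ n, M n, x ∈ L ↔ ∀ n, f n (x (n + 1)) = x n := fun x => by
    simp only [L, Submodule.mem_iInf, LinearMap.mem_ker, LinearMap.sub_apply, sub_eq_zero]
    rfl
  let π : ∀ n, L →ₗ[S] M n := fun n => LinearMap.proj n ∘ₗ L.subtype
  have hL : AdicLim.IsLimit fS π :=
    { comm := fun n => LinearMap.ext fun x => (hmem _).1 x.2 n
      inj := fun x hx => Subtype.ext (funext hx)
      lift := fun y hy => ⟨⟨y, (hmem y).2 hy⟩, fun n => rfl⟩ }
  let JS := J.map (algebraMap R S)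
  haveI : IsAdicComplete JS S :=
    (IsAdicComplete.map_algebraMap_iff _ _).2 (AdicCompletion.isAdicComplete hJfg)
  have hkS : ∀ n, LinearMap.ker (fS n) = JS ^ (n + 1) • ⊤ := fun n => SetLike.ext fun x => by
    conv_rhs => rw [show JS ^ (n + 1) = (J ^ (n + 1)).map (algebraMap R S) from (Ideal.map_pow _ _ _).symm]
    refine Iff.trans ?_ (Iff.of_eq (congrArg (fun T : Submodule R (M (n + 1)) => x ∈ T)
      ((congrArg (fun T => (J ^ (n + 1)) • T) (Submodule.restrictScalars_top R S _)).symm.trans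
        (Submodule.restrictScalars_map_smul_eq (J ^ (n + 1)) (⊤ : Submodule S (M (n + 1)))).symm)))
    rw [← hk n]
    rfl
  haveI : Module.Finite S (M 0) := haveI := hfin 0; Module.Finite.of_restrictScalars_finite R S (M 0)
  obtain ⟨-, hLker⟩ := hL.finite_and_ker_eq JS hf hkS
  have h1 : (⟨d, (hmem d).2 hd⟩ : L) ∈ (JS ^ (n + 1) • ⊤ : Submodule S L) := by
    rw [← hLker n]
    exact hdn
  rw [← Ideal.map_pow] at h1
  refine Submodule.smul_induction_on (p := fun x : L => p x) h1 (fun c hc e _ => ?_) (fun x y hx hy => hadd _ _ hx hy)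
  revert e
  refine Submodule.span_induction (p := fun c _ => ∀ e : L, e ∈ (⊤ : Submodule S L) → p ((c • e : L) : ∀ i, M i))
    ?_ ?_ ?_ ?_ hc
  · rintro _ ⟨a, ha, rfl⟩ e -
    have he : ((algebraMap R S a • e : L) : ∀ i, M i) = a • (e : ∀ i, M i) :=
      funext fun i => algebraMap_smul S a ((e : ∀ i, M i) i)
    rw [he]
    exact hsmul a ha _ ((hmem _).1 e.2)
  · intro e _
    rw [zero_smul]
    exact h0
  · intro c c' _ _ h h' e he
    rw [add_smul]
    exact hadd _ _ (h e he) (h' e he)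
  · intro c c' _ h e _
    rw [smul_eq_mul, mul_comm, mul_smul]
    exact h (c • e) trivial

/-- Bounds on families give bounds on levels. -/
theorem levels_of_families (M M' : ℕ → Type u) [∀ n, AddCommGroup (M n)] [∀ n, Module R (M n)]
    [∀ n, AddCommGroup (M' n)] [∀ n, Module R (M' n)] (f : ∀ n, M (n + 1) →ₗ[R] M n)
    (f' : ∀ n, M' (n + 1) →ₗ[R] M' n) (hf : ∀ n, Function.Surjective (f n)) (hf' : ∀ n, Function.Surjective (f' n))
    (hk' : ∀ n, LinearMap.ker (f' n) = J ^ (n + 1) • ⊤) (hkill : ∀ n, ∀ a ∈ J ^ (n + 1), ∀ x : M n, a • x = 0)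
    (hkill' : ∀ n, ∀ a ∈ J ^ (n + 1), ∀ x : M' n, a • x = 0) (hfin' : ∀ n, Module.Finite R (M' n))
    (β : ∀ n, M n →ₗ[R] M' n) (hβ : ∀ n x, f' n (β (n + 1) x) = β n (f n x)) (c : R)
    (hsurj : ∀ d : ∀ i, M' i, (∀ i, f' i (d (i + 1)) = d i) →
      ∃ l : ∀ i, M i, (∀ i, f i (l (i + 1)) = l i) ∧ ∀ i, β i (l i) = c • d i)
    (hinj : ∀ l : ∀ i, M i, (∀ i, f i (l (i + 1)) = l i) → (∀ i, β i (l i) = 0) → ∀ i, c • l i = 0) (n : ℕ) :
    (∀ x, β n x = 0 → (c * c) • x = 0) ∧ ∀ y, ∃ x, β n x = c • y := by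
  have hfam : ∀ (T : ℕ → Type u) (g : ∀ i, T (i + 1) → T i), (∀ i, Function.Surjective (g i)) → ∀ k (x : T k),
      ∃ y : ∀ i, T i, (∀ i, g i (y (i + 1)) = y i) ∧ y k = x := by
    intro T g hg k
    induction k generalizing T with
    | zero =>
      intro x
      choose s hs using hg
      exact ⟨fun i => Nat.rec x (fun i z => s i z) i, fun i => hs i _, rfl⟩
    | succ k ih =>
      intro x
      obtain ⟨y, hy, hyc⟩ := ih (fun i => T (i + 1)) (fun i => g (i + 1)) (fun i => hg (i + 1)) x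
      refine ⟨fun i => Nat.casesOn (motive := T) i (g 0 (y 0)) y, fun i => ?_, hyc⟩
      cases i with
      | zero => rfl
      | succ i => exact hy i
  refine ⟨fun x hx => ?_, fun y => ?_⟩
  · obtain ⟨l, hl, hln⟩ := hfam M (fun i => f i) hf n x
    have hd : ∀ i, f' i (β (i + 1) (l (i + 1))) = β i (l i) := fun i => by rw [hβ, hl]
    obtain ⟨l', hl', hl'n, hl'β⟩ := family_induction J M' f' hf' hk' hkill' hfin' n
      (fun d => ∃ l' : ∀ i, M i, (∀ i, f i (l' (i + 1)) = l' i) ∧ l' n = 0 ∧ ∀ i, β i (l' i) = c • d i)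
      ⟨0, fun i => map_zero _, rfl, fun i => (map_zero _).trans (smul_zero c).symm⟩
      (fun x y ⟨a, ha, ha', ha''⟩ ⟨b, hb, hb', hb''⟩ => ⟨a + b, fun i => by simp only [Pi.add_apply, map_add, ha, hb],
        by simp only [Pi.add_apply, ha', hb', add_zero],
        fun i => by simp only [Pi.add_apply, map_add, ha'', hb'', smul_add]⟩)
      (fun a ha e he => by
        obtain ⟨le, hle, hleβ⟩ := hsurj e he
        exact ⟨a • le, fun i => by simp only [Pi.smul_apply, map_smul, hle], hkill n a ha _,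
          fun i => by simp only [Pi.smul_apply, map_smul, hleβ, smul_comm a c]⟩)
      (fun i => β i (l i)) hd (by rw [hln, hx])
    have h0 := hinj (fun i => c • l i - l' i) (fun i => by rw [map_sub, map_smul, hl, hl']) (fun i => by
      rw [map_sub, map_smul, hl'β, sub_self]) n
    rwa [hl'n, sub_zero, hln, ← mul_smul] at h0
  · obtain ⟨d, hd, hdn⟩ := hfam M' (fun i => f' i) hf' n y
    obtain ⟨l, hl, hlβ⟩ := hsurj d hd
    exact ⟨l n, by rw [hlβ, hdn]⟩

end Groth.Agent.W7Exist
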