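import Groth.Agent.W7Exist.Formal

/-!
A coherent module pro-isomorphic to a coherent formal module inside a completion algebraizes it.
-/

set_option autoImplicit false
set_option backward.isDefEq.respectTransparency false
set_option backward.isDefEq.respectTransparency.types false
set_option linter.style.haveILetI false
set_option maxHeartbeats 1000000

universe u

open CategoryTheory CategoryTheory.Limits AlgebraicGeometry TopologicalSpace Opposite
open Groth.Agent.QC (res res_res res_smul app_res appₗ)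

noncomputable section

namespace Groth.Agent.W7Exist

variable {X : Scheme.{u}}

/-- A map killed by the cokernel of `a` lifts along `a` after a refinement. -/
lemma exists_refine {F P T : X.Modules} (a : F ⟶ P) (b : T ⟶ P) (h : b ≫ cokernel.π a = 0) :
    ∃ (T' : X.Modules) (p : T' ⟶ T) (_ : Epi p) (y : T' ⟶ F), p ≫ b = y ≫ a := by
  obtain ⟨T', p, hp, y, hy⟩ := surjective_up_to_refinements_of_epi (Abelian.factorThruImage a) (kernel.lift _ b h)
  refine ⟨T', p, hp, y, ?_⟩
  have h' := congrArg (· ≫ Abelian.image.ι a) hy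
  simp only [Category.assoc, Abelian.image.fac] at h'
  rw [← h', kernel.lift_ι]

variable {A : Type u} [CommRing A] [X.Over (Spec (CommRingCat.of A))] (I : Ideal A)

/-- Artin–Rees for a submodule, uniformly. -/
lemma exists_AR [IsLocallyNoetherian X] [CompactSpace X] {M P : X.Modules} (hM : Coh.IsQCoh M) (hP : Coh.IsCoh P)
    (i : M ⟶ P) [Mono i] : ∃ c, ∀ n N, n + c ≤ N →
      kernel.ι (i ≫ Formal.modPowπ I N P) ≫ Formal.modPowπ I n M = 0 := by
  classical
  obtain ⟨κ, hκ, V, hV, -, hcov⟩ := QC.exists_finite_affine_cover (X := X) (W := ⊤) CompactSpace.isCompact_univ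
  have hloc : ∀ k, ∃ c, ∀ n N, n + c ≤ N → ∀ s : Γ(M, V k),
      (Formal.modPowπ I N P).app (V k) (i.app (V k) s) = 0 → (Formal.modPowπ I n M).app (V k) s = 0 := fun k => by
    haveI : IsNoetherianRing Γ(X, V k) := IsLocallyNoetherian.component_noetherian ⟨V k, hV k⟩
    haveI := (QC.isCoh_iff_finite_sections.1 hP).2 ⟨V k, hV k⟩
    let J := I.map (W7Cech.secRing A (V k))
    let ι : Γ(M, V k) →ₗ[Γ(X, V k)] Γ(P, V k) := appₗ i (V k)
    obtain ⟨c, hc⟩ := J.exists_pow_inf_eq_pow_smul (LinearMap.range ι)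
    refine ⟨c, fun n N hN s hs => (W7Rees.π_app_eq_zero_iff I hM (hV k) n s).2 ?_⟩
    have h1 : ι s ∈ J ^ N • (⊤ : Submodule Γ(X, V k) Γ(P, V k)) ⊓ LinearMap.range ι :=
      ⟨(W7Rees.π_app_eq_zero_iff I hP.1 (hV k) N _).1 hs, s, rfl⟩
    rw [hc N (by omega)] at h1
    have h2 : ι s ∈ (J ^ n • ⊤ : Submodule Γ(X, V k) Γ(M, V k)).map ι := by
      rw [Submodule.map_smul'', Submodule.map_top]
      exact Submodule.smul_mono (Ideal.pow_le_pow_right (by omega)) inf_le_right h1
    obtain ⟨s', hs', e⟩ := h2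
    rwa [← QC.app_injective_of_mono i (V k) e]
  choose c hc using hloc
  haveI := hκ
  refine ⟨Finset.univ.sup c, fun n N hN => hom_eq_zero_of_cover V hV (fun x => hcov x trivial)
    (QC.isQCoh_kernel hM (W7Rees.isQCoh_modQuot P _ hP.1) _) _ fun k s => ?_⟩
  refine hc k n N (le_trans (Nat.add_le_add_left (Finset.le_sup (Finset.mem_univ k)) n) hN) _ ?_
  exact congr(($(kernel.condition (i ≫ Formal.modPowπ I N P))).app (V k) s)

/-- Pro-isomorphism gives isomorphism of coherent formal modules. -/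
theorem exists_iso_of_proIso [IsLocallyNoetherian X] [CompactSpace X] {M P : X.Modules} (hM : Coh.IsCoh M)
    (hP : Coh.IsCoh P) (i : M ⟶ P) [Mono i] {F : ℕᵒᵖ ⥤ X.Modules} (hF : Formal.IsCohFormal I F)
    (j : F ⟶ Formal.completion I P)
    (hex₁ : ∀ n : ℕ, (i ≫ Formal.modPowπ I (n + 1) P) ≫ cokernel.π (j.app (op n)) = 0)
    (hex₂ : ∀ n : ℕ, j.app (op n) ≫ cokernel.π (i ≫ Formal.modPowπ I (n + 1) P) = 0)
    (hsep : ∀ n, ∃ (N : ℕ) (h : n ≤ N), kernel.ι (j.app (op N)) ≫ trG F h = 0) :
    ∃ (g : ∀ n, M ⟶ F.obj (op n)) (e : Formal.completion I M ≅ F),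
      (∀ n, Formal.modPowπ I (n + 1) M ≫ e.hom.app (op n) = g n) ∧
      (∀ n, g n ≫ j.app (op n) = i ≫ Formal.modPowπ I (n + 1) P) ∧
      ∀ n, ∃ (N : ℕ) (h : n ≤ N), ∀ (T : X.Modules) (x : T ⟶ M) (y : T ⟶ F.obj (op N)),
        x ≫ i ≫ Formal.modPowπ I (N + 1) P = y ≫ j.app (op N) → x ≫ g n = y ≫ trG F h := by
  classical
  choose N hnN hN using hsep
  have sep : ∀ n {T : X.Modules} (y : T ⟶ F.obj (op (N n))), y ≫ j.app (op (N n)) = 0 → y ≫ trG F (hnN n) = 0 :=
    fun n T y hy => by rw [← kernel.lift_ι _ y hy, Category.assoc, hN, comp_zero]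
  have hnat : ∀ {n m : ℕ} (h : n ≤ m), trG F h ≫ j.app (op n) = j.app (op m) ≫ trG (Formal.completion I P) h :=
    fun h => j.naturality _
  have tri : ∀ {n m : ℕ} (h : n ≤ m) {T : X.Modules} (x : T ⟶ M) (y : T ⟶ F.obj (op m)),
      x ≫ i ≫ Formal.modPowπ I (m + 1) P = y ≫ j.app (op m) →
        x ≫ i ≫ Formal.modPowπ I (n + 1) P = (y ≫ trG F h) ≫ j.app (op n) := fun h T x y e => by
    rw [Category.assoc, hnat, ← Category.assoc y, ← e, Category.assoc, Category.assoc]
    exact congrArg (fun φ => x ≫ i ≫ φ) (π_trG I P h).symm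
  choose T p hp y hy using fun n => exists_refine (j.app (op (N n))) (i ≫ Formal.modPowπ I (N n + 1) P) (hex₁ (N n))
  choose g hg using fun n => haveI := hp n; exists_desc_of_epi (p n) (y n ≫ trG F (hnN n)) (by
    rw [← Category.assoc]
    refine sep n _ ?_
    rw [Category.assoc, ← hy, ← Category.assoc, kernel.condition, zero_comp])
  have hchar : ∀ n {T' : X.Modules} (x : T' ⟶ M) (z : T' ⟶ F.obj (op (N n))),
      x ≫ i ≫ Formal.modPowπ I (N n + 1) P = z ≫ j.app (op (N n)) → x ≫ g n = z ≫ trG F (hnN n) := by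
    intro n T' x z h
    haveI := hp n
    obtain ⟨T'', q, hq, x', hx'⟩ := surjective_up_to_refinements_of_epi (p n) x
    rw [← cancel_epi q, ← Category.assoc, hx', Category.assoc, hg, ← Category.assoc, ← Category.assoc,
      ← sub_eq_zero, ← Preadditive.sub_comp]
    refine sep n _ ?_
    rw [Preadditive.sub_comp, sub_eq_zero, Category.assoc, ← hy, ← Category.assoc, ← hx', Category.assoc,
      Category.assoc, h]
  have hgj : ∀ n, g n ≫ j.app (op n) = i ≫ Formal.modPowπ I (n + 1) P := fun n => by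
    haveI := hp n
    rw [← cancel_epi (p n), ← Category.assoc, hg]
    exact (tri (hnN n) (p n) (y n) (hy n)).symm
  have hgt : ∀ n, g (n + 1) ≫ tn F n = g n := fun n => by
    let N' := max (N n) (N (n + 1))
    obtain ⟨T', q, hq, z, hz⟩ := exists_refine (j.app (op N')) (i ≫ Formal.modPowπ I (N' + 1) P) (hex₁ N')
    rw [← cancel_epi q, ← Category.assoc,
      hchar (n + 1) q (z ≫ trG F (le_max_right (N n) (N (n + 1)))) (tri _ _ _ hz),
      hchar n q (z ≫ trG F (le_max_left (N n) (N (n + 1)))) (tri _ _ _ hz), Category.assoc, Category.assoc,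
      Category.assoc]
    refine congrArg (z ≫ ·) ?_
    rw [← Category.assoc, trG_comp, trG_comp, trG_comp]
  have hge : ∀ n, Epi (g n) := fun n => by
    obtain ⟨T', q, hq, x, hx⟩ := exists_refine (i ≫ Formal.modPowπ I (N n + 1) P) (j.app (op (N n))) (hex₂ (N n))
    haveI := epi_trG hF (hnN n)
    haveI : Epi (q ≫ trG F (hnN n)) := epi_comp _ _
    exact epi_of_epi_fac (hchar n x q hx.symm)
  obtain ⟨c, hc⟩ := exists_AR I hM.1 hP i
  choose e he using fun n => exists_desc_modPow I (n + 1) (g n) fun a ha => by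
    rw [W7Cech.smulMod_natural, hF.2.1 n a ha, comp_zero]
  have hi : ∀ n, IsIso (e n) := fun n => by
    let N' := max (N n) (n + c)
    have hn : n ≤ N' := (hnN n).trans (le_max_left _ _)
    have sep' : ∀ {T : X.Modules} (x : T ⟶ M), x ≫ i ≫ Formal.modPowπ I (N' + 1) P = 0 →
        x ≫ Formal.modPowπ I (n + 1) M = 0 := fun x hx => by
      rw [← kernel.lift_ι _ x hx, Category.assoc, hc (n + 1) (N' + 1) (by omega), comp_zero]
    obtain ⟨T₁, p₁, hp₁, x₁, hx₁⟩ := exists_refine (i ≫ Formal.modPowπ I (N' + 1) P) (j.app (op N')) (hex₂ N')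
    obtain ⟨w₁, hw₁⟩ := exists_desc_of_epi p₁ (x₁ ≫ Formal.modPowπ I (n + 1) M) (by
      rw [← Category.assoc]
      refine sep' _ ?_
      rw [Category.assoc, ← hx₁, ← Category.assoc, kernel.condition, zero_comp])
    obtain ⟨w, hw⟩ := exists_desc_trG hF hn (fun a ha => π_smulMod I (n + 1) M a ha) w₁
    have hgw : g n ≫ w = Formal.modPowπ I (n + 1) M := by
      obtain ⟨T₂, q, hq, z, hz⟩ := exists_refine (j.app (op N')) (i ≫ Formal.modPowπ I (N' + 1) P) (hex₁ N')
      obtain ⟨T₃, r, hr, z', hz'⟩ := surjective_up_to_refinements_of_epi p₁ z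
      haveI : Epi (r ≫ q) := epi_comp _ _
      rw [← cancel_epi (r ≫ q), ← Category.assoc, Category.assoc r,
        hchar n q (z ≫ trG F (le_max_left (N n) (n + c))) (tri _ _ _ hz), Category.assoc z, trG_comp,
        Category.assoc r, Category.assoc z, hw, ← Category.assoc r, hz', Category.assoc, hw₁, ← Category.assoc,
        ← sub_eq_zero, ← Preadditive.sub_comp]
      refine sep' _ ?_
      rw [Preadditive.sub_comp, sub_eq_zero, Category.assoc z', ← hx₁, ← Category.assoc z', ← hz', Category.assoc r,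
        ← hz, Category.assoc]
    refine ⟨w, ?_, ?_⟩
    · rw [← cancel_epi (Formal.modPowπ I (n + 1) M), ← Category.assoc, he, hgw, Category.comp_id]
    · haveI := hge n
      rw [← cancel_epi (g n), ← Category.assoc, hgw, he, Category.comp_id]
  have hnat' : ∀ n, (Formal.completion I M).map (homOfLE (Nat.le_succ n)).op ≫ e n = e (n + 1) ≫ tn F n := fun n => by
    rw [completion_map_succ, ← cancel_epi (Formal.modPowπ I (n + 1 + 1) M), ← Category.assoc, ← Category.assoc, he]
    exact (congrArg (· ≫ e n) (Formal.modPowπ_trans I (n + 1) M)).trans ((he n).trans (hgt n).symm)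
  let α : Formal.completion I M ⟶ F := NatTrans.ofOpSequence e hnat'
  haveI : ∀ n, IsIso (α.app n) := fun ⟨n⟩ => hi n
  haveI := NatIso.isIso_of_isIso_app α
  exact ⟨g, asIso α, fun n => he n, hgj, fun n => ⟨N n, hnN n, fun T x z h => hchar n x z h⟩⟩

end Groth.Agent.W7Exist
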