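import Groth.Agent.W7Exist.Bound
import Groth.Agent.W7Exist.Levels
import Groth.Agent.W7Exist.ProIso
import Groth.Prelude.Def_Formal2

/-!
The map to the completion of the direct image, with uniformly killed kernels and cokernels.
-/

set_option autoImplicit false
set_option backward.isDefEq.respectTransparency false
set_option backward.isDefEq.respectTransparency.types false
set_option linter.style.haveILetI false
set_option maxHeartbeats 2000000

universe u

open CategoryTheory CategoryTheory.Limits AlgebraicGeometry TopologicalSpace Opposite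
open Groth.Agent.QC (res resO res_res res_smul app_res appₗ)

noncomputable section

namespace Groth.Agent.W7Exist

variable {Z : Scheme.{u}}

/-- Being killed by an ideal sheaf can be checked on an affine cover. -/
lemma killedByIdeal_of_cover (K : Z.IdealSheafData) {κ : Type u} (V : κ → Z.affineOpens)
    (hcov : ∀ x : Z, ∃ i, x ∈ (V i).1) {M : Z.Modules} (hM : Coh.IsQCoh M)
    (h : ∀ i, ∀ a ∈ K.ideal (V i), ∀ x : Γ(M, (V i).1), a • x = 0) : ClSub.KilledByIdeal K M := by
  intro U a ha x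
  refine QC.section_eq_of_locally (M := M) (U := U.1) (s := (a • x :)) (t := 0) fun y hy => ?_
  obtain ⟨i, hi⟩ := hcov y
  obtain ⟨g, hg, hyg⟩ := (V i).2.exists_basicOpen_le (V := U.1) ⟨y, hy⟩ hi
  refine ⟨Z.basicOpen g, hg, hyg, ?_⟩
  rw [res_smul, map_zero]
  obtain ⟨n, s, hs⟩ := (QC.isLoc_of_isQCoh (V i).2 (hM := hM)).exists_extend g (res M hg x)
  have hu : IsUnit (QC.resO Z (Z.basicOpen_le g) g ^ n : Γ(Z, Z.basicOpen g)) :=
    (RingedSpace.isUnit_res_basicOpen Z.toRingedSpace g).pow n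
  refine hu.smul_eq_zero.mp ?_
  rw [smul_comm, ← hs]
  have hmem : resO Z hg a ∈ (K.ideal (V i)).map (resO Z (Z.basicOpen_le g)) := by
    have h1 := K.map_ideal (U := Z.affineBasicOpen g) (V := U) hg
    have h2 := K.map_ideal_basicOpen (V i) g
    exact (h1.trans h2.symm).le (Ideal.mem_map_of_mem _ ha)
  refine Submodule.span_induction (p := fun c _ => c • res M (Z.basicOpen_le g) s = 0) ?_ (zero_smul _ _) ?_ ?_ hmem
  · rintro _ ⟨b, hb, rfl⟩
    rw [← res_smul, h i b hb s, map_zero]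
  · intro b c _ _ hb hc
    rw [add_smul, hb, hc, add_zero]
  · intro r c _ hc
    rw [smul_eq_mul, mul_smul, hc, smul_zero]

variable {A : Type u} [CommRing A] (I : Ideal A) {X : Scheme.{u}}
  [X.Over (Spec (CommRingCat.of A))] [Z.Over (Spec (CommRingCat.of A))] (π : X ⟶ Z)
  (hπ : π ≫ (Z ↘ Spec (CommRingCat.of A)) = X ↘ Spec (CommRingCat.of A)) [IsProper π] [IsNoetherian Z]

include hπ in
/-- The map to the completion of the direct image. -/
theorem exists_alpha {M : X.Modules} (hM : Coh.IsCoh M) (hH : Coh.IsCoh ((Scheme.Modules.pushforward π).obj M))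
    {F : ℕᵒᵖ ⥤ Z.Modules} (hF : Formal.IsCohFormal I F)
    (e : Formal.completion I M ≅ F ⋙ Scheme.Modules.pullback π) (U : Z.Opens) [IsIso (π ∣_ U)]
    (K : Z.IdealSheafData) (hK : ∀ (V : Z.affineOpens) (f : Γ(Z, V.1)), f ∈ K.ideal V → Z.basicOpen f ≤ U) :
    ∃ α : F ⟶ Formal.completion I ((Scheme.Modules.pushforward π).obj M), Formal2.KerCokerKilledByPow K α := by
  classical
  let P := Scheme.Modules.pushforward π
  let H := P.obj M
  let Mc := Formal.completion I M
  have hMc := isCohFormal_completion I hM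
  have hHc := isCohFormal_completion I hH
  haveI : IsLocallyNoetherian X := LocallyOfFiniteType.isLocallyNoetherian π
  obtain ⟨κ, hκ, V₀, hV₀, -, hcov⟩ := QC.exists_finite_affine_cover (X := Z) (W := ⊤) CompactSpace.isCompact_univ
  haveI := hκ
  have hD : ∀ n, Coh.IsQCoh (P.obj (Mc.obj (op n))) := fun n =>
    haveI : (Mc.obj (op n)).IsQuasicoherent := (hMc.1 n).1
    QC.isQCoh_pushforward π
  let φ : ∀ n, H ⟶ P.obj (Mc.obj (op n)) := fun n => P.map (Formal.modPowπ I (n + 1) M)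
  have hφt : ∀ {n N : ℕ} (h : n ≤ N), φ N ≫ P.map (trG Mc h) = φ n := fun h => by
    rw [← P.map_comp]; exact congrArg P.map (π_trG I M h)
  choose N1 hN1 hN1' using fun (n : ℕ) (i : κ) => (exists_rel I π hπ hM (hV₀ i) n).1
  choose N2 hN2 hN2' using fun (n : ℕ) (i : κ) => (exists_rel I π hπ hM (hV₀ i) n).2
  let r1 : ℕ → ℕ := fun n => max n (Finset.univ.sup (N1 n))
  let r2 : ℕ → ℕ := fun n => max n (Finset.univ.sup (N2 n))
  have hr1 : ∀ n, P.map (trG Mc (le_max_left n (Finset.univ.sup (N1 n)))) ≫ cokernel.π (φ n) = 0 := fun n => by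
    refine hom_eq_zero_of_cover V₀ hV₀ (fun x => hcov x trivial) (hD _) _ fun i t => ?_
    have hle : N1 n i ≤ r1 n := (Finset.le_sup (Finset.mem_univ i)).trans (le_max_right _ _)
    obtain ⟨s, hs⟩ := hN1' n i ((trG Mc hle).app (π ⁻¹ᵁ V₀ i) t)
    have h1 : (trG Mc (le_max_left n (Finset.univ.sup (N1 n)))).app (π ⁻¹ᵁ V₀ i) t =
        (φ n).app (V₀ i) s := by
      refine Eq.trans ?_ hs.symm
      exact congr(($(trG_comp Mc hle (hN1 n i))).app (π ⁻¹ᵁ V₀ i) t).symm
    change (cokernel.π (φ n)).app (V₀ i) ((trG Mc _).app (π ⁻¹ᵁ V₀ i) t) = 0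
    rw [show ((trG Mc (le_max_left n (Finset.univ.sup (N1 n)))).app (π ⁻¹ᵁ V₀ i) t) = _ from h1]
    exact congr(($(cokernel.condition (φ n))).app (V₀ i) s)
  have hr2 : ∀ n, kernel.ι (φ (r2 n)) ≫ Formal.modPowπ I (n + 1) H = 0 := fun n => by
    refine hom_eq_zero_of_cover V₀ hV₀ (fun x => hcov x trivial) (QC.isQCoh_kernel hH.1 (hD _) _) _ fun i s => ?_
    have hle : N2 n i ≤ r2 n := (Finset.le_sup (Finset.mem_univ i)).trans (le_max_right _ _)
    refine (W7Rees.π_app_eq_zero_iff I hH.1 (hV₀ i) (n + 1) _).2 (hN2' n i _ ?_)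
    change (φ (N2 n i)).app (V₀ i) ((kernel.ι (φ (r2 n))).app (V₀ i) s) = 0
    have h1 : kernel.ι (φ (r2 n)) ≫ φ (N2 n i) = 0 := by
      rw [← hφt hle, ← Category.assoc, kernel.condition, zero_comp]
    exact congr(($h1).app (V₀ i) s)
  have hsep : ∀ n {T : Z.Modules} (z : T ⟶ H), z ≫ φ (r2 n) = 0 → z ≫ Formal.modPowπ I (n + 1) H = 0 :=
    fun n T z hz => by rw [← kernel.lift_ι _ z hz, Category.assoc, hr2, comp_zero]
  have huu : ∀ {n N : ℕ} (h : n ≤ N), trG F h ≫ uu π e n = uu π e N ≫ P.map (trG Mc h) := fun {n N} h => by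
    have h1 := (Scheme.Modules.pullbackPushforwardAdjunction π).unit.naturality (trG F h)
    have h2 := congrArg P.map (e.inv.naturality (homOfLE h).op)
    rw [P.map_comp, P.map_comp] at h2
    change trG F h ≫ _ ≫ P.map _ = (_ ≫ P.map _) ≫ P.map _
    rw [← Category.assoc, Category.assoc]
    refine (congrArg (· ≫ P.map (e.inv.app (op n))) h1).trans ?_
    exact (Category.assoc _ _ _).trans (congrArg (_ ≫ ·) h2)
  -- lifts of the comparison
  have hlift : ∀ n m, r2 n ≤ m → ∃ (T : Z.Modules) (p : T ⟶ F.obj (op (r1 m))) (_ : Epi p) (z : T ⟶ H),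
      p ≫ uu π e (r1 m) ≫ P.map (trG Mc (le_max_left m (Finset.univ.sup (N1 m)))) = z ≫ φ m := fun n m _ =>
    exists_refine (φ m) _ (by rw [Category.assoc, hr1, comp_zero])
  choose T p hp z hz using fun n => hlift n (r2 n) le_rfl
  have h2n : ∀ n, n ≤ r2 n := fun n => le_max_left _ _
  have h1n : ∀ n, n ≤ r1 n := fun n => le_max_left _ _
  have hw : ∀ n, ∃ a : F.obj (op n) ⟶ Formal.modPow I (n + 1) H,
      p n ≫ trG F ((h2n n).trans (h1n (r2 n))) ≫ a = z n ≫ Formal.modPowπ I (n + 1) H := fun n => by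
    haveI := hp n
    obtain ⟨w, hw⟩ := exists_desc_of_epi (p n) (z n ≫ Formal.modPowπ I (n + 1) H) (by
      rw [← Category.assoc]
      refine hsep n _ ?_
      rw [Category.assoc, ← hz, ← Category.assoc, kernel.condition, zero_comp])
    obtain ⟨a, ha⟩ := exists_desc_trG hF ((h2n n).trans (h1n (r2 n))) (fun c hc => π_smulMod I (n + 1) H c hc) w
    exact ⟨a, by rw [ha, hw]⟩
  choose a ha using hw
  have hchar : ∀ n {T' : Z.Modules} (x : T' ⟶ F.obj (op (r2 n))) (z' : T' ⟶ H),
      x ≫ uu π e (r2 n) = z' ≫ φ (r2 n) → x ≫ trG F (h2n n) ≫ a n = z' ≫ Formal.modPowπ I (n + 1) H := by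
    intro n T' x z' h
    haveI := hp n
    haveI := epi_trG hF (h1n (r2 n))
    obtain ⟨T₁, q, hq, x', hx'⟩ := surjective_up_to_refinements_of_epi (trG F (h1n (r2 n))) x
    obtain ⟨T₂, q', hq', x'', hx''⟩ := surjective_up_to_refinements_of_epi (p n) x'
    haveI : Epi (q' ≫ q) := epi_comp _ _
    rw [← cancel_epi (q' ≫ q), Category.assoc q', ← Category.assoc q, hx', Category.assoc x', ← Category.assoc q',
      hx'', Category.assoc x'', ← Category.assoc (trG F (h1n (r2 n))), trG_comp, ha, ← sub_eq_zero,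
      ← Category.assoc x'', ← Category.assoc (q' ≫ q), ← Preadditive.sub_comp]
    refine hsep n _ ?_
    rw [Preadditive.sub_comp, sub_eq_zero, Category.assoc x'', ← hz, ← Category.assoc x'', ← hx'', Category.assoc q',
      ← huu (h1n (r2 n)), ← Category.assoc x', ← hx', Category.assoc q, h]
    simp only [Category.assoc]
  have hψ : ∀ n, ∃ ψ : Formal.modPow I (n + 1) H ⟶ P.obj (Mc.obj (op n)), Formal.modPowπ I (n + 1) H ≫ ψ = φ n :=
    fun n => exists_desc_modPow I (n + 1) (φ n) fun c hc => by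
      have hq : π ≫ (Z ↘ Spec (CommRingCat.of A)) =
          (X ↘ Spec (CommRingCat.of A)) ≫ Spec.map (CommRingCat.ofHom (RingHom.id A)) := by
        rw [hπ, show CommRingCat.ofHom (RingHom.id A) = 𝟙 (CommRingCat.of A) from rfl, Spec.map_id, Category.comp_id]
      rw [← push_smulMod hq M c, RingHom.id_apply, ← P.map_comp, smulMod_π I (n + 1) M c hc]
      exact P.map_zero _ _
  choose ψ hψ using hψ
  have hαψ : ∀ n, a n ≫ ψ n = uu π e n := fun n => by
    haveI := hp n
    haveI := epi_trG hF ((h2n n).trans (h1n (r2 n)))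
    rw [← cancel_epi (trG F ((h2n n).trans (h1n (r2 n)))), ← cancel_epi (p n), ← Category.assoc (trG F _),
      ← Category.assoc (p n), ha, Category.assoc (z n), hψ, ← hφt (h2n n), ← Category.assoc (z n), ← hz,
      huu, ← trG_comp Mc (h1n (r2 n)) (h2n n), P.map_comp]
    simp only [Category.assoc]
  have hnat : ∀ n, tn F n ≫ a n = a (n + 1) ≫ tn (Formal.completion I H) n := fun n => by
    let m := max (r2 n) (r2 (n + 1))
    have hm0 : r2 n ≤ m := le_max_left _ _
    have hm1 : r2 (n + 1) ≤ m := le_max_right _ _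
    have hn1 : n + 1 ≤ r1 m := ((h2n (n + 1)).trans hm1).trans (h1n m)
    obtain ⟨T', q, hq, z', hz'⟩ := hlift n m hm0
    have hx : ∀ l (hl : r2 l ≤ m), (q ≫ trG F (hl.trans (h1n m))) ≫ uu π e (r2 l) = z' ≫ φ (r2 l) := fun l hl => by
      rw [Category.assoc, huu, ← trG_comp Mc (h1n m) hl, P.map_comp, ← hφt hl, ← Category.assoc z', ← hz']
      simp only [Category.assoc]
    haveI := epi_trG hF hn1
    haveI := hq
    haveI : Epi (q ≫ trG F hn1) := epi_comp _ _
    rw [← cancel_epi (q ≫ trG F hn1), Category.assoc q, Category.assoc q, ← Category.assoc (trG F hn1),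
      ← Category.assoc (trG F hn1) (a (n + 1)), show trG F hn1 ≫ tn F n = trG F _ from trG_comp F hn1 (Nat.le_succ n)]
    refine Eq.trans (b := z' ≫ Formal.modPowπ I (n + 1) H) ?_ ?_
    · rw [← hchar n _ z' (hx n hm0), Category.assoc q, ← Category.assoc (trG F _) (trG F _), trG_comp]
    · have h1 := hchar (n + 1) _ z' (hx (n + 1) hm1)
      rw [Category.assoc q, ← Category.assoc (trG F _) (trG F _), trG_comp] at h1
      rw [← Category.assoc q, h1, Category.assoc, π_succ]
  let α : F ⟶ Formal.completion I H := NatTrans.ofOpSequence a hnat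
  refine ⟨α, ?_⟩
  have hψn : ∀ n, tn (Formal.completion I H) n ≫ ψ n = ψ (n + 1) ≫ P.map (tn Mc n) := fun n => by
    rw [← cancel_epi (Formal.modPowπ I (n + 1 + 1) H), ← Category.assoc, ← Category.assoc, π_succ, hψ, hψ]
    exact (hφt (Nat.le_succ n)).symm
  -- the bounds on an affine open
  have hbound : ∀ (i : κ) (f : Γ(Z, V₀ i)), f ∈ K.ideal ⟨V₀ i, hV₀ i⟩ → ∃ k : ℕ, ∀ n,
      (∀ x, (a n).app (V₀ i) x = 0 → f ^ k • x = 0) ∧ ∀ y, ∃ x, (a n).app (V₀ i) x = f ^ k • y := by
    intro i f hf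
    let R := Γ(Z, V₀ i)
    haveI : IsNoetherianRing R := IsLocallyNoetherian.component_noetherian ⟨V₀ i, hV₀ i⟩
    obtain ⟨k, hk1, hk2⟩ := exists_family_bound I π hπ hM hF e (hV₀ i) f U (hK ⟨V₀ i, hV₀ i⟩ f hf)
    refine ⟨k + k, fun n => ?_⟩
    have hl := levels_of_families (R := R) (I.map (W7Cech.secRing A (V₀ i))) (fun n => Γ(F.obj (op n), V₀ i))
      (fun n => Γ((Formal.completion I H).obj (op n), V₀ i)) (fun n => appₗ (tn F n) (V₀ i))
      (fun n => appₗ (tn (Formal.completion I H) n) (V₀ i))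
      (fun n => app_trG_surjective hF (Nat.le_succ n) (hV₀ i)) (fun n => app_trG_surjective hHc (Nat.le_succ n) (hV₀ i))
      (fun n => SetLike.ext fun s => LinearMap.mem_ker.trans (tn_app_eq_zero_iff hHc n (hV₀ i) s))
      (fun n c hc x => smul_eq_zero_of_killedBy (hF.2.1 n) (V₀ i) c (by rwa [Ideal.map_pow]) x)
      (fun n c hc x => smul_eq_zero_of_killedBy (hHc.2.1 n) (V₀ i) c (by rwa [Ideal.map_pow]) x)
      (fun n => (QC.isCoh_iff_finite_sections.1 (hHc.1 n)).2 ⟨V₀ i, hV₀ i⟩)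
      (fun n => appₗ (a n) (V₀ i)) (fun n x => (congr(($(hnat n)).app (V₀ i) x)).symm) (f ^ k)
      (fun d hd => by
        have hψd : ∀ l, (P.map (tn Mc l)).app (V₀ i) ((ψ (l + 1)).app (V₀ i) (d (l + 1))) = (ψ l).app (V₀ i) (d l) :=
          fun l => (congr(($(hψn l)).app (V₀ i) (d (l + 1)))).symm.trans (congrArg ((ψ l).app (V₀ i)) (hd l))
        obtain ⟨l, hl, hlu⟩ := hk1 (fun l => (ψ l).app (V₀ i) (d l)) hψd
        refine ⟨l, hl, fun j => sub_eq_zero.1 ?_⟩
        let w : ∀ j, Γ((Formal.completion I H).obj (op j), V₀ i) := fun j =>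
          (show Γ((Formal.completion I H).obj (op j), V₀ i) from (a j).app (V₀ i) (l j)) - f ^ k • d j
        have hwt : ∀ j, (tn (Formal.completion I H) j).app (V₀ i) (w (j + 1)) = w j := fun j => by
          have h2 : (tn (Formal.completion I H) j).app (V₀ i) ((a (j + 1)).app (V₀ i) (l (j + 1))) =
              (a j).app (V₀ i) (l j) :=
            (congr(($(hnat j)).app (V₀ i) (l (j + 1)))).symm.trans (congrArg ((a j).app (V₀ i)) (hl j))
          simp only [w, map_sub, Scheme.Modules.Hom.app_smul, h2]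
          exact congrArg (fun t : Γ((Formal.completion I H).obj (op j), V₀ i) => _ - f ^ k • t) (hd j)
        have hwψ : ∀ j, (ψ j).app (V₀ i) (w j) = 0 := fun j => by
          simp only [w, map_sub, Scheme.Modules.Hom.app_smul]
          rw [sub_eq_zero]
          exact (congr(($(hαψ j)).app (V₀ i) (l j))).trans (hlu j)
        have hred : ∀ {j N : ℕ} (h : j ≤ N), (trG (Formal.completion I H) h).app (V₀ i) (w N) = w j := fun {j N} h => by
          induction N, h using Nat.le_induction with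
          | base => rw [trG_self]; rfl
          | succ N h ih =>
            rw [← trG_comp (Formal.completion I H) (Nat.le_succ N) h]
            change (trG (Formal.completion I H) h).app (V₀ i) ((tn _ N).app (V₀ i) (w (N + 1))) = _
            rw [hwt N, ih]
        obtain ⟨s, hs⟩ := QC.app_surjective_of_epi (hV₀ i) hH.1 (hHc.1 (r2 j)).1
          (Formal.modPowπ I (r2 j + 1) H) (w (r2 j))
        have h0 : (φ (r2 j)).app (V₀ i) s = 0 := by
          refine (congr(($(hψ (r2 j))).app (V₀ i) s)).symm.trans ?_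
          change (ψ (r2 j)).app (V₀ i) ((Formal.modPowπ I (r2 j + 1) H).app (V₀ i) s) = 0
          exact (congrArg ((ψ (r2 j)).app (V₀ i)) hs).trans (hwψ _)
        obtain ⟨s', hs'⟩ := (QC.mem_range_kernel_app (φ (r2 j)) (V₀ i) s).2 h0
        change w j = 0
        rw [← hred (h2n j), ← hs]
        refine (congr(($(π_trG I H (h2n j))).app (V₀ i) s)).trans ?_
        rw [← hs']
        exact congr(($(hr2 j)).app (V₀ i) s'))
      (fun l hl hl0 j => hk2 l hl (fun j => by
        refine (congr(($(hαψ j)).app (V₀ i) (l j))).symm.trans ?_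
        change (ψ j).app (V₀ i) (appₗ (a j) (V₀ i) (l j)) = 0
        exact (congrArg ((ψ j).app (V₀ i)) (hl0 j)).trans (map_zero _)) j) n
    refine ⟨fun x hx => by rw [pow_add]; exact hl.1 x hx, fun y => ?_⟩
    obtain ⟨x, hx⟩ := hl.2 (f ^ k • y)
    exact ⟨x, by rw [pow_add, mul_smul]; exact hx⟩
  -- uniformity
  have hloc : ∀ i : κ, ∃ c : ℕ, ∀ n, ∀ b ∈ (K.ideal ⟨V₀ i, hV₀ i⟩) ^ c,
      (∀ x, (a n).app (V₀ i) x = 0 → b • x = 0) ∧ ∀ y, ∃ x, (a n).app (V₀ i) x = b • y := by
    intro i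
    let R := Γ(Z, V₀ i)
    haveI : IsNoetherianRing R := IsLocallyNoetherian.component_noetherian ⟨V₀ i, hV₀ i⟩
    obtain ⟨t, ht⟩ := (IsNoetherian.noetherian (K.ideal ⟨V₀ i, hV₀ i⟩) : (K.ideal ⟨V₀ i, hV₀ i⟩).FG)
    choose k hk using fun f : t => hbound i f.1 (ht.le (Ideal.subset_span f.2))
    let Q : Ideal R := Ideal.span (Set.range fun f : t => f.1 ^ k f)
    obtain ⟨c, hc⟩ := Ideal.exists_pow_le_of_le_radical_of_fg (I := K.ideal ⟨V₀ i, hV₀ i⟩) (J := Q) (by
      rw [← ht]
      exact Ideal.span_le.2 fun f hf => ⟨k ⟨f, hf⟩, Ideal.subset_span ⟨⟨f, hf⟩, rfl⟩⟩) (IsNoetherian.noetherian _)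
    refine ⟨c, fun n b hb => ?_⟩
    refine Submodule.span_induction (p := fun b _ => (∀ x, (a n).app (V₀ i) x = 0 → b • x = 0) ∧
      ∀ y, ∃ x, (a n).app (V₀ i) x = b • y) ?_ ?_ ?_ ?_ (hc hb)
    · rintro _ ⟨f, rfl⟩
      exact hk f n
    · exact ⟨fun x _ => zero_smul _ _, fun y => ⟨0, by rw [map_zero, zero_smul]⟩⟩
    · intro b b' _ _ h h'
      refine ⟨fun x hx => by rw [add_smul, h.1 x hx, h'.1 x hx, add_zero], fun y => ?_⟩
      obtain ⟨x, hx⟩ := h.2 y
      obtain ⟨x', hx'⟩ := h'.2 y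
      exact ⟨x + x', by rw [map_add, hx, hx', add_smul]⟩
    · intro r b _ h
      refine ⟨fun x hx => by rw [smul_eq_mul, mul_smul, h.1 x hx, smul_zero], fun y => ?_⟩
      obtain ⟨x, hx⟩ := h.2 y
      exact ⟨r • x, by rw [Scheme.Modules.Hom.app_smul, hx, smul_eq_mul, mul_smul]⟩
  choose c hc using hloc
  refine ⟨Finset.univ.sup c, fun n => ⟨?_, ?_⟩⟩
  · refine killedByIdeal_of_cover _ (fun i => ⟨V₀ i, hV₀ i⟩) (fun x => hcov x trivial)
      (QC.isQCoh_kernel (hF.1 n).1 (hHc.1 n).1 _) fun i b hb x => ?_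
    simp only [Scheme.IdealSheafData.ideal_pow, Pi.pow_apply] at hb
    refine QC.app_injective_of_mono (kernel.ι (α.app (op n))) (V₀ i) ?_
    rw [map_zero, Scheme.Modules.Hom.app_smul]
    exact ((hc i) n b (Ideal.pow_le_pow_right ((Finset.le_sup (Finset.mem_univ i)).trans (Nat.le_succ _)) hb)).1 _
      (congr(($(kernel.condition (α.app (op n)))).app (V₀ i) x))
  · refine killedByIdeal_of_cover _ (fun i => ⟨V₀ i, hV₀ i⟩) (fun x => hcov x trivial)
      (QC.isQCoh_cokernel (hF.1 n).1 (hHc.1 n).1 _) fun i b hb x => ?_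
    simp only [Scheme.IdealSheafData.ideal_pow, Pi.pow_apply] at hb
    obtain ⟨y, rfl⟩ := QC.app_surjective_of_epi (hV₀ i) (hHc.1 n).1 (QC.isQCoh_cokernel (hF.1 n).1 (hHc.1 n).1 _)
      (cokernel.π (α.app (op n))) x
    obtain ⟨x', hx'⟩ := ((hc i) n b (Ideal.pow_le_pow_right ((Finset.le_sup (Finset.mem_univ i)).trans (Nat.le_succ _)) hb)).2 y
    rw [← Scheme.Modules.Hom.app_smul, ← hx']
    exact congr(($(cokernel.condition (α.app (op n)))).app (V₀ i) x')

end Groth.Agent.W7Exist
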