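import Groth.Agent.W7Exist.Unit0
import Groth.Agent.W7Exist.Algebraize
import Groth.Agent.CohFinite.Proper

/-!
Comparison of a formal module with the direct image of an algebraization of its pullback, over an affine open.
-/

set_option autoImplicit false
set_option backward.isDefEq.respectTransparency false
set_option backward.isDefEq.respectTransparency.types false
set_option linter.style.haveILetI false
set_option maxHeartbeats 2000000

universe u

open CategoryTheory CategoryTheory.Limits AlgebraicGeometry TopologicalSpace Opposite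
open Groth.Agent.QC (res resO res_res res_smul app_res appₗ)

noncomputable section

namespace Groth.Agent.W7Exist

section PullCalc

variable {T T' X : Scheme.{u}}

/-- Functions pulled back to all of the source. -/
def pullFun (q : T ⟶ X) {W : X.Opens} (hle : (⊤ : T.Opens) ≤ q ⁻¹ᵁ W) (r : Γ(X, W)) : Γ(T, ⊤) :=
  resO T hle (q.app W r)

lemma pullFun_congr {q q' : T ⟶ X} (h : q = q') {W : X.Opens} (hle : (⊤ : T.Opens) ≤ q ⁻¹ᵁ W)
    (hle' : (⊤ : T.Opens) ≤ q' ⁻¹ᵁ W) (r : Γ(X, W)) : pullFun q hle r = pullFun q' hle' r := by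
  subst h; rfl

lemma pullFun_comp (p : T' ⟶ T) (q : T ⟶ X) {W : X.Opens} (hle : (⊤ : T.Opens) ≤ q ⁻¹ᵁ W)
    (hle' : (⊤ : T'.Opens) ≤ (p ≫ q) ⁻¹ᵁ W) (r : Γ(X, W)) :
    pullFun p (W := ⊤) le_top (pullFun q hle r) = pullFun (p ≫ q) hle' r := by
  have h1 : p.app ⊤ (pullFun q hle r) = resO T' (p.preimage_mono hle) (p.app (q ⁻¹ᵁ W) (q.app W r)) :=
    ConcreteCategory.congr_hom (p.naturality (homOfLE hle).op) (q.app W r)
  refine (congrArg (resO T' le_top) h1).trans ?_
  refine (Groth.Agent.QC.resO_resO _ _ _).trans ?_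
  rfl

lemma pullTop_comp (p : T' ⟶ T) (q : T ⟶ X) {W : X.Opens} (hle : (⊤ : T.Opens) ≤ q ⁻¹ᵁ W)
    (hle' : (⊤ : T'.Opens) ≤ (p ≫ q) ⁻¹ᵁ W) (M : X.Modules) (m : Γ(M, W)) :
    ((Scheme.Modules.pullbackComp p q).hom.app M).app ⊤
      (pullTop p (W := ⊤) le_top ((Scheme.Modules.pullback q).obj M) (pullTop q hle M m)) =
      pullTop (p ≫ q) hle' M m := by
  have h1 : OmegaSh.pullSect p ((Scheme.Modules.pullback q).obj M) ⊤ (pullTop q hle M m) =
      res ((Scheme.Modules.pullback p).obj ((Scheme.Modules.pullback q).obj M)) (p.preimage_mono hle)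
        (OmegaSh.pullSect p ((Scheme.Modules.pullback q).obj M) (q ⁻¹ᵁ W) (OmegaSh.pullSect q M W m)) :=
    OmegaSh.pullSect_map p ((Scheme.Modules.pullback q).obj M) hle (OmegaSh.pullSect q M W m)
  rw [pullTop, h1, res_res]
  refine (app_res _ _ _).symm.trans ?_
  exact congrArg (res _ _) (QC.pullbackComp_hom_pullSect p q M W m)

lemma pullTop_congr {q q' : T ⟶ X} (h : q = q') {W : X.Opens} (hle : (⊤ : T.Opens) ≤ q ⁻¹ᵁ W)
    (hle' : (⊤ : T.Opens) ≤ q' ⁻¹ᵁ W) (M : X.Modules) (m : Γ(M, W)) :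
    ((Scheme.Modules.pullbackCongr h).hom.app M).app ⊤ (pullTop q hle M m) = pullTop q' hle' M m := by
  subst h
  simp [Scheme.Modules.pullbackCongr]

lemma bijective_pullSect_comp (f : T' ⟶ T) (g : T ⟶ X) (M : X.Modules) (W : X.Opens)
    (h1 : Function.Bijective (OmegaSh.pullSect g M W))
    (h2 : Function.Bijective (OmegaSh.pullSect f ((Scheme.Modules.pullback g).obj M) (g ⁻¹ᵁ W))) :
    Function.Bijective (OmegaSh.pullSect (f ≫ g) M W) := by
  rw [show (⇑(OmegaSh.pullSect (f ≫ g) M W)) = _ from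
    funext fun m => (QC.pullbackComp_hom_pullSect f g M W m).symm]
  exact (ConcreteCategory.bijective_of_isIso
    (((Scheme.Modules.pullbackComp f g).hom.app M).app (f ⁻¹ᵁ (g ⁻¹ᵁ W)))).comp (h2.comp h1)

end PullCalc

variable {A : Type u} [CommRing A] (I : Ideal A) {X Z : Scheme.{u}}
  [X.Over (Spec (CommRingCat.of A))] [Z.Over (Spec (CommRingCat.of A))] (π : X ⟶ Z)

/-- The comparison map at level `n`. -/
def uu {G : ℕᵒᵖ ⥤ X.Modules} {F : ℕᵒᵖ ⥤ Z.Modules} (e : G ≅ F ⋙ Scheme.Modules.pullback π) (n : ℕ) :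
    F.obj (op n) ⟶ (Scheme.Modules.pushforward π).obj (G.obj (op n)) :=
  (Scheme.Modules.pullbackPushforwardAdjunction π).unit.app (F.obj (op n)) ≫
    (Scheme.Modules.pushforward π).map (e.inv.app (op n))

lemma uu_app {G : ℕᵒᵖ ⥤ X.Modules} {F : ℕᵒᵖ ⥤ Z.Modules} (e : G ≅ F ⋙ Scheme.Modules.pullback π) (n : ℕ)
    (V : Z.Opens) (x : Γ(F.obj (op n), V)) :
    (uu π e n).app V x = (e.inv.app (op n)).app (π ⁻¹ᵁ V) (OmegaSh.pullSect π (F.obj (op n)) V x) := rfl

variable (hπ : π ≫ (Z ↘ Spec (CommRingCat.of A)) = X ↘ Spec (CommRingCat.of A)) [IsProper π] [IsLocallyNoetherian Z]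

section Aux

/-- Isomorphisms over an open pass to base changes. -/
lemma isIso_restrict_baseChange {T P : Scheme.{u}} {π : X ⟶ Z} {c : T ⟶ Z} {g : P ⟶ X} {p : P ⟶ T}
    (hsq : IsPullback g p π c) (U : Z.Opens) [IsIso (π ∣_ U)] (O : T.Opens) (hO : O ≤ c ⁻¹ᵁ U) :
    IsIso (p ∣_ O) := by
  let k : O.toScheme ⟶ U.toScheme := IsOpenImmersion.lift U.ι (O.ι ≫ c) (by
    rintro _ ⟨y, rfl⟩
    rw [Scheme.Opens.range_ι]
    exact hO y.2)
  have h1 : IsPullback ((p ⁻¹ᵁ O).ι ≫ g) (p ∣_ O) π (O.ι ≫ c) :=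
    (isPullback_morphismRestrict p O).flip.paste_horiz hsq
  let k' : (p ⁻¹ᵁ O).toScheme ⟶ (π ⁻¹ᵁ U).toScheme := IsOpenImmersion.lift (π ⁻¹ᵁ U).ι ((p ⁻¹ᵁ O).ι ≫ g) (by
    rintro _ ⟨y, rfl⟩
    rw [Scheme.Opens.range_ι]
    have h2 : π.base (g.base y.1) = c.base (p.base y.1) := congrArg (fun m : P ⟶ Z => m.base y.1) hsq.w
    change π.base (g.base y.1) ∈ (U : Set Z)
    rw [h2]
    exact hO y.2)
  have hk' : k' ≫ (π ⁻¹ᵁ U).ι = (p ⁻¹ᵁ O).ι ≫ g := IsOpenImmersion.lift_fac _ _ _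
  have hk : k ≫ U.ι = O.ι ≫ c := IsOpenImmersion.lift_fac _ _ _
  have h3 : IsPullback k' (p ∣_ O) (π ∣_ U) k := by
    refine IsPullback.of_right (by rw [hk', hk]; exact h1) ?_ (isPullback_morphismRestrict π U).flip
    rw [← cancel_mono U.ι, Category.assoc, morphismRestrict_ι, ← Category.assoc, hk', Category.assoc,
      Category.assoc, hk, hsq.w, ← Category.assoc, ← morphismRestrict_ι, Category.assoc]
  exact MorphismProperty.of_isPullback (P := MorphismProperty.isomorphisms Scheme) h3 ‹_›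

/-- Sections of the direct image on an affine base are finite. -/
lemma finite_push_top (S : Type u) [CommRing S] [IsNoetherianRing S] {Y : Scheme.{u}}
    (p : Y ⟶ Spec (CommRingCat.of S)) [IsProper p] {P : Y.Modules} (hP : Coh.IsCoh P) :
    Module.Finite Γ(Spec (CommRingCat.of S), ⊤) Γ((Scheme.Modules.pushforward p).obj P, ⊤) := by
  letI : Y.Over (Spec (CommRingCat.of S)) := ⟨p⟩
  haveI : IsProper (Y ↘ Spec (CommRingCat.of S)) := ‹IsProper p›
  haveI := CohFinite.finite_proper S Y P hP 0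
  obtain ⟨t, ht⟩ := Module.Finite.fg_top (R := S) (M := Coh.HH Y P 0)
  classical
  let e0 : Γ(P, ⊤) ≃+ Coh.HH Y P 0 := W7Cech.gsH0 S P
  refine ⟨⟨t.image (fun x => (show Γ((Scheme.Modules.pushforward p).obj P, ⊤) from e0.symm x)),
    eq_top_iff.2 fun x _ => ?_⟩⟩
  obtain ⟨y, rfl⟩ := e0.symm.surjective (show Γ(P, ⊤) from x)
  have hy : y ∈ Submodule.span S (t : Set (Coh.HH Y P 0)) := by rw [ht]; trivial
  refine Submodule.span_induction (p := fun y _ => (show Γ((Scheme.Modules.pushforward p).obj P, ⊤) from e0.symm y) ∈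
    Submodule.span Γ(Spec (CommRingCat.of S), ⊤)
      (↑(t.image fun x => (show Γ((Scheme.Modules.pushforward p).obj P, ⊤) from e0.symm x)) :
        Set Γ((Scheme.Modules.pushforward p).obj P, ⊤))) (fun z hz => Submodule.subset_span ?_) ?_ ?_ ?_ hy
  · exact Finset.mem_coe.2 (Finset.mem_image_of_mem _ hz)
  · rw [map_zero]; exact zero_mem _
  · intro a b _ _ ha hb; rw [map_add]; exact add_mem ha hb
  · intro a y _ hy
    have h1 : e0.symm (a • y) = (show Γ(Y, ⊤) from Coh.toGlobal (Y ↘ Spec (CommRingCat.of S)) a) • e0.symm y := by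
      apply e0.injective
      rw [AddEquiv.apply_symm_apply]
      exact ((W7Cech.gsH0_smul S P a (e0.symm y)).trans (congrArg (a • ·) (e0.apply_symm_apply y))).symm
    rw [h1]
    exact Submodule.smul_mem _ ((Scheme.ΓSpecIso (CommRingCat.of S)).inv.hom a) hy

variable {M : X.Modules}

/-- Killed sections on an affine open do not change under completion. -/
lemma bijective_pullTop_spec {V : Z.Opens} (hV : IsAffineOpen V) [IsNoetherianRing Γ(Z, V)]
    (hle : (⊤ : (Spec (CommRingCat.of (AdicCompletion (I.map (W7Cech.secRing A V)) Γ(Z, V)))).Opens) ≤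
      (Spec.map (CommRingCat.ofHom (algebraMap Γ(Z, V) (AdicCompletion (I.map (W7Cech.secRing A V)) Γ(Z, V)))) ≫
        hV.fromSpec) ⁻¹ᵁ V)
    (n : ℕ) {N : Z.Modules} (hN : Coh.IsQCoh N) (hk : Formal.KilledBy (I ^ n) N) :
    Function.Bijective (pullTop (Spec.map (CommRingCat.ofHom (algebraMap Γ(Z, V)
      (AdicCompletion (I.map (W7Cech.secRing A V)) Γ(Z, V)))) ≫ hV.fromSpec) hle N) := by
  let R := Γ(Z, V)
  let J : Ideal R := I.map (W7Cech.secRing A V)
  let S := AdicCompletion J R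
  letI : (Spec (CommRingCat.of S)).Over (Spec (CommRingCat.of S)) := ⟨𝟙 _⟩
  letI : (Spec (CommRingCat.of R)).Over (Spec (CommRingCat.of R)) := ⟨𝟙 _⟩
  haveI : IsIso (Spec (CommRingCat.of S) ↘ Spec (CommRingCat.of S)) := inferInstanceAs (IsIso (𝟙 _))
  haveI : IsIso (Spec (CommRingCat.of R) ↘ Spec (CommRingCat.of R)) := inferInstanceAs (IsIso (𝟙 _))
  let c₁ : Spec (CommRingCat.of S) ⟶ Spec (CommRingCat.of R) := Spec.map (CommRingCat.ofHom (algebraMap R S))
  have hsq₀ : IsPullback c₁ (Spec (CommRingCat.of S) ↘ Spec (CommRingCat.of S))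
      (Spec (CommRingCat.of R) ↘ Spec (CommRingCat.of R)) (Spec.map (CommRingCat.ofHom (algebraMap R S))) :=
    IsPullback.of_vert_isIso ⟨(Category.comp_id _).trans (Category.id_comp _).symm⟩
  have hq : hV.fromSpec ≫ (Z ↘ Spec (CommRingCat.of A)) =
      (Spec (CommRingCat.of R) ↘ Spec (CommRingCat.of R)) ≫ Spec.map (CommRingCat.ofHom (W7Cech.secRing A V)) :=
    (fromSpec_over hV).trans (Category.id_comp _).symm
  refine (bijective_res_top _ hle _).comp (bijective_pullSect_comp c₁ hV.fromSpec _ V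
    (bijective_pullSect_open hV.fromSpec _ V (fun z hz => ?_)) ?_)
  · obtain ⟨w, hw⟩ : z ∈ Set.range hV.fromSpec.base := by rw [hV.range_fromSpec]; exact hz
    exact ⟨w, show hV.fromSpec.base w ∈ V by rw [hw]; exact hz, hw⟩
  · exact bijective_pullSect J hsq₀ n (QC.isQCoh_pullback hV.fromSpec hN)
      (by rw [← Ideal.map_pow]; exact killedBy_pull hq hk) _

include hπ in
/-- Killed sections over the preimage of an affine open do not change under completion. -/
lemma bijective_pullTop_fibre {V : Z.Opens} (hV : IsAffineOpen V) [IsNoetherianRing Γ(Z, V)] {P : Scheme.{u}}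
    {g : P ⟶ X} {p : P ⟶ Spec (CommRingCat.of (AdicCompletion (I.map (W7Cech.secRing A V)) Γ(Z, V)))}
    (hsq : IsPullback g p π (Spec.map (CommRingCat.ofHom (algebraMap Γ(Z, V)
      (AdicCompletion (I.map (W7Cech.secRing A V)) Γ(Z, V)))) ≫ hV.fromSpec))
    (hgπ : (⊤ : P.Opens) ≤ g ⁻¹ᵁ (π ⁻¹ᵁ V))
    (n : ℕ) {N : X.Modules} (hN : Coh.IsQCoh N) (hk : Formal.KilledBy (I ^ n) N) :
    Function.Bijective (pullTop g hgπ N) := by
  let R := Γ(Z, V)
  let J : Ideal R := I.map (W7Cech.secRing A V)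
  let S := AdicCompletion J R
  let Y := (π ⁻¹ᵁ V).toScheme
  letI : Y.Over (Spec (CommRingCat.of R)) := ⟨(π ∣_ V) ≫ hV.isoSpec.hom⟩
  letI : P.Over (Spec (CommRingCat.of S)) := ⟨p⟩
  have hι : (π ⁻¹ᵁ V).ι ≫ (X ↘ Spec (CommRingCat.of A)) =
      (Y ↘ Spec (CommRingCat.of R)) ≫ Spec.map (CommRingCat.ofHom (W7Cech.secRing A V)) := by
    change _ = ((π ∣_ V) ≫ hV.isoSpec.hom) ≫ _
    rw [← fromSpec_over hV, Category.assoc, ← IsAffineOpen.isoSpec_inv_ι, Category.assoc, Iso.hom_inv_id_assoc,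
      ← Category.assoc, morphismRestrict_ι, Category.assoc, hπ]
  let g' : P ⟶ Y := IsOpenImmersion.lift (π ⁻¹ᵁ V).ι g (by
    rintro _ ⟨y, rfl⟩
    rw [Scheme.Opens.range_ι]
    exact hgπ (show y ∈ (⊤ : P.Opens) from trivial))
  have hg' : g' ≫ (π ⁻¹ᵁ V).ι = g := IsOpenImmersion.lift_fac _ _ _
  have h0 : IsPullback (π ⁻¹ᵁ V).ι (Y ↘ Spec (CommRingCat.of R)) π hV.fromSpec := by
    refine ((isPullback_morphismRestrict π V).flip).of_iso (Iso.refl _) (Iso.refl _) hV.isoSpec (Iso.refl _)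
      ?_ ?_ ?_ ?_
    · simp
    · exact (Category.id_comp _).symm
    · simp
    · simp
  have hsqY : IsPullback g' (P ↘ Spec (CommRingCat.of S)) (Y ↘ Spec (CommRingCat.of R))
      (Spec.map (CommRingCat.ofHom (algebraMap R S))) := by
    refine IsPullback.of_right (by rw [hg']; exact hsq) ?_ h0
    change g' ≫ ((π ∣_ V) ≫ hV.isoSpec.hom) = p ≫ Spec.map (CommRingCat.ofHom (algebraMap R S))
    rw [← cancel_mono hV.fromSpec]
    simp only [Category.assoc]
    rw [← IsAffineOpen.isoSpec_inv_ι, Iso.hom_inv_id_assoc, morphismRestrict_ι, ← Category.assoc, hg',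
      IsAffineOpen.isoSpec_inv_ι]
    exact hsq.w
  have h1 : ∀ (q : P ⟶ X) (h : (⊤ : P.Opens) ≤ q ⁻¹ᵁ (π ⁻¹ᵁ V)), q = g →
      Function.Bijective (pullTop q h N) → Function.Bijective (pullTop g hgπ N) := fun q h hq => by
    subst hq; exact id
  have hle' : (⊤ : P.Opens) ≤ (g' ≫ (π ⁻¹ᵁ V).ι) ⁻¹ᵁ (π ⁻¹ᵁ V) := fun y _ => (g'.base y).2
  refine h1 (g' ≫ (π ⁻¹ᵁ V).ι) hle' hg' ?_
  have hb1 : Function.Bijective (OmegaSh.pullSect (π ⁻¹ᵁ V).ι N (π ⁻¹ᵁ V)) :=
    bijective_pullSect_open (π ⁻¹ᵁ V).ι N (π ⁻¹ᵁ V) fun x hx => ⟨⟨x, hx⟩, hx, rfl⟩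
  have hk' : Formal.KilledBy (J ^ n) ((Scheme.Modules.pullback (π ⁻¹ᵁ V).ι).obj N) := by
    rw [← Ideal.map_pow]; exact killedBy_pull hι hk
  have hb2 : Function.Bijective (OmegaSh.pullSect g' ((Scheme.Modules.pullback (π ⁻¹ᵁ V).ι).obj N)
      ((π ⁻¹ᵁ V).ι ⁻¹ᵁ (π ⁻¹ᵁ V))) :=
    bijective_pullSect J hsqY n (QC.isQCoh_pullback (π ⁻¹ᵁ V).ι hN) hk' _
  exact (bijective_res_top (g' ≫ (π ⁻¹ᵁ V).ι) hle' _).comp
    (bijective_pullSect_comp g' (π ⁻¹ᵁ V).ι N (π ⁻¹ᵁ V) hb1 hb2)

end Aux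

include hπ in
/-- Bounds for the comparison on compatible families over an affine open. -/
theorem exists_family_bound {M : X.Modules} (hM : Coh.IsCoh M) {F : ℕᵒᵖ ⥤ Z.Modules}
    (hF : Formal.IsCohFormal I F) (e : Formal.completion I M ≅ F ⋙ Scheme.Modules.pullback π) {V : Z.Opens}
    (hV : IsAffineOpen V) (f : Γ(Z, V)) (U : Z.Opens) [IsIso (π ∣_ U)] (hf : Z.basicOpen f ≤ U) :
    ∃ k : ℕ,
      (∀ d : ∀ n : ℕ, Γ((Scheme.Modules.pushforward π).obj ((Formal.completion I M).obj (op n)), V),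
        (∀ n, ((Scheme.Modules.pushforward π).map (tn (Formal.completion I M) n)).app V (d (n + 1)) = d n) →
          ∃ l : ∀ n, Γ(F.obj (op n), V), (∀ n, (tn F n).app V (l (n + 1)) = l n) ∧
            ∀ n, (uu π e n).app V (l n) = f ^ k • d n) ∧
      ∀ l : ∀ n, Γ(F.obj (op n), V), (∀ n, (tn F n).app V (l (n + 1)) = l n) →
        (∀ n, (uu π e n).app V (l n) = 0) → ∀ n, f ^ k • l n = 0 := by
  -- the completed base
  let R := Γ(Z, V)
  haveI : IsNoetherianRing R := IsLocallyNoetherian.component_noetherian ⟨V, hV⟩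
  let φ : A →+* R := W7Cech.secRing A V
  let J : Ideal R := I.map φ
  have hJ : J.FG := IsNoetherian.noetherian J
  let S := AdicCompletion J R
  haveI : IsNoetherianRing S := ResExt.isNoetherianRing_adicCompletion J hJ
  let alg : R →+* S := algebraMap R S
  let φS : A →+* S := alg.comp φ
  let IS : Ideal S := I.map φS
  haveI : IsAdicComplete IS S := by
    rw [show IS = J.map (algebraMap R S) from (Ideal.map_map φ alg).symm]
    exact (IsAdicComplete.map_algebraMap_iff _ _).2 (AdicCompletion.isAdicComplete hJ)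
  let T₀ : Scheme.{u} := Spec (CommRingCat.of S)
  letI : T₀.Over (Spec (CommRingCat.of S)) := ⟨𝟙 _⟩
  haveI : IsProper (T₀ ↘ Spec (CommRingCat.of S)) := inferInstanceAs (IsProper (𝟙 T₀))
  haveI : IsLocallyNoetherian T₀ := inferInstance
  let c₁ : T₀ ⟶ Spec (CommRingCat.of R) := Spec.map (CommRingCat.ofHom alg)
  let c : T₀ ⟶ Z := c₁ ≫ hV.fromSpec
  have hc : c ≫ (Z ↘ Spec (CommRingCat.of A)) =
      (T₀ ↘ Spec (CommRingCat.of S)) ≫ Spec.map (CommRingCat.ofHom φS) := by
    change (c₁ ≫ hV.fromSpec) ≫ _ = 𝟙 T₀ ≫ _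
    rw [Category.assoc, fromSpec_over hV, Category.id_comp, ← Spec.map_comp]
    rfl
  have hleV : (⊤ : T₀.Opens) ≤ c ⁻¹ᵁ V := fun t _ => by
    change hV.fromSpec.base (c₁.base t) ∈ (V : Set Z)
    rw [← hV.range_fromSpec]
    exact ⟨_, rfl⟩
  -- algebraization on the completed base
  have hFc := isCohFormal_pull hc I hF
  obtain ⟨L₀, hL₀, ⟨eL⟩⟩ := exists_algebraization S IS (X := T₀)
    (TMul.isAmple_of_isQuasiAffine (L := Coh.structureModule T₀) TMul.isInvertible_structureModule) _ hFc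
  -- the fibre product
  let Ŷ : Scheme.{u} := pullback π c
  let g : Ŷ ⟶ X := pullback.fst π c
  let p : Ŷ ⟶ T₀ := pullback.snd π c
  have hsq : IsPullback g p π c := IsPullback.of_hasPullback π c
  haveI : IsProper p := MorphismProperty.pullback_snd _ _ ‹_›
  letI : Ŷ.Over (Spec (CommRingCat.of S)) := ⟨p⟩
  haveI : IsProper (Ŷ ↘ Spec (CommRingCat.of S)) := ‹IsProper p›
  haveI : IsLocallyNoetherian Ŷ := LocallyOfFiniteType.isLocallyNoetherian (Ŷ ↘ Spec (CommRingCat.of S))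
  have hp : p ≫ (T₀ ↘ Spec (CommRingCat.of S)) =
      (Ŷ ↘ Spec (CommRingCat.of S)) ≫ Spec.map (CommRingCat.ofHom (RingHom.id S)) := by
    rw [show CommRingCat.ofHom (RingHom.id S) = 𝟙 (CommRingCat.of S) from rfl, Spec.map_id, Category.comp_id]
    exact Category.comp_id p
  let P : Ŷ.Modules := (Scheme.Modules.pullback p).obj L₀
  have hP : Coh.IsCoh P := QC.isCoh_pullback p hL₀
  obtain ⟨ψ, hψ⟩ : ∃ ψ : Formal.completion IS P ≅ Formal.completion IS L₀ ⋙ Scheme.Modules.pullback p,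
      ∀ n : ℕ, Formal.modPowπ IS (n + 1) P ≫ ψ.hom.app (op n) =
        (Scheme.Modules.pullback p).map (Formal.modPowπ IS (n + 1) L₀) := by
    have h := exists_pullCompletion hp IS L₀
    rw [Ideal.map_id] at h
    exact h
  -- the comparison of the two pullbacks
  let χ : Scheme.Modules.pullback c ⋙ Scheme.Modules.pullback p ≅
      Scheme.Modules.pullback π ⋙ Scheme.Modules.pullback g :=
    Scheme.Modules.pullbackComp p c ≪≫ Scheme.Modules.pullbackCongr pullback.condition.symm ≪≫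
      (Scheme.Modules.pullbackComp g π).symm
  have hgπ : (⊤ : Ŷ.Opens) ≤ g ⁻¹ᵁ (π ⁻¹ᵁ V) := fun y _ => by
    have h1 : π.base (g.base y) = c.base (p.base y) := congrArg (fun k : Ŷ ⟶ Z => k.base y) pullback.condition
    change π.base (g.base y) ∈ (V : Set Z)
    rw [h1]
    exact hleV (show p.base y ∈ (⊤ : T₀.Opens) from trivial)
  have hπV : (⊤ : X.Opens) ≥ π ⁻¹ᵁ V := le_top
  have hχ : ∀ (N : Z.Modules) (x : Γ(N, V)), (χ.hom.app N).app ⊤
      (pullTop p (W := ⊤) le_top ((Scheme.Modules.pullback c).obj N) (pullTop c hleV N x)) =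
      pullTop g hgπ ((Scheme.Modules.pullback π).obj N) (OmegaSh.pullSect π N V x) := by
    intro N x
    have h3 : ((Scheme.Modules.pullbackComp g π).hom.app N).app ⊤
        (pullTop g hgπ ((Scheme.Modules.pullback π).obj N) (OmegaSh.pullSect π N V x)) =
        pullTop (g ≫ π) hgπ N x := by
      rw [pullTop]
      refine (app_res _ _ _).symm.trans ?_
      exact congrArg (res _ _) (QC.pullbackComp_hom_pullSect g π N V x)
    refine (ConcreteCategory.bijective_of_isIso (((Scheme.Modules.pullbackComp g π).hom.app N).app ⊤)).1 ?_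
    rw [h3]
    have h4 := congr(($((Scheme.Modules.pullbackComp g π).inv_hom_id_app N)).app (⊤ : Ŷ.Opens)
      (((Scheme.Modules.pullbackCongr (pullback.condition (f := π) (g := c)).symm).hom.app N).app ⊤
        (((Scheme.Modules.pullbackComp p c).hom.app N).app ⊤
          (pullTop p (W := ⊤) le_top ((Scheme.Modules.pullback c).obj N) (pullTop c hleV N x)))))
    refine h4.trans ?_
    change ((Scheme.Modules.pullbackCongr (pullback.condition (f := π) (g := c)).symm).hom.app N).app ⊤ _ = _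
    rw [pullTop_comp p c hleV (fun y _ => hleV (show p.base y ∈ (⊤ : T₀.Opens) from trivial)), pullTop_congr]
  have hbc : ∀ n, Function.Bijective (pullTop c hleV (F.obj (op n))) := fun n =>
    bijective_pullTop_spec I hV hleV (n + 1) (hF.1 n).1 (hF.2.1 n)
  have hbg : ∀ n, Function.Bijective (pullTop g hgπ ((Formal.completion I M).obj (op n))) := fun n =>
    bijective_pullTop_fibre I π hπ hV hsq hgπ (n + 1) (W7Rees.isQCoh_modQuot M _ hM.1)
      (fun a ha => π_smulMod I (n + 1) M a ha)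
  -- the functions
  let fT : Γ(T₀, ⊤) := pullFun c hleV f
  let fY : Γ(Ŷ, ⊤) := pullFun p (W := ⊤) le_top fT
  have hfY : pullFun g hgπ (π.app V f) = fY := by
    have h2 : pullFun g hgπ (π.app V f) = pullFun (g ≫ π) hgπ f := rfl
    rw [h2]
    refine Eq.trans ?_ (pullFun_comp p c hleV (fun y _ => hleV (show p.base y ∈ (⊤ : T₀.Opens) from trivial)) f).symm
    exact pullFun_congr pullback.condition _ _ f
  -- the bound on the completed base
  have hO : T₀.basicOpen fT ≤ c ⁻¹ᵁ Z.basicOpen f := by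
    rw [Scheme.preimage_basicOpen]
    refine (Scheme.basicOpen_res _ _ _).le.trans inf_le_right
  haveI : IsIso (p ∣_ T₀.basicOpen fT) :=
    isIso_restrict_baseChange hsq U _ (hO.trans (c.preimage_mono hf))
  let η := (Scheme.Modules.pullbackPushforwardAdjunction p).unit.app L₀
  haveI : P.IsQuasicoherent := hP.1
  have hPq : Coh.IsQCoh ((Scheme.Modules.pushforward p).obj P) := QC.isQCoh_pushforward p
  have hfinP : Module.Finite Γ(T₀, ⊤) Γ((Scheme.Modules.pushforward p).obj P, ⊤) := finite_push_top S p hP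
  haveI : IsNoetherianRing Γ(T₀, ⊤) := IsLocallyNoetherian.component_noetherian ⟨⊤, isAffineOpen_top T₀⟩
  obtain ⟨k, hk1, hk2⟩ := exists_pow_bound (isAffineOpen_top T₀) hL₀.1 hPq η fT
    (bijective_pullSect_of_isIso p (T₀.basicOpen fT) L₀)
    ((QC.isCoh_iff_finite_sections.1 hL₀).2 ⟨⊤, isAffineOpen_top T₀⟩) hfinP
  -- the identification of the levels
  let Φ : Formal.completion IS P ≅ Formal.completion I M ⋙ Scheme.Modules.pullback g :=
    ψ ≪≫ Functor.isoWhiskerRight eL (Scheme.Modules.pullback p) ≪≫ Functor.associator _ _ _ ≪≫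
      Functor.isoWhiskerLeft F χ ≪≫ (Functor.associator _ _ _).symm ≪≫
      Functor.isoWhiskerRight e.symm (Scheme.Modules.pullback g)
  have hΦ : ∀ n (x : Γ(F.obj (op n), V)),
      (Φ.inv.app (op n)).app ⊤ (pullTop g hgπ _ ((uu π e n).app V x)) =
        (ψ.inv.app (op n)).app ⊤ (pullTop p (W := ⊤) le_top _
          ((eL.inv.app (op n)).app ⊤ (pullTop c hleV _ x))) := by
    intro n x
    refine (ConcreteCategory.bijective_of_isIso ((Φ.hom.app (op n)).app ⊤)).1 ?_
    refine (congr(($(Φ.inv_hom_id_app (op n))).app (⊤ : Ŷ.Opens)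
      (pullTop g hgπ _ ((uu π e n).app V x)))).trans ?_
    refine Eq.symm ?_
    change (((Scheme.Modules.pullback g).map (e.inv.app (op n))).app ⊤) ((χ.hom.app (F.obj (op n))).app ⊤
      (((Scheme.Modules.pullback p).map (eL.hom.app (op n))).app ⊤ ((ψ.hom.app (op n)).app ⊤
        ((ψ.inv.app (op n)).app ⊤ (pullTop p (W := ⊤) le_top _
          ((eL.inv.app (op n)).app ⊤ (pullTop c hleV _ x))))))) = _
    rw [show (ψ.hom.app (op n)).app ⊤ ((ψ.inv.app (op n)).app ⊤ (pullTop p (W := ⊤) le_top _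
        ((eL.inv.app (op n)).app ⊤ (pullTop c hleV _ x)))) = _ from congr(($(ψ.inv_hom_id_app (op n))).app (⊤ : Ŷ.Opens) _)]
    change (((Scheme.Modules.pullback g).map (e.inv.app (op n))).app ⊤) ((χ.hom.app (F.obj (op n))).app ⊤
      (((Scheme.Modules.pullback p).map (eL.hom.app (op n))).app ⊤ (pullTop p (W := ⊤) le_top _
          ((eL.inv.app (op n)).app ⊤ (pullTop c hleV _ x))))) = _
    rw [pullTop_natural, show (eL.hom.app (op n)).app ⊤ ((eL.inv.app (op n)).app ⊤ (pullTop c hleV _ x)) = _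
      from congr(($(eL.inv_hom_id_app (op n))).app (⊤ : T₀.Opens) _)]
    refine (congrArg (((Scheme.Modules.pullback g).map (e.inv.app (op n))).app (⊤ : Ŷ.Opens)) (hχ _ x)).trans ?_
    exact pullTop_natural g hgπ (e.inv.app (op n)) _
  let T : ∀ n, Γ(F.obj (op n), V) → Γ((Formal.completion IS L₀).obj (op n), ⊤) := fun n x =>
    (eL.inv.app (op n)).app ⊤ (pullTop c hleV _ x)
  have hT : ∀ n, Function.Bijective (T n) := fun n =>
    (ConcreteCategory.bijective_of_isIso ((eL.inv.app (op n)).app (⊤ : T₀.Opens))).comp (hbc n)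
  have hTn : ∀ n x, (tn (Formal.completion IS L₀) n).app ⊤ (T (n + 1) x) = T n ((tn F n).app V x) := fun n x => by
    refine (congr(($(eL.inv.naturality (homOfLE (Nat.le_succ n)).op)).app ⊤ (pullTop c hleV _ x))).symm.trans ?_
    exact congrArg ((eL.inv.app (op n)).app (⊤ : T₀.Opens)) (pullTop_natural c hleV (tn F n) x)
  have hTs : ∀ n x, T n (f • x) = fT • T n x := fun n x => by
    change (eL.inv.app (op n)).app ⊤ (pullTop c hleV _ (f • x)) = _
    rw [pullTop_smul, Scheme.Modules.Hom.app_smul]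
    rfl
  have hTsk : ∀ (m n : ℕ) x, T n (f ^ m • x) = fT ^ m • T n x := fun m n x => by
    induction m generalizing x with
    | zero => rw [pow_zero, pow_zero, one_smul, one_smul]
    | succ m ih => rw [pow_succ, pow_succ, mul_smul, mul_smul, ih, hTs]
  have hηπ : ∀ n (x : Γ(L₀, ⊤)), (Formal.modPowπ IS (n + 1) P).app ⊤ (η.app ⊤ x) =
      (ψ.inv.app (op n)).app ⊤ (pullTop p (W := ⊤) le_top _ ((Formal.modPowπ IS (n + 1) L₀).app ⊤ x)) := by
    intro n x
    have h1 : Formal.modPowπ IS (n + 1) P =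
        (Scheme.Modules.pullback p).map (Formal.modPowπ IS (n + 1) L₀) ≫ ψ.inv.app (op n) := by
      rw [← hψ, Category.assoc, Iso.hom_inv_id_app]
      exact (Category.comp_id _).symm
    refine (congr(($h1).app ⊤ (η.app ⊤ x))).trans ?_
    refine congrArg ((ψ.inv.app (op n)).app (⊤ : Ŷ.Opens)) ?_
    refine Eq.trans ?_ (pullTop_natural p le_top (Formal.modPowπ IS (n + 1) L₀) x)
    refine congrArg (((Scheme.Modules.pullback p).map (Formal.modPowπ IS (n + 1) L₀)).app (⊤ : Ŷ.Opens)) ?_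
    exact (Groth.Agent.QC.res_self P (le_refl _) (OmegaSh.pullSect p L₀ ⊤ x)).symm
  have hW : ∀ n, Function.Bijective fun d : Γ((Scheme.Modules.pushforward π).obj ((Formal.completion I M).obj (op n)), V) =>
      (Φ.inv.app (op n)).app (⊤ : Ŷ.Opens) (pullTop g hgπ _ d) := fun n =>
    (ConcreteCategory.bijective_of_isIso ((Φ.inv.app (op n)).app (⊤ : Ŷ.Opens))).comp (hbg n)
  have hWs : ∀ (m n : ℕ) (d : Γ((Scheme.Modules.pushforward π).obj ((Formal.completion I M).obj (op n)), V)),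
      (Φ.inv.app (op n)).app (⊤ : Ŷ.Opens) (pullTop g hgπ _ (f ^ m • d)) =
        fY ^ m • (Φ.inv.app (op n)).app (⊤ : Ŷ.Opens) (pullTop g hgπ _ d) := by
    intro m n d
    have h1 : pullTop g hgπ ((Formal.completion I M).obj (op n)) (f ^ m • d) =
        pullFun g hgπ (π.app V (f ^ m)) • pullTop g hgπ ((Formal.completion I M).obj (op n)) d :=
      pullTop_smul g hgπ _ (π.app V (f ^ m)) d
    rw [h1, Scheme.Modules.Hom.app_smul, ← hfY]
    simp only [pullFun, map_pow]
  obtain ⟨hFF, hFF0⟩ := families_bijective IS hP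
  refine ⟨k, fun d hd => ?_, fun l hl hl0 n => ?_⟩
  · obtain ⟨s, hs⟩ := hFF (fun n => (Φ.inv.app (op n)).app ⊤ (pullTop g hgπ _ (d n))) fun n => by
      refine (congr(($(Φ.inv.naturality (homOfLE (Nat.le_succ n)).op)).app ⊤ (pullTop g hgπ _ (d (n + 1))))).symm.trans ?_
      refine congrArg ((Φ.inv.app (op n)).app (⊤ : Ŷ.Opens)) ?_
      refine (pullTop_natural g hgπ (tn (Formal.completion I M) n) (d (n + 1))).trans ?_
      exact congrArg (pullTop g hgπ _) (hd n)
    obtain ⟨x, hx⟩ := hk1 (show Γ((Scheme.Modules.pushforward p).obj P, ⊤) from s)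
    choose l hl using fun n => (hT n).2 ((Formal.modPowπ IS (n + 1) L₀).app ⊤ x)
    refine ⟨l, fun n => (hT n).1 ?_, fun n => (hW n).1 ?_⟩
    · rw [← hTn, hl, hl]
      exact congr(($(π_succ IS L₀ n)).app ⊤ x)
    · refine (hΦ n (l n)).trans ?_
      change (ψ.inv.app (op n)).app ⊤ (pullTop p (W := ⊤) le_top _ (T n (l n))) = _
      beta_reduce
      rw [hl, ← hηπ, hWs]
      refine (congrArg ((Formal.modPowπ IS (n + 1) P).app (⊤ : Ŷ.Opens)) hx).trans ?_
      refine (Scheme.Modules.Hom.app_smul (Formal.modPowπ IS (n + 1) P) (p.app ⊤ (fT ^ k))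
        (show Γ(P, ⊤) from s)).trans ?_
      refine congrArg₂ (fun (a : Γ(Ŷ, ⊤)) (b : Γ((Formal.completion IS P).obj (op n), ⊤)) => a • b) ?_ (hs n)
      exact (map_pow (p.app ⊤).hom fT k).trans
        (congrArg (fun a : Γ(Ŷ, ⊤) => a ^ k) (Groth.Agent.QC.resO_self le_rfl _).symm)
  · obtain ⟨hFFL, -⟩ := families_bijective IS (P := L₀) hL₀
    obtain ⟨x, hx⟩ := hFFL (fun n => T n (l n)) fun n => (hTn n _).trans (congrArg (T n) (hl n))
    have hx0 : η.app ⊤ x = 0 := hFF0 _ fun n => by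
      rw [hηπ, hx]
      refine (hΦ n (l n)).symm.trans ?_
      rw [hl0, pullTop_zero, map_zero]
    refine (hT n).1 ?_
    rw [hTsk, ← hx, ← Scheme.Modules.Hom.app_smul, hk2 x hx0, map_zero]
    change _ = (eL.inv.app (op n)).app ⊤ (pullTop c hleV _ 0)
    rw [pullTop_zero, map_zero]

end Groth.Agent.W7Exist
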