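import Groth.Agent.W7Exist.Supp
import Groth.Agent.W7Exist.Pull
import Groth.Agent.W7Rees.Push

/-!
Direct image along an open immersion of a formal module with closed support.
-/

set_option autoImplicit false
set_option backward.isDefEq.respectTransparency false
set_option backward.isDefEq.respectTransparency.types false
set_option linter.style.haveILetI false
set_option maxHeartbeats 1000000

universe u

open CategoryTheory CategoryTheory.Limits AlgebraicGeometry TopologicalSpace Opposite
open Groth.Agent.QC (res resO res_res res_smul app_res appₗ)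

noncomputable section

namespace Groth.Agent.W7Exist

variable {X Y : Scheme.{u}} (o : X ⟶ Y) [IsOpenImmersion o]

/-- Direct image of a coherent module whose support stays closed. -/
lemma isCoh_push_of_support {N : X.Modules} (hN : Coh.IsCoh N)
    (hc : IsClosed (o.base '' CohB1.support N)) :
    Coh.IsCoh ((Scheme.Modules.pushforward o).obj N) ∧
      CohB1.support ((Scheme.Modules.pushforward o).obj N) ⊆ o.base '' CohB1.support N := by
  let K := ClSubLib.annIdeal N hN.1 hN.2
  obtain ⟨H, hH, ⟨ω⟩⟩ := ClSubLib.exists_pushforward_iso K.subschemeι N hN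
    (by rw [K.ker_subschemeι]; exact ClSubLib.killedBy_annIdeal N hN.1 hN.2)
  have hr : Set.range (K.subschemeι ≫ o) = o.base '' CohB1.support N := by
    rw [← ClSubLib.range_annIdeal N hN.1 hN.2]
    exact Set.range_comp o.base K.subschemeι.base
  haveI : IsClosedImmersion (K.subschemeι ≫ o) := .of_isPreimmersion _ (by rw [hr]; exact hc)
  haveI : H.IsQuasicoherent := hH.1
  let e : (Scheme.Modules.pushforward (K.subschemeι ≫ o)).obj H ≅ (Scheme.Modules.pushforward o).obj N :=
    ((Scheme.Modules.pushforwardComp K.subschemeι o).app H).symm ≪≫ (Scheme.Modules.pushforward o).mapIso ω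
  refine ⟨⟨QC.isQCoh_of_iso e (QC.isCoh_pushforward_of_isFinite _ hH.2).1,
    QC.isFT_of_epi e.hom (QC.isCoh_pushforward_of_isFinite _ hH.2).2⟩, ?_⟩
  rw [← ClSubLib.support_congr e, ← hr]
  exact ClSubLib.support_pushforward_subset _ _

variable {A : Type u} [CommRing A] [X.Over (Spec (CommRingCat.of A))] [Y.Over (Spec (CommRingCat.of A))]
  (I : Ideal A) (ho : o ≫ (Y ↘ Spec (CommRingCat.of A)) = X ↘ Spec (CommRingCat.of A))

include ho in
/-- Direct image of a coherent formal module with closed support. -/
theorem exists_push_open [IsLocallyNoetherian X] {G : ℕᵒᵖ ⥤ X.Modules} (hG : Formal.IsCohFormal I G)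
    (hZ : IsClosed (o.base '' CohB1.support (G.obj (op 0)))) :
    Formal.IsCohFormal I (G ⋙ Scheme.Modules.pushforward o) ∧
      (∀ n, CohB1.support ((Scheme.Modules.pushforward o).obj (G.obj (op n))) ⊆
        o.base '' CohB1.support (G.obj (op 0))) ∧
      Nonempty ((G ⋙ Scheme.Modules.pushforward o) ⋙ Scheme.Modules.pullback o ≅ G) := by
  let P := Scheme.Modules.pushforward o
  let R := Scheme.Modules.restrictFunctor o
  let adj := Scheme.Modules.restrictAdjunction o
  have hcl : ∀ n, IsClosed (o.base '' CohB1.support (G.obj (op n))) := fun n => by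
    obtain ⟨C, hC, hCe⟩ := o.isOpenEmbedding.isInducing.isClosed_iff.1 (QC.isClosed_support (hG.1 n).2)
    have h1 : o.base '' CohB1.support (G.obj (op n)) = C ∩ o.base '' CohB1.support (G.obj (op 0)) := by
      ext y
      constructor
      · rintro ⟨x, hx, rfl⟩
        exact ⟨(hCe ▸ hx : x ∈ o.base ⁻¹' C), x, support_subset_zero hG n hx, rfl⟩
      · rintro ⟨hy, x, -, rfl⟩
        exact ⟨x, hCe ▸ (show x ∈ o.base ⁻¹' C from hy), rfl⟩
    rw [h1]
    exact hC.inter hZ
  have hs : ∀ n, CohB1.support (P.obj (G.obj (op n))) ⊆ o.base '' CohB1.support (G.obj (op 0)) := fun n =>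
    (isCoh_push_of_support o (hG.1 n) (hcl n)).2.trans (Set.image_mono (support_subset_zero hG n))
  have hc : ∀ n, Coh.IsCoh (P.obj (G.obj (op n))) := fun n => (isCoh_push_of_support o (hG.1 n) (hcl n)).1
  have hu : ∀ n (Q : Y.Modules) (z : P.obj (G.obj (op n)) ⟶ Q), CohB1.IsFT Q → Epi z → IsIso (adj.unit.app Q) :=
    fun n Q z hQ hz => ParaFLib.isIso_unit_app o (secBij_of_support _ Q (QC.isClosed_support hQ)
      fun x hx => Set.image_subset_range _ _ (hs n (support_of_epi z hx)))
  have hη : ∀ N : X.Modules, adj.unit.app (P.obj N) = P.map (inv (adj.counit.app N)) := fun N => by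
    rw [Functor.map_inv, ← cancel_mono (P.map (adj.counit.app N)), IsIso.inv_hom_id]
    exact adj.right_triangle_components N
  have hk : ∀ n, Formal.KilledBy (I ^ (n + 1)) (P.obj (G.obj (op n))) := fun n a ha => by
    rw [← W7Rees.smulMod_push o ho, hG.2.1 n a ha]; exact P.map_zero _ _
  refine ⟨⟨hc, hk, fun n => ?_⟩, hs, ?_⟩
  · let G₁ := P.obj (G.obj (op (n + 1)))
    change ∃ h : Formal.smulFamily (I ^ (n + 1)) G₁ ≫ P.map (tn G n) = 0, IsIso (cokernel.desc _ _ h)
    have h : Formal.smulFamily (I ^ (n + 1)) G₁ ≫ P.map (tn G n) = 0 := Sigma.hom_ext _ _ fun a => by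
      rw [comp_zero, ← Category.assoc, show Sigma.ι (fun _ : ↥(I ^ (n + 1)) => G₁) a ≫
        Formal.smulFamily (I ^ (n + 1)) G₁ = Formal.smulMod A G₁ (a : A) from Sigma.ι_desc _ a,
        W7Cech.smulMod_natural, hk n a a.2, comp_zero]
    haveI : Epi (P.map (tn G n)) := by
      have hπ : cokernel.π (P.map (tn G n)) = 0 := by
        haveI := hu n _ (cokernel.π (P.map (tn G n))) (QC.isCoh_cokernel (hc (n + 1)).1 (hc n) _).2 inferInstance
        rw [← cancel_mono (adj.unit.app (cokernel (P.map (tn G n)))), zero_comp]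
        refine (adj.unit.naturality (cokernel.π (P.map (tn G n)))).trans ?_
        have h0 : R.map (cokernel.π (P.map (tn G n))) = 0 := by
          haveI := epi_tn hG n
          have h1 := congrArg R.map (cokernel.condition (P.map (tn G n)))
          rw [R.map_comp, Functor.map_zero] at h1
          haveI : Epi (R.map (P.map (tn G n))) := by
            have h2 : R.map (P.map (tn G n)) =
                adj.counit.app (G.obj (op (n + 1))) ≫ tn G n ≫ inv (adj.counit.app (G.obj (op n))) := by
              rw [← Category.assoc, IsIso.eq_comp_inv]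
              exact adj.counit.naturality (tn G n)
            rw [h2]
            haveI : Epi (tn G n ≫ inv (adj.counit.app (G.obj (op n)))) := epi_comp _ _
            exact epi_comp _ _
          rw [← cancel_epi (R.map (P.map (tn G n))), comp_zero]
          exact h1
        change _ ≫ P.map (R.map _) = 0
        rw [h0, Functor.map_zero, comp_zero]
      exact Abelian.epi_of_cokernel_π_eq_zero _ hπ
    let Q := cokernel (Formal.smulFamily (I ^ (n + 1)) G₁)
    let z : G₁ ⟶ Q := cokernel.π _
    have hQq : Coh.IsQCoh Q := W7Rees.isQCoh_modQuot G₁ _ (hc (n + 1)).1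
    haveI := hu (n + 1) Q z (QC.isFT_of_epi z (hc (n + 1)).2) inferInstance
    let w₀ : G.obj (op (n + 1)) ⟶ R.obj Q := inv (adj.counit.app (G.obj (op (n + 1)))) ≫ R.map z
    have hw₀ : P.map w₀ = z ≫ adj.unit.app Q := by
      rw [Functor.map_comp, ← hη]
      exact (adj.unit.naturality z).symm
    haveI : P.Faithful := inferInstance
    obtain ⟨w₁, hw₁⟩ := exists_desc hG n w₀ fun a ha => P.map_injective (by
      rw [Functor.map_comp, hw₀, W7Rees.smulMod_push o ho, Functor.map_zero, ← Category.assoc]
      rw [show Formal.smulMod A G₁ a ≫ z = 0 from smulMod_π I (n + 1) G₁ a ha, zero_comp])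
    have hw : P.map (tn G n) ≫ P.map w₁ ≫ inv (adj.unit.app Q) = z := by
      rw [← Category.assoc, ← P.map_comp, hw₁, hw₀, Category.assoc, IsIso.hom_inv_id, Category.comp_id]
    refine ⟨h, ⟨P.map w₁ ≫ inv (adj.unit.app Q), ?_, ?_⟩⟩
    · refine (cancel_epi z).1 ?_
      refine (Category.assoc _ _ _).symm.trans ?_
      exact ((congrArg (· ≫ P.map w₁ ≫ inv (adj.unit.app Q)) (cokernel.π_desc _ _ _)).trans hw).trans
        (Category.comp_id _).symm
    · refine (cancel_epi (P.map (tn G n))).1 ?_
      refine (Category.assoc _ _ _).symm.trans ?_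
      exact ((congrArg (· ≫ cokernel.desc _ _ h) hw).trans (cokernel.π_desc _ _ _)).trans (Category.comp_id _).symm
  · exact ⟨Functor.associator _ _ _ ≪≫ Functor.isoWhiskerLeft G
      (Functor.isoWhiskerLeft P (Scheme.Modules.restrictFunctorIsoPullback o).symm ≪≫ asIso adj.counit) ≪≫
      G.rightUnitor⟩

end Groth.Agent.W7Exist
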